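import Mathlib.Algebra.Order.Field.Rat
import Mathlib.Algebra.Order.Ring.Int
import Mathlib.Tactic.FieldSimp
import Mathlib.Tactic.Linarith
import Mathlib.Tactic.NormNum
import Mathlib.Tactic.Positivity

/-!
# The index of the centraliser
-/

set_option autoImplicit false
set_option maxRecDepth 100000

namespace CfsgLib.GTwoTwoLocal.Arith

/-- The test for one pair of degrees. -/
def pairTest (a b : ℤ) : Bool :=
  let c := -1 - a - b
  let num := a * b * c + 81 * (b * c) + 25 * (a * c) + 9 * (a * b)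
  let den := 4608 * (a * b * c)
  if decide (-153 < a ∧ a < 167) || decide (-91 < b ∧ b < 101) || decide (-77 < c ∧ c < 51) then true
  else if num == 0 then true
  else if den % num != 0 then true
  else
    let N := den / num
    if decide (N ≤ 0) || N % 2 == 0 || N % 7 != 0 || (576 * N) % a != 0 || (576 * N) % b != 0 ||
        (576 * N) % c != 0 then true
    else a == -729 && b == -91 && N == 7371

/-- A row of tests. -/
def rowTest (i : ℕ) : Bool :=
  (List.range 195).all fun j => pairTest (39 + 64 * ((i : ℤ) - 97)) (37 + 64 * ((j : ℤ) - 97))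

theorem table_ok : (List.range 195).all rowTest = true := by decide +kernel

theorem div_ge {p q : ℚ} {x : ℤ} (hp : 0 ≤ p) (hq : 0 < q) (h : 0 < x ∨ (x : ℚ) ≤ -q) :
    -(p / q) ≤ p / (x : ℚ) := by
  rcases h with h | h
  · have : (0 : ℚ) ≤ p / x := div_nonneg hp (by exact_mod_cast h.le)
    have : (0 : ℚ) ≤ p / q := div_nonneg hp hq.le
    linarith
  · have hx : (x : ℚ) < 0 := by linarith
    rw [neg_le, ← div_neg]
    exact div_le_div_of_nonneg_left hp hq (by linarith)

/-- The three degrees and the index are determined. -/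
theorem index_eq {N : ℕ} {a b c : ℤ} (hodd : N % 2 = 1) (h7 : 7 ∣ N)
    (ha : a % 64 = 39) (hb : b % 64 = 37) (hc : c = -1 - a - b)
    (hla : a ≤ -153 ∨ 167 ≤ a) (hlb : b ≤ -91 ∨ 101 ≤ b) (hlc : c ≤ -77 ∨ 51 ≤ c)
    (hda : a ∣ 576 * (N : ℤ)) (hdb : b ∣ 576 * (N : ℤ)) (hdc : c ∣ 576 * (N : ℤ))
    (hsa : a * a ≤ 576 * (N : ℤ)) (hsb : b * b ≤ 576 * (N : ℤ))
    (heq : (N : ℚ) * (1 + 81 / (a : ℚ) + 25 / (b : ℚ) + 9 / (c : ℚ)) = 4608) :
    N = 7371 ∧ a = -729 ∧ b = -91 := by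
  have hL : (7 : ℚ) / 100 ≤ 1 + 81 / (a : ℚ) + 25 / (b : ℚ) + 9 / (c : ℚ) := by
    have q1 := div_ge (p := 81) (q := 153) (x := a) (by norm_num) (by norm_num)
      (hla.elim (fun h => Or.inr (by exact_mod_cast h)) fun h => Or.inl (by omega))
    have q2 := div_ge (p := 25) (q := 91) (x := b) (by norm_num) (by norm_num)
      (hlb.elim (fun h => Or.inr (by exact_mod_cast h)) fun h => Or.inl (by omega))
    have q3 := div_ge (p := 9) (q := 77) (x := c) (by norm_num) (by norm_num)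
      (hlc.elim (fun h => Or.inr (by exact_mod_cast h)) fun h => Or.inl (by omega))
    norm_num at q1 q2 q3
    linarith
  have hN : (N : ℚ) ≤ 66000 := by
    have h0 : (0 : ℚ) ≤ N := Nat.cast_nonneg N
    nlinarith
  have hNi : N ≤ 66000 := by exact_mod_cast hN
  obtain ⟨i, hi, hai⟩ : ∃ i : ℕ, i < 195 ∧ a = 39 + 64 * ((i : ℤ) - 97) := by
    have h1 : -6200 ≤ a ∧ a ≤ 6200 := ⟨by nlinarith, by nlinarith⟩
    refine ⟨((a - 39) / 64 + 97).toNat, ?_, ?_⟩ <;> omega
  obtain ⟨j, hj, hbj⟩ : ∃ j : ℕ, j < 195 ∧ b = 37 + 64 * ((j : ℤ) - 97) := by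
    have h1 : -6200 ≤ b ∧ b ≤ 6200 := ⟨by nlinarith, by nlinarith⟩
    refine ⟨((b - 37) / 64 + 97).toNat, ?_, ?_⟩ <;> omega
  have hT := List.all_eq_true.1 (List.all_eq_true.1 table_ok i (List.mem_range.2 hi)) j (List.mem_range.2 hj)
  rw [← hai, ← hbj] at hT
  have ha0 : a ≠ 0 := by omega
  have hb0 : b ≠ 0 := by omega
  have hc0 : c ≠ 0 := by omega
  have hq : (N : ℤ) * (a * b * c + 81 * (b * c) + 25 * (a * c) + 9 * (a * b)) = 4608 * (a * b * c) := by
    have qa : (a : ℚ) ≠ 0 := Int.cast_ne_zero.2 ha0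
    have qb : (b : ℚ) ≠ 0 := Int.cast_ne_zero.2 hb0
    have qc : (c : ℚ) ≠ 0 := Int.cast_ne_zero.2 hc0
    field_simp at heq
    have : ((N : ℤ) : ℚ) * ((a * b * c + 81 * (b * c) + 25 * (a * c) + 9 * (a * b) : ℤ) : ℚ) =
        ((4608 * (a * b * c) : ℤ) : ℚ) := by
      push_cast
      linarith
    exact_mod_cast this
  set num := a * b * c + 81 * (b * c) + 25 * (a * c) + 9 * (a * b)
  have hnum : num ≠ 0 := by
    intro h; rw [h, mul_zero] at hq
    exact mul_ne_zero (by norm_num) (mul_ne_zero (mul_ne_zero ha0 hb0) hc0) hq.symm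
  simp only [pairTest, ← hc] at hT
  rw [show 4608 * (a * b * c) = (N : ℤ) * num from hq.symm, Int.mul_ediv_cancel _ hnum,
    Int.mul_emod_left] at hT
  rw [if_neg (by simp; omega), if_neg (by simpa using hnum), if_neg (by simp), if_neg ?_] at hT
  · simp only [Bool.and_eq_true, beq_iff_eq] at hT
    exact ⟨by exact_mod_cast hT.2, hT.1.1, hT.1.2⟩
  · simp only [Bool.or_eq_true, decide_eq_true_eq, beq_iff_eq, bne_iff_ne]
    rintro (((((h | h) | h) | h) | h) | h)
    · omega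
    · omega
    · omega
    exacts [h (Int.emod_eq_zero_of_dvd hda), h (Int.emod_eq_zero_of_dvd hdb), h (Int.emod_eq_zero_of_dvd hdc)]

end CfsgLib.GTwoTwoLocal.Arith
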