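import Cfsg.Agent.Lib.GTwoTwoLocal.ModelCheck
import Mathlib.Algebra.BigOperators.Group.Finset.Basic
import Mathlib.Algebra.Group.Conj
import Mathlib.SetTheory.Cardinal.Finite
import Mathlib.Data.Fintype.BigOperators
import Mathlib.Tactic.Group
import Mathlib.Algebra.Group.Submonoid.Basic
import Mathlib.Data.List.GetD

/-!
# Groups coded by the centraliser model
-/

set_option autoImplicit false
set_option maxRecDepth 100000

namespace CfsgLib.GTwoTwoLocal

open Model

/-- An isomorphism with the model. -/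
structure Coded (C : Type*) [Group C] where
  code : C → ℕ
  lt : ∀ x, code x < 576
  inj : Function.Injective code
  surj : ∀ n < 576, ∃ x, code x = n
  mul : ∀ x y, code (x * y) = mulC (code x) (code y)

namespace Coded

variable {C : Type*} [Group C] (e : Coded C)

theorem code_one : e.code 1 = 0 := by
  obtain ⟨u, hu⟩ := e.surj 0 (by norm_num)
  have h : u * u = u := e.inj (by rw [e.mul, hu]; decide +kernel)
  rw [mul_eq_left] at h
  rw [← h, hu]

theorem code_eq_zero {x : C} : e.code x = 0 ↔ x = 1 :=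
  ⟨fun h => e.inj (h.trans e.code_one.symm), fun h => h ▸ e.code_one⟩

theorem code_inv (x : C) : e.code x⁻¹ = invC (e.code x) := by
  have h := allBelow_spec inv_ok _ (e.lt x)
  simp only [Bool.and_eq_true, Nat.blt_eq, beq_iff_eq] at h
  obtain ⟨y, hy⟩ := e.surj _ h.1.1.1
  have hxy : x * y = 1 := e.code_eq_zero.1 (by rw [e.mul, hy]; exact h.1.1.2)
  rw [inv_eq_of_mul_eq_one_right hxy, hy]

/-- The class of an element. -/
def cl (x : C) : ℕ := cls (e.code x)

theorem cl_lt (x : C) : e.cl x < 20 := by
  have h := allBelow_spec wit_ok _ (e.lt x)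
  simp only [Bool.and_eq_true, Nat.blt_eq] at h
  exact h.1.1

theorem exists_rep {k : ℕ} (hk : k < 20) : ∃ x, e.code x = rep k ∧ e.cl x = k := by
  have h := allBelow_spec size_ok k hk
  simp only [Bool.and_eq_true, Nat.blt_eq, beq_iff_eq] at h
  obtain ⟨x, hx⟩ := e.surj _ h.1.1.1
  exact ⟨x, hx, by rw [cl, hx]; exact h.1.1.2⟩

theorem isConj_of_cl {x y : C} (h : e.cl x = e.cl y) : IsConj x y := by
  obtain ⟨r, hr, -⟩ := e.exists_rep (e.cl_lt x)
  have key : ∀ u : C, e.cl u = e.cl x → IsConj r u := by
    intro u hu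
    have h := allBelow_spec wit_ok _ (e.lt u)
    simp only [Bool.and_eq_true, Nat.blt_eq, beq_iff_eq] at h
    obtain ⟨w, hw⟩ := e.surj _ h.1.2
    refine isConj_iff.2 ⟨w, ?_⟩
    have hh : w * r = u * w := e.inj (by rw [e.mul, e.mul, hw, hr, h.2, ← hu]; rfl)
    rw [hh, mul_inv_cancel_right]
  exact (key x rfl).symm.trans (key y h.symm)

/-- Facts on a monomial subgroup of the table. -/
theorem subTest_parts {n : ℕ} (hn : n < 23) :
    lab n 0 = 1 ∧ (∀ g ∈ genL.getD n [], g < 576 ∧ lab n g ≠ 0) ∧
    chainElems (genL.getD n []) (chainL.getD n []) [0] = true ∧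
    (∀ x ∈ 0 :: (chainL.getD n []).map Prod.fst, x < 576 ∧ lab n x ≠ 0 ∧ lab n x < 9) ∧
    countBelow 576 (fun x => lab n x != 0) = (chainL.getD n []).length + 1 ∧
    (∀ g ∈ genL.getD n [], ∀ x ∈ 0 :: (chainL.getD n []).map Prod.fst,
      lab n (mulC x g) = (lab n x - 1 + (lab n g - 1)) % 8 + 1) := by
  have h := allBelow_spec subs_ok n hn
  simp only [subTest, Bool.and_eq_true, List.all_eq_true, beq_iff_eq, bne_iff_ne,
    Nat.blt_eq] at h
  obtain ⟨⟨⟨⟨⟨h1, h2⟩, h3⟩, h4⟩, h5⟩, h6⟩ := h
  exact ⟨h1, fun g hg => h2 g hg, h3, fun x hx => ⟨(h4 x hx).1.1, (h4 x hx).1.2, (h4 x hx).2⟩, h5,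
    fun g hg x hx => h6 g hg x hx⟩

/-- A property stable under multiplication by generators holds along a chain. -/
theorem chain_induction {gs : List ℕ} (P : C → Prop)
    (hstep : ∀ x g, P x → e.code g ∈ gs → P (x * g))
    (hgs : ∀ g ∈ gs, g < 576) :
    ∀ (r : List (ℕ × ℕ × ℕ)) (acc : List ℕ), chainElems gs r acc = true →
      (∀ a ∈ acc, ∀ x, e.code x = a → P x) →
      (∀ a ∈ acc, a < 576) →
      ∀ a ∈ r.map Prod.fst, ∀ x, e.code x = a → P x
  | [], _, _, _, _ => by simp
  | (y, i, k) :: r, acc, h, hP, hlt => by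
    simp only [chainElems, Bool.and_eq_true, Nat.blt_eq, beq_iff_eq] at h
    obtain ⟨⟨⟨hi, hk⟩, hy⟩, hr⟩ := h
    have hia : acc.getD i 0 ∈ acc := by
      rw [List.getD_eq_getElem _ _ hi]; exact List.getElem_mem _
    have hka : gs.getD k 0 ∈ gs := by
      rw [List.getD_eq_getElem _ _ hk]; exact List.getElem_mem _
    obtain ⟨u, hu⟩ := e.surj _ (hlt _ hia)
    obtain ⟨g, hg⟩ := e.surj _ (hgs _ hka)
    have hyc : e.code (u * g) = y := by rw [e.mul, hu, hg, hy]
    have hPy : ∀ x, e.code x = y → P x := by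
      intro x hx
      rw [e.inj (hx.trans hyc.symm)]
      exact hstep u g (hP _ hia u hu) (hg ▸ hka)
    intro a ha
    rcases List.mem_cons.1 ha with rfl | ha
    · exact hPy
    · refine chain_induction P hstep hgs r (acc ++ [y]) hr ?_ ?_ a ha
      · intro b hb
        rcases List.mem_append.1 hb with hb | hb
        exacts [hP b hb, List.mem_singleton.1 hb ▸ hPy]
      · intro b hb
        rcases List.mem_append.1 hb with hb | hb
        exacts [hlt b hb, List.mem_singleton.1 hb ▸ hyc ▸ e.lt _]

include e in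
theorem mem_closure_gens (x : C) :
    x ∈ Submonoid.closure {g : C | e.code g ∈ gensM} := by
  obtain ⟨-, hg, hc, hm, hcnt, -⟩ := subTest_parts (n := 0) (by norm_num)
  have hall : ∀ a < 576, a ∈ 0 :: (chainL.getD 0 []).map Prod.fst := by
    intro a ha
    have h := (by decide +kernel : allBelow 576 (fun a =>
      (0 :: (chainL.getD 0 []).map Prod.fst).contains a) = true)
    have := allBelow_spec h a ha
    simpa using this
  rcases List.mem_cons.1 (hall _ (e.lt x)) with h0 | h0
  · rw [e.code_eq_zero.1 h0]; exact one_mem _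
  · refine e.chain_induction (fun y => y ∈ Submonoid.closure {g : C | e.code g ∈ gensM})
      (fun u g hu hgm => mul_mem hu (Submonoid.subset_closure hgm)) (fun g h => (hg g h).1)
      _ [0] hc ?_ ?_ _ h0 x rfl
    · intro a ha y hy
      rw [List.mem_singleton.1 ha] at hy
      rw [e.code_eq_zero.1 hy]; exact one_mem _
    · intro a ha
      rw [List.mem_singleton.1 ha]; norm_num

theorem cl_conj (g x : C) : e.cl (g * x * g⁻¹) = e.cl x := by
  induction e.mem_closure_gens g using Submonoid.closure_induction generalizing x with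
  | mem g hg =>
    have h := List.all_eq_true.1 conj_ok _ hg
    have := allBelow_spec h _ (e.lt x)
    rw [cl, cl, e.mul, e.mul, e.code_inv]
    exact beq_iff_eq.1 this
  | one => simp
  | mul a b _ _ ha hb => rw [show a * b * x * (a * b)⁻¹ = a * (b * x * b⁻¹) * a⁻¹ by group, ha, hb]

include e in
theorem card_eq : Nat.card C = 576 := by
  rw [← Nat.card_fin 576]
  exact Nat.card_eq_of_bijective (fun x => (⟨e.code x, e.lt x⟩ : Fin 576))
    ⟨fun a b h => e.inj (congrArg Fin.val h), fun n => by
      obtain ⟨x, hx⟩ := e.surj n n.2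
      exact ⟨x, Fin.ext hx⟩⟩

variable [Fintype C]

theorem sum_code {M : Type*} [AddCommMonoid M] (f : ℕ → M) :
    ∑ x, f (e.code x) = ∑ n ∈ Finset.range 576, f n :=
  Finset.sum_bij (fun x _ => e.code x) (fun x _ => Finset.mem_range.2 (e.lt x))
    (fun _ _ _ _ h => e.inj h) (fun n hn => by
      obtain ⟨x, hx⟩ := e.surj n (Finset.mem_range.1 hn)
      exact ⟨x, Finset.mem_univ _, hx⟩) fun _ _ => rfl

theorem countBelow_eq (p : ℕ → Bool) :
    ∀ n, countBelow n p = ((Finset.range n).filter fun x => p x = true).card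
  | 0 => by simp [countBelow]
  | n + 1 => by
    rw [countBelow, countBelow_eq p n, Finset.range_add_one, Finset.filter_insert]
    by_cases h : p n = true
    · simp [h]
    · simp [h]

theorem card_filter_code (p : ℕ → Bool) :
    (Finset.univ.filter fun x : C => p (e.code x) = true).card = countBelow 576 p := by
  rw [countBelow_eq, Finset.card_filter, e.sum_code fun n => if p n = true then 1 else 0,
    ← Finset.card_filter]

theorem card_class {k : ℕ} (hk : k < 20) :
    (Finset.univ.filter fun x : C => e.cl x = k).card = size k := by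
  have h := allBelow_spec size_ok k hk
  simp only [Bool.and_eq_true, Nat.blt_eq, beq_iff_eq] at h
  rw [← h.1.2, ← e.card_filter_code]
  refine congrArg Finset.card (Finset.filter_congr fun x _ => ?_)
  simp [cl]

/-- Summing a function of the class. -/
theorem sum_cl {M : Type*} [AddCommMonoid M] (f : ℕ → M) :
    ∑ x, f (e.cl x) = ∑ k ∈ Finset.range 20, size k • f k := by
  rw [← Finset.sum_fiberwise_of_maps_to (g := e.cl) (t := Finset.range 20)
    (fun x _ => Finset.mem_range.2 (e.cl_lt x))]
  refine Finset.sum_congr rfl fun k hk => ?_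
  rw [Finset.sum_congr rfl fun x hx => by rw [(Finset.mem_filter.1 hx).2], Finset.sum_const,
    e.card_class (Finset.mem_range.1 hk)]

end Coded

end CfsgLib.GTwoTwoLocal
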