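import Cfsg.Agent.Lib.GTwoTwoLocal.SearchCheck
import Mathlib.Algebra.BigOperators.Group.Finset.Basic
import Mathlib.Algebra.Order.BigOperators.Group.Finset
import Mathlib.Algebra.Order.Ring.Int
import Mathlib.Data.Fintype.BigOperators
import Mathlib.Algebra.Order.Ring.Abs
import Mathlib.Tactic.Linarith
import Mathlib.Tactic.Ring
import Mathlib.Tactic.Push
import Mathlib.Tactic.LinearCombination
import Mathlib.Data.Finset.Max

/-!
# The enumeration is complete
-/

set_option autoImplicit false

namespace CfsgLib.GTwoTwoLocal.Search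

theorem insertC_perm (c : List ℤ) : ∀ l, (insertC c l).Perm (c :: l)
  | [] => List.Perm.refl _
  | d :: r => by
    unfold insertC
    split
    · exact List.Perm.refl _
    · exact ((insertC_perm c r).cons d).trans (List.Perm.swap c d r)

theorem sortC_perm : ∀ l, (sortC l).Perm l
  | [] => List.Perm.refl _
  | c :: r => (insertC_perm c (sortC r)).trans ((sortC_perm r).cons c)

theorem length_comb {k : ℕ} : ∀ (cols : List (List ℤ)) (xs : List ℤ),
    (∀ c ∈ cols, c.length = k) → (comb k cols xs).length = k
  | [], _, _ => by simp [comb]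
  | _ :: _, [], _ => by simp [comb]
  | c :: r, x :: xs, h => by
    simp [comb, length_comb r xs (fun d hd => h d (List.mem_cons_of_mem _ hd)),
      h c (List.mem_cons_self)]

theorem cs_step {x e A S X : ℤ} (hS : 0 ≤ S) (hX : 0 ≤ X) (h : A * A ≤ S * X) :
    (x * e + A) * (x * e + A) ≤ (e * e + S) * (x * x + X) := by
  have h1 : (2 * (x * e * A)) ^ 2 ≤ (e * e * X + x * x * S) ^ 2 := by
    nlinarith [sq_nonneg (e * e * X - x * x * S),
      mul_le_mul_of_nonneg_left h (mul_self_nonneg (x * e))]
  have h2 : (0 : ℤ) ≤ e * e * X + x * x * S :=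
    add_nonneg (mul_nonneg (mul_self_nonneg e) hX) (mul_nonneg (mul_self_nonneg x) hS)
  have h3 := abs_le_of_sq_le_sq' h1 h2
  nlinarith [h3.2]

theorem sumsq_nonneg {k : ℕ} : ∀ (cols : List (List ℤ)), ∀ s ∈ sumsq k cols, (0 : ℤ) ≤ s
  | [] => by intro s hs; rw [sumsq] at hs; rw [List.eq_of_mem_replicate hs]
  | c :: r => by
    intro s hs
    rw [sumsq, List.zipWith_map_left] at hs
    obtain ⟨i, hi, rfl⟩ := List.getElem_of_mem hs
    rw [List.getElem_zipWith]
    have := sumsq_nonneg r _ (List.getElem_mem (l := sumsq k r) (n := i) (by simp at hi; omega))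
    nlinarith [mul_self_nonneg (c[i]'(by simp at hi; omega))]

theorem feasible_mono {b b' : ℤ} (hbb : b ≤ b') : ∀ (ns ss : List ℤ), (∀ s ∈ ss, 0 ≤ s) →
    feasible ns ss b = true → feasible ns ss b' = true
  | [], _, _, _ => by simp [feasible]
  | _ :: _, [], _, _ => by simp [feasible]
  | n :: ns, s :: ss, hs, h => by
    simp only [feasible, Bool.and_eq_true, decide_eq_true_eq] at h ⊢
    exact ⟨h.1.trans (mul_le_mul_of_nonneg_left hbb (hs s List.mem_cons_self)),
      feasible_mono hbb ns ss (fun a ha => hs a (List.mem_cons_of_mem _ ha)) h.2⟩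

theorem feasible_step {x X : ℤ} (hX : 0 ≤ X) : ∀ (c A S : List ℤ), (∀ s ∈ S, 0 ≤ s) →
    feasible A S X = true →
    feasible (List.zipWith (· + ·) (c.map (x * ·)) A) (List.zipWith (· + ·) (c.map fun e => e * e) S)
      (x * x + X) = true
  | [], _, _, _, _ => by simp [feasible]
  | _ :: _, [], _, _, _ => by simp [feasible]
  | _ :: _, _ :: _, [], _, _ => by simp [feasible]
  | e :: c, a :: A, s :: S, hs, h => by
    simp only [feasible, Bool.and_eq_true, decide_eq_true_eq, List.map_cons, List.zipWith_cons_cons] at h ⊢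
    exact ⟨cs_step (hs s List.mem_cons_self) hX h.1,
      feasible_step hX c A S (fun a ha => hs a (List.mem_cons_of_mem _ ha)) h.2⟩

theorem sum_sq_nonneg (xs : List ℤ) : 0 ≤ (xs.map fun x => x * x).sum :=
  List.sum_nonneg (by simp only [List.mem_map]; rintro _ ⟨x, -, rfl⟩; exact mul_self_nonneg x)

theorem feasible_replicate (k : ℕ) : feasible (List.replicate k 0) (List.replicate k 0) 0 = true := by
  induction k with
  | zero => simp [feasible]
  | succ k ih => simp [List.replicate_succ, feasible, ih]

theorem feasible_comb {k : ℕ} : ∀ (cols : List (List ℤ)) (xs : List ℤ), cols.length = xs.length →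
    feasible (comb k cols xs) (sumsq k cols) (xs.map fun x => x * x).sum = true
  | [], xs, h => by
    rw [List.eq_nil_of_length_eq_zero h.symm]
    exact feasible_replicate k
  | c :: r, [], h => by simp at h
  | c :: r, x :: xs, h => by
    rw [comb, sumsq, List.map_cons, List.sum_cons]
    exact feasible_step (sum_sq_nonneg xs) c _ _ (sumsq_nonneg r) (feasible_comb r xs (by simpa using h))

theorem zip_cancel {x : ℤ} : ∀ (c A : List ℤ), c.length = A.length →
    List.zipWith (fun n e => n - x * e) (List.zipWith (· + ·) (c.map (x * ·)) A) c = A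
  | [], A, h => by rw [List.eq_nil_of_length_eq_zero h.symm]; rfl
  | e :: c, [], h => by simp at h
  | e :: c, a :: A, h => by
    simp only [List.map_cons, List.zipWith_cons_cons, zip_cancel c A (by simpa using h)]
    rw [add_sub_cancel_left]

theorem mem_vrange {x b : ℤ} (h : x * x ≤ b) (hb : b < 9) : x ∈ vrange := by
  have h1 : -2 ≤ x ∧ x ≤ 2 := ⟨by nlinarith, by nlinarith⟩
  simp only [vrange, List.mem_cons, List.not_mem_nil, or_false]
  omega

theorem solve_complete {k : ℕ} : ∀ (cols : List (List ℤ)) (xs : List ℤ) (bud : ℤ),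
    cols.length = xs.length → (∀ c ∈ cols, c.length = k) → (xs.map fun x => x * x).sum ≤ bud → bud < 9 →
    (xs, bud - (xs.map fun x => x * x).sum) ∈ solve k cols bud (comb k cols xs)
  | [], xs, bud, h, _, _, _ => by
    rw [List.eq_nil_of_length_eq_zero h.symm]
    simp [solve, comb]
  | c :: r, [], bud, h, _, _, _ => by simp at h
  | c :: r, x :: xs, bud, h, hl, hb, h9 => by
    have hlr := fun d hd => hl d (List.mem_cons_of_mem c hd)
    rw [List.map_cons, List.sum_cons] at hb ⊢
    have h0 := sum_sq_nonneg xs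
    unfold solve
    split_ifs with hb0 hz hf
    · have hb' : bud = 0 := by simpa using hb0
      have hx : x = 0 := mul_self_eq_zero.1 (le_antisymm (show x * x ≤ 0 by linarith) (mul_self_nonneg x))
      have hs : (xs.map fun x => x * x).sum = 0 := le_antisymm (by linarith [mul_self_nonneg x]) h0
      have hall : ∀ y ∈ xs, y = 0 := by
        intro y hy
        have := List.single_le_sum (fun z hz => by
          obtain ⟨w, -, rfl⟩ := List.mem_map.1 hz; exact mul_self_nonneg w) _
          (List.mem_map.2 ⟨y, hy, rfl⟩ : y * y ∈ xs.map fun x => x * x)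
        exact mul_self_eq_zero.1 (le_antisymm (this.trans hs.le) (mul_self_nonneg y))
      have hxs : xs = List.replicate r.length 0 := by
        rw [show r.length = xs.length by simpa using h]
        exact List.eq_replicate_iff.2 ⟨rfl, hall⟩
      rw [List.mem_singleton, hb', hs, hx, List.replicate_succ, hxs]
      simp
    · exfalso
      have hb' : bud = 0 := by simpa using hb0
      have hx : x = 0 := mul_self_eq_zero.1 (le_antisymm (show x * x ≤ 0 by linarith) (mul_self_nonneg x))
      refine hz (List.all_eq_true.2 fun n hn => ?_)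
      have hF := feasible_mono (b' := 0) (show ((x :: xs).map fun x => x * x).sum ≤ 0 by
        simp only [List.map_cons, List.sum_cons]; linarith) _ _ (sumsq_nonneg (c :: r))
        (feasible_comb (k := k) (c :: r) (x :: xs) h)
      have key : ∀ (ns ss : List ℤ), ns.length ≤ ss.length → feasible ns ss 0 = true → ∀ n ∈ ns, n = 0 := by
        intro ns
        induction ns with
        | nil => simp
        | cons m ns ih =>
          intro ss hlen hh n hn
          cases ss with
          | nil => simp at hlen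
          | cons s ss =>
            simp only [feasible, Bool.and_eq_true, decide_eq_true_eq, mul_zero] at hh
            rcases List.mem_cons.1 hn with rfl | hn
            · exact mul_self_eq_zero.1 (le_antisymm hh.1 (mul_self_nonneg _))
            · exact ih ss (by simpa using hlen) hh.2 n hn
      have hlen : ∀ (cs : List (List ℤ)), (∀ d ∈ cs, d.length = k) → (sumsq k cs).length = k := by
        intro cs
        induction cs with
        | nil => simp [sumsq]
        | cons d cs ih => intro hd; simp [sumsq, ih (fun e he => hd e (List.mem_cons_of_mem _ he)), hd d (by simp)]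
      simpa using key _ _ (by rw [length_comb (c :: r) (x :: xs) hl, hlen _ hl]) hF n hn
    · refine List.mem_flatMap.2 ⟨x, mem_vrange (by linarith) h9, ?_⟩
      rw [if_pos (by linarith)]
      refine List.mem_map.2 ⟨(xs, bud - x * x - (xs.map fun x => x * x).sum), ?_,
        Prod.ext rfl (by show _ = _; ring)⟩
      rw [comb, zip_cancel c _ (by rw [length_comb r xs hlr, hl c List.mem_cons_self])]
      exact solve_complete r xs (bud - x * x) (by simpa using h) hlr (by linarith)
        (by nlinarith [mul_self_nonneg x])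
    · exact absurd (feasible_mono (b' := bud)
        (show ((x :: xs).map fun x => x * x).sum ≤ bud by simp only [List.map_cons, List.sum_cons]; linarith) _ _ (sumsq_nonneg (c :: r))
        (feasible_comb (k := k) (c :: r) (x :: xs) h)) (by simpa using hf)

variable {ι : Type*}

theorem parts_complete [DecidableEq ι] (f : ι → ℤ) : ∀ (fuel : ℕ) (S : Finset ι) (bud mx : ℤ),
    (∑ i ∈ S, f i * f i) = bud → bud < (fuel : ℤ) → bud < 9 → (∀ i ∈ S, f i ≠ 0 ∧ |f i| ≤ mx) →
    ∃ l : List (ι × ℤ), (l.map Prod.fst).Nodup ∧ (∀ i, i ∈ l.map Prod.fst ↔ i ∈ S) ∧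
      (∀ p ∈ l, p.2 = 1 ∨ p.2 = -1) ∧ l.map (fun p => p.2 * f p.1) ∈ parts fuel bud mx
  | 0, S, bud, mx, hsum, hlt, _, _ => by
    have : 0 ≤ bud := hsum ▸ Finset.sum_nonneg fun i _ => mul_self_nonneg (f i)
    simp at hlt; omega
  | fuel + 1, S, bud, mx, hsum, hlt, h9, hS => by
    rcases S.eq_empty_or_nonempty with rfl | hne
    · refine ⟨[], by simp, by simp, by simp, ?_⟩
      simp only [Finset.sum_empty] at hsum
      simp [parts, ← hsum]
    obtain ⟨i₀, hi₀, hmax⟩ := S.exists_max_image (fun i => |f i|) hne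
    obtain ⟨hf0, hfmx⟩ := hS i₀ hi₀
    have hsq : f i₀ * f i₀ = |f i₀| * |f i₀| := (abs_mul_abs_self _).symm
    have hpos : 1 ≤ |f i₀| := Int.one_le_abs hf0
    have hsplit := Finset.add_sum_erase S (fun i => f i * f i) hi₀
    rw [hsum] at hsplit
    have hrest : 0 ≤ ∑ i ∈ S.erase i₀, f i * f i := Finset.sum_nonneg fun i _ => mul_self_nonneg (f i)
    have hle : |f i₀| * |f i₀| ≤ bud := by rw [← hsq]; linarith
    have h2 : |f i₀| ≤ 2 := by nlinarith
    obtain ⟨l, hnd, hmem, hs, hp⟩ := parts_complete f fuel (S.erase i₀) (bud - |f i₀| * |f i₀|) |f i₀|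
      (by rw [← hsq]; linarith) (by push_cast at hlt; nlinarith) (by nlinarith)
      (fun i hi => ⟨(hS i (Finset.mem_of_mem_erase hi)).1, hmax i (Finset.mem_of_mem_erase hi)⟩)
    refine ⟨(i₀, if 0 ≤ f i₀ then 1 else -1) :: l, ?_, ?_, ?_, ?_⟩
    · rw [List.map_cons, List.nodup_cons]
      exact ⟨fun h => by simpa using (hmem i₀).1 h, hnd⟩
    · intro i
      rw [List.map_cons, List.mem_cons, hmem, Finset.mem_erase]
      constructor
      · rintro (rfl | h)
        exacts [hi₀, h.2]
      · intro h
        by_cases e : i = i₀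
        exacts [Or.inl e, Or.inr ⟨e, h⟩]
    · intro p hp'
      rcases List.mem_cons.1 hp' with rfl | hp'
      · dsimp only; split_ifs <;> simp
      · exact hs p hp'
    · have habs : (if 0 ≤ f i₀ then (1 : ℤ) else -1) * f i₀ = |f i₀| := by
        split_ifs with hh
        · rw [one_mul, abs_of_nonneg hh]
        · rw [abs_of_neg (by omega)]; ring
      have hb0 : (bud == 0) = false := by
        rw [beq_eq_false_iff_ne]; intro h; nlinarith
      rw [List.map_cons, habs, parts, hb0, if_neg (by simp)]
      refine List.mem_flatMap.2 ⟨|f i₀|, ?_, ?_⟩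
      · simp only [List.mem_cons, List.not_mem_nil, or_false]; omega
      · rw [if_pos ⟨hfmx, hle⟩]
        exact List.mem_map.2 ⟨_, hp, rfl⟩

theorem perm_map_exists {α β : Type*} (f : α → β) {c : List β} {l' : List β} (h : c.Perm l') :
    ∀ l : List α, l' = l.map f → ∃ l₂ : List α, l₂.Perm l ∧ c = l₂.map f := by
  induction h with
  | nil => intro l hl; exact ⟨l, List.Perm.refl _, hl⟩
  | cons x _ ih =>
    intro l hl
    cases l with
    | nil => simp at hl
    | cons a l =>
      simp only [List.map_cons, List.cons.injEq] at hl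
      obtain ⟨l₂, hp, e⟩ := ih l hl.2
      exact ⟨a :: l₂, hp.cons a, by rw [List.map_cons, ← hl.1, e]⟩
  | swap x y t =>
    intro l hl
    match l, hl with
    | [], hl => simp at hl
    | [_], hl => simp at hl
    | a :: b :: l, hl =>
      simp only [List.map_cons, List.cons.injEq] at hl
      exact ⟨b :: a :: l, List.Perm.swap a b l, by simp [hl.1, hl.2.1, hl.2.2]⟩
  | trans _ _ ih1 ih2 =>
    intro l hl
    obtain ⟨l₂, hp2, e2⟩ := ih2 l hl
    obtain ⟨l₃, hp3, e3⟩ := ih1 l₂ e2
    exact ⟨l₃, hp3.trans hp2, e3⟩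

/-- The column of a signed index. -/
def colOf (m : ℕ → ι → ℤ) (k : ℕ) (p : ι × ℤ) : List ℤ := (List.range k).map fun a => p.2 * m a p.1

/-- A state is realised by the coefficient functions. -/
structure Realised (m : ℕ → ι → ℤ) (P : ι) (k : ℕ) (cols : List (List ℤ)) where
  list : List (ι × ℤ)
  nodup : (list.map Prod.fst).Nodup
  notMem : P ∉ list.map Prod.fst
  sign : ∀ p ∈ list, p.2 = 1 ∨ p.2 = -1
  eq : cols = list.map (colOf m k)
  zero : ∀ i, i ≠ P → i ∉ list.map Prod.fst → ∀ a < k, m a i = 0

theorem comb_colOf (m : ℕ → ι → ℤ) (k : ℕ) (g : ι × ℤ → ℤ) : ∀ l : List (ι × ℤ),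
    comb k (l.map (colOf m k)) (l.map g) =
      (List.range k).map fun a => (l.map fun p => g p * (p.2 * m a p.1)).sum
  | [] => by simp [comb, List.map_const']
  | p :: l => by
    simp only [List.map_cons, comb, comb_colOf m k g l, colOf, List.map_map, List.sum_cons]
    rw [List.zipWith_map, List.zipWith_self]
    rfl

variable [Fintype ι] [DecidableEq ι]

theorem realised_step {m : ℕ → ι → ℤ} {P : ι}
    (hg : ∀ a b, a < 11 → b < 11 → ∑ i, m a i * m b i = gram a b) (hP : ∀ a < 11, m a P = trc a)
    {k : ℕ} (hk : k < 11) {cols : List (List ℤ)} (h : Realised m P k cols) :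
    ∃ c ∈ children k cols, Nonempty (Realised m P (k + 1) c) := by
  obtain ⟨l, hnd, hnm, hsg, rfl, hz⟩ := h
  set xs := l.map fun p => p.2 * m k p.1 with hxs
  set S := Finset.univ.filter fun i => i ≠ P ∧ i ∉ l.map Prod.fst with hS
  have hss : ∀ p ∈ l, p.2 * p.2 = 1 := fun p hp => by rcases hsg p hp with e | e <;> rw [e] <;> rfl
  have split : ∀ f : ι → ℤ, ∑ i, f i = f P + (l.map fun p => f p.1).sum + ∑ i ∈ S, f i := by
    intro f
    have hdisj : Disjoint (insert P (l.map Prod.fst).toFinset) S :=
      Finset.disjoint_left.2 fun i hi hi' => by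
        simp only [hS, Finset.mem_filter, Finset.mem_univ, true_and] at hi'
        rcases Finset.mem_insert.1 hi with e | hi
        exacts [hi'.1 e, hi'.2 (List.mem_toFinset.1 hi)]
    have hu : insert P (l.map Prod.fst).toFinset ∪ S = Finset.univ := by
      ext i
      simp only [hS, Finset.mem_union, Finset.mem_insert, List.mem_toFinset, Finset.mem_filter,
        Finset.mem_univ, true_and, iff_true]
      tauto
    rw [← hu, Finset.sum_union hdisj, Finset.sum_insert (by rwa [List.mem_toFinset]),
      List.sum_toFinset f hnd, List.map_map]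
    rfl
  have hneed : ((List.range k).map fun a => gram k a - trc k * trc a) =
      comb k (l.map (colOf m k)) xs := by
    rw [hxs, comb_colOf]
    refine List.map_congr_left fun a ha => ?_
    have ha' := List.mem_range.1 ha
    have h1 := split fun i => m k i * m a i
    rw [hg k a hk (ha'.trans hk), hP k hk, hP a (ha'.trans hk),
      Finset.sum_eq_zero fun i hi => by
        simp only [hS, Finset.mem_filter, Finset.mem_univ, true_and] at hi
        rw [hz i hi.1 hi.2 a ha', mul_zero], add_zero] at h1
    rw [h1, add_sub_cancel_left]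
    refine congrArg List.sum (List.map_congr_left fun p hp => ?_)
    linear_combination -(m k p.1 * m a p.1) * hss p hp
  have hnorm : gram k k - trc k * trc k = (xs.map fun x => x * x).sum + ∑ i ∈ S, m k i * m k i := by
    have h1 := split fun i => m k i * m k i
    rw [hg k k hk hk, hP k hk] at h1
    rw [h1, hxs, List.map_map, add_assoc, add_sub_cancel_left]
    congr 1
    refine congrArg List.sum (List.map_congr_left fun p hp => ?_)
    simp only [Function.comp]
    linear_combination -(m k p.1 * m k p.1) * hss p hp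
  have h9 : gram k k - trc k * trc k < 9 := by
    have : ∀ k : Fin 11, gram k k - trc k * trc k < 9 := by decide +kernel
    exact this ⟨k, hk⟩
  have hlen : ∀ c ∈ l.map (colOf m k), c.length = k := by
    intro c hc; obtain ⟨p, -, rfl⟩ := List.mem_map.1 hc; simp [colOf]
  have hS0 : 0 ≤ ∑ i ∈ S, m k i * m k i := Finset.sum_nonneg fun i _ => mul_self_nonneg _
  have hsol := solve_complete (k := k) (l.map (colOf m k)) xs (gram k k - trc k * trc k)
    (by simp [hxs]) hlen (by linarith) h9
  rw [← hneed] at hsol
  have hbud : gram k k - trc k * trc k - (xs.map fun x => x * x).sum = ∑ i ∈ S, m k i * m k i := by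
    linarith
  rw [hbud] at hsol
  set S' := S.filter fun i => m k i ≠ 0 with hS'
  have hsum' : ∑ i ∈ S', m k i * m k i = ∑ i ∈ S, m k i * m k i := by
    rw [hS', Finset.sum_filter]
    exact Finset.sum_congr rfl fun i _ => by by_cases e : m k i = 0 <;> simp [e]
  have hlt9 : ∑ i ∈ S, m k i * m k i < 9 := by have := sum_sq_nonneg xs; linarith
  obtain ⟨l', hnd', hmem', hsg', hparts⟩ := parts_complete (m k) 9 S' _ 2 hsum' (by push_cast; exact hlt9) hlt9
    (fun i hi => by
      obtain ⟨hiS, hne⟩ := Finset.mem_filter.1 hi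
      refine ⟨hne, ?_⟩
      have h1 : m k i * m k i ≤ ∑ j ∈ S, m k j * m k j :=
        Finset.single_le_sum (fun j _ => mul_self_nonneg (m k j)) hiS
      rw [abs_le]; constructor <;> nlinarith)
  refine ⟨_, List.mem_flatMap.2 ⟨_, hsol, List.mem_map.2 ⟨_, hparts, rfl⟩⟩, ?_⟩
  have hinS : ∀ q ∈ l', q.1 ∈ S := fun q hq =>
    (Finset.mem_filter.1 ((hmem' q.1).1 (List.mem_map.2 ⟨q, hq, rfl⟩))).1
  have hnew : ∀ q ∈ l', colOf m (k + 1) q = List.replicate k 0 ++ [q.2 * m k q.1] := by
    intro q hq
    have hqS := hinS q hq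
    simp only [hS, Finset.mem_filter, Finset.mem_univ, true_and] at hqS
    rw [colOf, List.range_succ, List.map_append]
    congr 1
    refine List.eq_replicate_iff.2 ⟨by simp, fun y hy => ?_⟩
    obtain ⟨a, ha, rfl⟩ := List.mem_map.1 hy
    rw [hz q.1 hqS.1 hqS.2 a (List.mem_range.1 ha), mul_zero]
  have holdE : List.zipWith (fun c x => c ++ [x]) (l.map (colOf m k)) xs = l.map (colOf m (k + 1)) := by
    rw [hxs, List.zipWith_map, List.zipWith_self]
    refine List.map_congr_left fun p _ => ?_
    rw [colOf, colOf, List.range_succ, List.map_append]; rfl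
  have hnewE : ((l'.map fun p => p.2 * m k p.1).map fun v => List.replicate k 0 ++ [v]) =
      l'.map (colOf m (k + 1)) := by
    rw [List.map_map]
    exact List.map_congr_left fun q hq => (hnew q hq).symm
  obtain ⟨L, hLp, hLe⟩ := perm_map_exists (colOf m (k + 1))
    (sortC_perm (List.zipWith (fun c x => c ++ [x]) (l.map (colOf m k)) xs ++
      (l'.map fun p => p.2 * m k p.1).map fun v => List.replicate k 0 ++ [v])) (l ++ l')
    (by rw [List.map_append, holdE, hnewE])
  have hfst := hLp.map Prod.fst
  refine ⟨⟨L, ?_, ?_, ?_, hLe, ?_⟩⟩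
  · rw [hfst.nodup_iff, List.map_append, List.nodup_append]
    refine ⟨hnd, hnd', ?_⟩
    intro a ha b hb e
    obtain ⟨q, hq, rfl⟩ := List.mem_map.1 hb
    have hqS := hinS q hq
    simp only [hS, Finset.mem_filter, Finset.mem_univ, true_and] at hqS
    exact hqS.2 (e ▸ ha)
  · rw [hfst.mem_iff, List.map_append, List.mem_append]
    rintro (h | h)
    · exact hnm h
    · obtain ⟨q, hq, e⟩ := List.mem_map.1 h
      have hqS := hinS q hq
      simp only [hS, Finset.mem_filter, Finset.mem_univ, true_and] at hqS
      exact hqS.1 e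
  · intro p hp
    rcases List.mem_append.1 (hLp.mem_iff.1 hp) with h | h
    exacts [hsg p h, hsg' p h]
  · intro i hiP hi a ha
    rw [hfst.mem_iff, List.map_append, List.mem_append, not_or] at hi
    rcases Nat.lt_succ_iff_lt_or_eq.1 ha with h | rfl
    · exact hz i hiP hi.1 a h
    · by_contra hne
      exact hi.2 ((hmem' i).2 (Finset.mem_filter.2
        ⟨by simp only [hS, Finset.mem_filter, Finset.mem_univ, true_and]; exact ⟨hiP, hi.1⟩, hne⟩))

theorem realised_level {m : ℕ → ι → ℤ} {P : ι}
    (hg : ∀ a b, a < 11 → b < 11 → ∑ i, m a i * m b i = gram a b) (hP : ∀ a < 11, m a P = trc a) :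
    ∀ k ≤ 11, ∃ s ∈ levelL k, Nonempty (Realised m P k s)
  | 0, _ => ⟨[], by simpa using level_zero,
      ⟨⟨[], by simp, by simp, by simp, rfl, fun _ _ _ a ha => absurd ha (Nat.not_lt_zero a)⟩⟩⟩
  | k + 1, hk => by
    obtain ⟨s, hs, ⟨h⟩⟩ := realised_level hg hP k (by omega)
    obtain ⟨c, hc, hR⟩ := realised_step hg hP (show k < 11 by omega) h
    have h1 := List.all_eq_true.1 (step_all ⟨k, by omega⟩) s hs
    exact ⟨c, by simpa using List.all_eq_true.1 h1 c hc, hR⟩

/-- Some state of full depth is realised, and its part meeting the fifth function is the target. -/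
theorem realised_final {m : ℕ → ι → ℤ} {P : ι}
    (hg : ∀ a b, a < 11 → b < 11 → ∑ i, m a i * m b i = gram a b) (hP : ∀ a < 11, m a P = trc a) :
    ∃ s, Nonempty (Realised m P 11 s) ∧ support s = target := by
  obtain ⟨s, hs, hR⟩ := realised_level hg hP 11 le_rfl
  exact ⟨s, hR, beq_iff_eq.1 (List.all_eq_true.1 final_ok s hs)⟩

end CfsgLib.GTwoTwoLocal.Search
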