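import Cfsg.Agent.Lib.GTwoTwoLocal.Special
import Cfsg.Agent.Lib.GTwoTwoLocal.Search

/-!
# The coefficients of the induced functions
-/

set_option autoImplicit false
set_option maxRecDepth 100000
set_option linter.unusedSectionVars false

namespace CfsgLib.GTwoTwoLocal

open Cfsg CfsgLib.Characters Model
open Search (gram trc qL ordL colOf dot valCol)
open CfsgLib.GL23 (Ct tC mem_Ct sq_t t_ne_one)
open scoped ComplexConjugate

variable {G : Type*} [Group G] [Fintype G] {z : G} (e : Coded ↥(Ct z))

/-- The coefficient of an induced function at an irreducible character. -/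
noncomputable def coeff (j : ℕ) (χ : IrrCharacter G) : ℤ :=
  if hj : j < 11 then Classical.choose ((isGeneralizedCharacter_iff.1 (isGeneralized_Theta e hj)).2 χ) else 0

theorem coeff_spec {j : ℕ} (hj : j < 11) (χ : IrrCharacter G) :
    classInner (Theta e j) (χ : G → ℂ) = (coeff e j χ : ℂ) := by
  rw [coeff, dif_pos hj]
  exact Classical.choose_spec ((isGeneralizedCharacter_iff.1 (isGeneralized_Theta e hj)).2 χ)

theorem irr_classFun (χ : IrrCharacter G) : IsClassFunction G (χ : G → ℂ) :=
  isClassFunction_of_isGeneralizedCharacter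
    (isGeneralizedCharacter_of_isCharacter (isCharacter_of_irr χ.2))

/-- Coefficients through the values on the classes. -/
theorem coeff_eq {j : ℕ} (hj : j < 11) (χ : IrrCharacter G) :
    (576 : ℂ) * (coeff e j χ : ℂ) =
      ∑ k ∈ Finset.range 11, ((size k : ℂ) * (thF j k : ℂ)) * conj (classVal e (χ : G → ℂ) k) := by
  rw [← coeff_spec e hj χ, inner_Theta e (irr_classFun χ),
    ← Finset.sum_range_add_sum_Ico _ (show 11 ≤ 20 by norm_num),
    Finset.sum_eq_zero (s := Finset.Ico 11 20) (fun k hk => by
      obtain ⟨h1, h2⟩ := Finset.mem_Ico.1 hk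
      rw [(Coded.thF_spec hj h2).2 h1, Int.cast_zero, zero_mul, mul_zero]), add_zero]
  exact Finset.sum_congr rfl fun k _ => by ring

theorem Theta_eq_sum {j : ℕ} (hj : j < 11) (x : G) :
    Theta e j x = ∑ χ : IrrCharacter G, (coeff e j χ : ℂ) * (χ : G → ℂ) x := by
  conv_lhs => rw [classFunction_eq_sum (isClassFunction_Theta e hj)]
  simp [coeff_spec e hj]

theorem inner_eq_sum {i j : ℕ} (hi : i < 11) (hj : j < 11) :
    classInner (Theta e i) (Theta e j) = ((∑ χ, coeff e i χ * coeff e j χ : ℤ) : ℂ) := by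
  rw [classInner_eq_sum_mul (isClassFunction_Theta e hj)]
  simp [coeff_spec e hi, coeff_spec e hj]

theorem coeff_principal {j : ℕ} (hj : j < 11) :
    576 * coeff e j (principalIrr G) = csum (thF j) 20 := by
  have h := inner_Theta e (j := j) (irr_classFun (principalIrr G))
  rw [coeff_spec e hj, Finset.sum_congr rfl (g := fun k => (((size k : ℤ) * thF j k : ℤ) : ℂ))
    (fun k hk => by
      rw [classVal, dif_pos (Finset.mem_range.1 hk), principalIrr_apply]
      push_cast
      simp), ← Int.cast_sum, ← Coded.csum_eq] at h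
  exact_mod_cast h

variable (hz : orderOf z = 2) (hone : ∀ a : G, a * a = 1 → a ≠ 1 → IsConj z a)

include hz hone in
theorem classVal_fused {f : G → ℂ} (hf : IsClassFunction G f) :
    classVal e f 12 = classVal e f 10 ∧ classVal e f 13 = classVal e f 10 ∧
      (classVal e f 14 = classVal e f 3 ∨ classVal e f 14 = classVal e f 8) ∧
      (classVal e f 15 = classVal e f 3 ∨ classVal e f 15 = classVal e f 8) := by
  have h10 : e.cl (tC z) = 10 := by rw [Coded.cl, code_tC e hz, cls_one]
  have hzv : f z = classVal e f 10 := by rw [← h10]; exact classVal_cl e hf (tC z)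
  have inv : ∀ k, k = 12 ∨ k = 13 → classVal e f k = classVal e f 10 := by
    intro k hk
    obtain ⟨x, -, hx⟩ := e.exists_rep (k := k) (by omega)
    have h := allBelow_spec involution_cls _ (e.lt x)
    simp only [Bool.and_eq_true, Bool.or_eq_true, Bool.not_eq_true', beq_iff_eq, bne_iff_ne] at h
    obtain ⟨p1, p2⟩ := (h.1.1.resolve_left (by
      rw [show cls (e.code x) = k from hx]; rcases hk with rfl | rfl <;> simp))
    obtain ⟨g, hg⟩ := isConj_iff.1 (hone (x : G) (congrArg Subtype.val (e.code_sq.1 p1))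
      (fun h => p2 (e.code_eq_zero.2 (Subtype.ext h))))
    rw [← hx, ← classVal_cl e hf x, ← hg, hf z g, hzv]
  have four : ∀ k, k = 14 ∨ k = 15 →
      classVal e f k = classVal e f 3 ∨ classVal e f k = classVal e f 8 := by
    intro k hk
    obtain ⟨x, -, hx⟩ := e.exists_rep (k := k) (by omega)
    have h := allBelow_spec involution_cls _ (e.lt x)
    simp only [Bool.and_eq_true, Bool.or_eq_true, Bool.not_eq_true', beq_iff_eq, bne_iff_ne] at h
    obtain ⟨p1, p2⟩ := (h.1.2.resolve_left (by
      rw [show cls (e.code x) = k from hx]; rcases hk with rfl | rfl <;> simp))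
    rw [← e.mul] at p1 p2
    obtain ⟨g, hg⟩ := isConj_iff.1 (hone ((x * x : Ct z) : G)
      (congrArg Subtype.val (e.code_sq.1 p1)) (fun h => p2 (e.code_eq_zero.2 (Subtype.ext h))))
    have hyy : g⁻¹ * x * g * (g⁻¹ * x * g) = z := by
      rw [show g⁻¹ * x * g * (g⁻¹ * x * g) = g⁻¹ * ((x : G) * x) * g by group,
        show ((x : G) * x) = g * z * g⁻¹ from hg.symm]
      group
    have hy : g⁻¹ * x * g ∈ Ct z := mem_Ct.2 (by
      generalize hu : g⁻¹ * (x : G) * g = u at hyy ⊢
      rw [← hyy]; group)
    have hsq : (⟨g⁻¹ * x * g, hy⟩ : Ct z) * ⟨g⁻¹ * x * g, hy⟩ = tC z := Subtype.ext hyy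
    have h' := allBelow_spec involution_cls _ (e.lt ⟨g⁻¹ * x * g, hy⟩)
    simp only [Bool.and_eq_true, Bool.or_eq_true, Bool.not_eq_true', beq_eq_false_iff_ne, beq_iff_eq] at h'
    have hcl : e.cl ⟨g⁻¹ * x * g, hy⟩ = 3 ∨ e.cl ⟨g⁻¹ * x * g, hy⟩ = 8 := by
      rcases h'.2 with (h3 | h3) | h3
      · exact absurd (by rw [← e.mul, hsq, code_tC e hz]) h3
      · exact Or.inl h3
      · exact Or.inr h3
    have hv : classVal e f k = classVal e f (e.cl ⟨g⁻¹ * x * g, hy⟩) := by
      rw [← hx, ← classVal_cl e hf x, ← classVal_cl e hf ⟨g⁻¹ * x * g, hy⟩]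
      simp only
      conv_lhs => rw [← hf (x : G) g⁻¹, inv_inv]
    rcases hcl with h3 | h3 <;> rw [h3] at hv
    exacts [Or.inl hv, Or.inr hv]
  exact ⟨inv 12 (Or.inl rfl), inv 13 (Or.inr rfl), four 14 (Or.inl rfl), four 15 (Or.inr rfl)⟩

theorem char_res (χ : IrrCharacter G) : IsCharacter (Ct z) (fun h : Ct z => (χ : G → ℂ) h) :=
  CfsgLib.CharGalois.isCharacter_comp (isCharacter_of_irr χ.2) (Ct z).subtype

/-- The inner product with a monomial character is a natural number. -/
theorem inner_mon (χ : IrrCharacter G) {n : ℕ} (hn : n < 23) :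
    ∃ m : ℕ, ∑ k ∈ Finset.range 20, (size k : ℂ) * ((valF n k : ℂ) * conj (classVal e (χ : G → ℂ) k)) =
      576 * (m : ℂ) := by
  classical
  letI : Fintype (Ct z) := Fintype.ofFinite _
  obtain ⟨m, hm⟩ := classInner_char_nat (e.isCharacter_monChar hn) (char_res χ)
  refine ⟨m, ?_⟩
  rw [← hm, classInner, e.card_eq]
  push_cast
  rw [← mul_assoc, mul_inv_cancel₀ (by norm_num), one_mul,
    ← Finset.sum_congr rfl fun k (_ : k ∈ Finset.range 20) =>
      (nsmul_eq_mul (size k) ((valF n k : ℂ) * conj (classVal e (χ : G → ℂ) k))),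
    ← e.sum_cl fun k => (valF n k : ℂ) * conj (classVal e (χ : G → ℂ) k)]
  exact Finset.sum_congr rfl fun x _ => by rw [e.monChar_apply, classVal_cl e (irr_classFun χ) x]

theorem classVal_one {f : G → ℂ} (hf : IsClassFunction G f) : classVal e f 11 = f 1 := by
  rw [← e.cl_one, ← classVal_cl e hf, OneMemClass.coe_one]

include hz hone in
/-- The alternating sum of the second, fourth, eighth and tenth coefficients is even. -/
theorem coeff_parity (χ : IrrCharacter G) :
    (2 : ℤ) ∣ coeff e 2 χ - coeff e 4 χ + coeff e 8 χ - coeff e 10 χ := by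
  obtain ⟨f12, f13, f14, f15⟩ := classVal_fused e hz hone (irr_classFun χ)
  obtain ⟨a, ha⟩ := inner_mon e χ (n := 20) (by norm_num)
  obtain ⟨b, hb⟩ := inner_mon e χ (n := 21) (by norm_num)
  obtain ⟨msup, m14⟩ := mon_support
  have s20 := allBelow_spec msup 0 (by norm_num)
  have s21 := allBelow_spec msup 1 (by norm_num)
  simp only [Bool.and_eq_true, beq_iff_eq, Nat.add_zero, Nat.reduceAdd] at s20 s21 m14
  obtain ⟨⟨⟨⟨a11, a16⟩, a17⟩, a18⟩, a19⟩ := s20
  obtain ⟨⟨⟨⟨b11, b16⟩, b17⟩, b18⟩, b19⟩ := s21
  obtain ⟨e14, e15⟩ := m14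
  set w := fun k => conj (classVal e (χ : G → ℂ) k) with hw
  have key : (576 : ℂ) * a - 576 * b = ∑ k ∈ Finset.range 11, (foldDiff k : ℂ) * w k := by
    rw [← ha, ← hb, ← Finset.sum_sub_distrib, Finset.sum_range_succ (n := 19),
      Finset.sum_range_succ (n := 18), Finset.sum_range_succ (n := 17),
      Finset.sum_range_succ (n := 16), Finset.sum_range_succ (n := 15), Finset.sum_range_succ (n := 14),
      Finset.sum_range_succ (n := 13), Finset.sum_range_succ (n := 12), Finset.sum_range_succ (n := 11),
      a11, a16, a17, a18, a19, b11, b16, b17, b18, b19, e14, e15, f12, f13]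
    simp only [Finset.sum_range_succ, Finset.sum_range_zero, foldDiff, hw, beq_iff_eq]
    norm_num
    ring
  have key2 : ((∑ j ∈ Finset.range 11, parityRow.getD j 0 * coeff e j χ : ℤ) : ℂ) * 576 =
      576 * ∑ k ∈ Finset.range 11, (foldDiff k : ℂ) * w k := by
    rw [Finset.mul_sum, Int.cast_sum, Finset.sum_mul,
      Finset.sum_congr rfl (g := fun j => ∑ k ∈ Finset.range 11,
        (parityRow.getD j 0 : ℂ) * (((size k : ℂ) * (thF j k : ℂ)) * w k)) (fun j hj => by
        rw [← Finset.mul_sum, ← coeff_eq e (Finset.mem_range.1 hj) χ]; push_cast; ring),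
      Finset.sum_comm]
    refine Finset.sum_congr rfl fun k hk => ?_
    have h := beq_iff_eq.1 (allBelow_spec parity_ok k (Finset.mem_range.1 hk))
    rw [Coded.lsum_eq] at h
    have h' : (576 : ℂ) * (foldDiff k : ℂ) =
        ∑ j ∈ Finset.range 11, (parityRow.getD j 0 : ℂ) * ((size k : ℂ) * (thF j k : ℂ)) := by
      exact_mod_cast h
    rw [← mul_assoc, h', Finset.sum_mul]
    exact Finset.sum_congr rfl fun j _ => by ring
  rw [← key] at key2
  have hint : (∑ j ∈ Finset.range 11, parityRow.getD j 0 * coeff e j χ) * 576 =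
      576 * (576 * (a : ℤ) - 576 * b) := by exact_mod_cast key2
  simp only [Finset.sum_range_succ, Finset.sum_range_zero, parityRow, List.getD_cons_succ,
    List.getD_cons_zero] at hint
  omega

/-- The coefficient functions of the enumeration. -/
noncomputable def newCoeff (a : ℕ) (χ : IrrCharacter G) : ℤ :=
  if ordL.getD a 0 = 10 then (coeff e 2 χ - coeff e 4 χ + coeff e 8 χ - coeff e 10 χ) / 2
  else coeff e (ordL.getD a 0) χ

theorem newTh_cast {a k : ℕ} (hk : k < 20) :
    ((2 * newTh a k : ℤ)) =
      if ordL.getD a 0 = 10 then thF 2 k - thF 4 k + thF 8 k - thF 10 k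
      else 2 * thF (ordL.getD a 0) k := by
  have hev := beq_iff_eq.1 (allBelow_spec half_ok k hk)
  simp only [newTh, beq_iff_eq]
  split_ifs <;> omega

include hz hone in
theorem newCoeff_eq {a : ℕ} (ha : a < 11) (χ : IrrCharacter G) :
    (576 : ℂ) * (newCoeff e a χ : ℂ) =
      ∑ k ∈ Finset.range 11, ((size k : ℂ) * (newTh a k : ℂ)) * conj (classVal e (χ : G → ℂ) k) := by
  have hlt : ordL.getD a 0 < 11 := by
    have := allBelow_spec ord_ok a ha
    rwa [Nat.blt_eq] at this
  refine mul_left_cancel₀ (two_ne_zero (α := ℂ)) ?_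
  rw [Finset.mul_sum, Finset.sum_congr rfl (g := fun k =>
      (size k : ℂ) * ((2 * newTh a k : ℤ) : ℂ) * conj (classVal e (χ : G → ℂ) k))
    (fun k _ => by push_cast; ring)]
  rw [Finset.sum_congr rfl (fun k hk => by rw [newTh_cast (show k < 20 by have := Finset.mem_range.1 hk; omega)]),
    newCoeff]
  split_ifs with h
  · obtain ⟨q, hq⟩ := coeff_parity e hz hone χ
    rw [hq, Int.mul_ediv_cancel_left _ (by norm_num : (2 : ℤ) ≠ 0)]
    have hq' : (coeff e 2 χ : ℂ) - coeff e 4 χ + coeff e 8 χ - coeff e 10 χ = 2 * (q : ℂ) := by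
      exact_mod_cast hq
    have e2 := coeff_eq e (show 2 < 11 by norm_num) χ
    have e4 := coeff_eq e (show 4 < 11 by norm_num) χ
    have e8 := coeff_eq e (show 8 < 11 by norm_num) χ
    have e10 := coeff_eq e (show 10 < 11 by norm_num) χ
    have : (576 : ℂ) * (2 * q) = ∑ k ∈ Finset.range 11, (size k : ℂ) *
        ((thF 2 k : ℂ) - thF 4 k + thF 8 k - thF 10 k) * conj (classVal e (χ : G → ℂ) k) := by
      rw [← hq', mul_sub, mul_add, mul_sub, e2, e4, e8, e10, ← Finset.sum_sub_distrib,
        ← Finset.sum_add_distrib, ← Finset.sum_sub_distrib]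
      exact Finset.sum_congr rfl fun k _ => by ring
    push_cast
    linear_combination this
  · push_cast
    rw [coeff_eq e hlt χ, Finset.mul_sum]
    exact Finset.sum_congr rfl fun k _ => by ring

include hz hone in
/-- The values at the special classes from the coefficients. -/
theorem conj_classVal {i : ℕ} (hi : i < 11) (χ : IrrCharacter G) :
    conj (classVal e (χ : G → ℂ) i) =
      ∑ a ∈ Finset.range 11, (((qL.getD i []).getD a 0 : ℤ) : ℂ) * (newCoeff e a χ : ℂ) := by
  refine mul_left_cancel₀ (show (576 : ℂ) ≠ 0 by norm_num) ?_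
  rw [Finset.mul_sum, Finset.sum_congr rfl (g := fun a => ∑ k ∈ Finset.range 11,
      (((qL.getD i []).getD a 0 : ℤ) : ℂ) * (((size k : ℂ) * (newTh a k : ℂ)) *
        conj (classVal e (χ : G → ℂ) k)))
    (fun a ha => by
      rw [← Finset.mul_sum, ← newCoeff_eq e hz hone (Finset.mem_range.1 ha) χ]; ring),
    Finset.sum_comm, Finset.sum_eq_single i]
  · have h := beq_iff_eq.1 (allBelow_spec (allBelow_spec inverse_ok i hi) i hi)
    rw [Coded.lsum_eq] at h
    simp only [beq_self_eq_true, if_true] at h
    have h' : ∑ a ∈ Finset.range 11, (((qL.getD i []).getD a 0 : ℤ) : ℂ) *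
        ((size i : ℂ) * (newTh a i : ℂ)) = 576 := by exact_mod_cast h
    rw [← h', Finset.sum_mul]
    exact Finset.sum_congr rfl fun a _ => by ring
  · intro k hk hki
    have h := beq_iff_eq.1 (allBelow_spec (allBelow_spec inverse_ok i hi) k (Finset.mem_range.1 hk))
    rw [Coded.lsum_eq, if_neg (by simpa using Ne.symm hki)] at h
    have h' : ∑ a ∈ Finset.range 11, (((qL.getD i []).getD a 0 : ℤ) : ℂ) *
        ((size k : ℂ) * (newTh a k : ℂ)) = 0 := by exact_mod_cast h
    rw [Finset.sum_congr rfl (g := fun a => (((qL.getD i []).getD a 0 : ℤ) : ℂ) *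
      ((size k : ℂ) * (newTh a k : ℂ)) * conj (classVal e (χ : G → ℂ) k)) (fun a _ => by ring),
      ← Finset.sum_mul, h', zero_mul]
  · intro h; exact absurd (Finset.mem_range.2 hi) h

include hz hone in
theorem newCoeff_principal {a : ℕ} (ha : a < 11) : newCoeff e a (principalIrr G) = trc a := by
  have h := newCoeff_eq e hz hone ha (principalIrr G)
  rw [Finset.sum_congr rfl (g := fun k => (((size k : ℤ) * newTh a k : ℤ) : ℂ)) (fun k hk => by
    have hk' := Finset.mem_range.1 hk
    rw [classVal, dif_pos (show k < 20 by omega), principalIrr_apply]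
    push_cast; simp), ← Int.cast_sum] at h
  have h1 := allBelow_spec gram_ok a ha
  simp only [Bool.and_eq_true, beq_iff_eq] at h1
  have h20 : csum (newTh a) 20 = ∑ k ∈ Finset.range 11, (size k : ℤ) * newTh a k := by
    rw [Coded.csum_eq, ← Finset.sum_range_add_sum_Ico _ (show 11 ≤ 20 by norm_num),
      Finset.sum_eq_zero (s := Finset.Ico 11 20) (fun k hk => by
        obtain ⟨p, q⟩ := Finset.mem_Ico.1 hk
        have := newTh_cast (a := a) q
        have hz' : ∀ j < 11, thF j k = 0 := fun j hj => (Coded.thF_spec hj q).2 p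
        have hlt := allBelow_spec ord_ok a ha
        rw [Nat.blt_eq] at hlt
        rw [hz' 2 (by norm_num), hz' 4 (by norm_num), hz' 8 (by norm_num), hz' 10 (by norm_num),
          hz' _ hlt] at this
        have : newTh a k = 0 := by split_ifs at this <;> omega
        rw [this, mul_zero]), add_zero]
  rw [← h20, h1.1] at h
  push_cast at h
  exact_mod_cast mul_left_cancel₀ (show (576 : ℂ) ≠ 0 by norm_num) h

include hz hone in
/-- The Gram matrix of the coefficient functions. -/
theorem newCoeff_gram {a b : ℕ} (ha : a < 11) (hb : b < 11) :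
    ∑ χ, newCoeff e a χ * newCoeff e b χ = gram a b := by
  have hG : ∀ i j, i < 11 → j < 11 →
      576 * ∑ χ, coeff e i χ * coeff e j χ = ∑ k ∈ Finset.range 20, (size k : ℤ) * (thF i k * thF j k) := by
    intro i j hi hj
    have h := inner_Theta_Theta e hz hi hj
    rw [inner_eq_sum e hi hj, Coded.csum_eq] at h
    exact_mod_cast h
  -- twice each new coefficient is an integral combination of the old ones
  let c : ℕ → ℕ → ℤ := fun a j =>
    if ordL.getD a 0 = 10 then ([0, 0, 1, 0, -1, 0, 0, 0, 1, 0, -1] : List ℤ).getD j 0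
    else if ordL.getD a 0 = j then 2 else 0
  have hc : ∀ a < 11, (∀ χ, 2 * newCoeff e a χ = ∑ j ∈ Finset.range 11, c a j * coeff e j χ) ∧
      ∀ k < 20, 2 * newTh a k = ∑ j ∈ Finset.range 11, c a j * thF j k := by
    intro a ha
    have hlt := allBelow_spec ord_ok a ha
    rw [Nat.blt_eq] at hlt
    by_cases h : ordL.getD a 0 = 10
    · refine ⟨fun χ => ?_, fun k hk => ?_⟩
      · have := coeff_parity e hz hone χ
        simp only [c, h, if_true, newCoeff, Finset.sum_range_succ, Finset.sum_range_zero,
          List.getD_cons_succ, List.getD_cons_zero]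
        omega
      · rw [newTh_cast hk, if_pos h]
        simp only [c, h, if_true, Finset.sum_range_succ, Finset.sum_range_zero,
          List.getD_cons_succ, List.getD_cons_zero]
        ring
    · refine ⟨fun χ => ?_, fun k hk => ?_⟩
      · rw [Finset.sum_eq_single (ordL.getD a 0) (fun j _ hj => by
          simp only [c, h, if_false, if_neg (Ne.symm hj), zero_mul])
          (fun hh => absurd (Finset.mem_range.2 hlt) hh)]
        simp only [c]
        simp only [h, if_false, if_true, newCoeff]
      · rw [newTh_cast hk, if_neg h, Finset.sum_eq_single (ordL.getD a 0) (fun j _ hj => by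
          simp only [c, h, if_false, if_neg (Ne.symm hj), zero_mul])
          (fun hh => absurd (Finset.mem_range.2 hlt) hh)]
        simp only [c]
        simp only [h, if_false, if_true]
  have h1 := allBelow_spec gram_ok a ha
  simp only [Bool.and_eq_true, beq_iff_eq] at h1
  have h2 := beq_iff_eq.1 (allBelow_spec h1.2 b hb)
  rw [Coded.csum_eq] at h2
  have h4 : 576 * (4 * ∑ χ, newCoeff e a χ * newCoeff e b χ) =
      4 * ∑ k ∈ Finset.range 20, (size k : ℤ) * (newTh a k * newTh b k) := by
    calc 576 * (4 * ∑ χ, newCoeff e a χ * newCoeff e b χ)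
        = 576 * ∑ χ, (∑ i ∈ Finset.range 11, c a i * coeff e i χ) *
            (∑ j ∈ Finset.range 11, c b j * coeff e j χ) := by
          congr 1; rw [Finset.mul_sum]
          exact Finset.sum_congr rfl fun χ _ => by rw [← (hc a ha).1 χ, ← (hc b hb).1 χ]; ring
      _ = ∑ i ∈ Finset.range 11, ∑ j ∈ Finset.range 11, c a i * c b j *
            (576 * ∑ χ, coeff e i χ * coeff e j χ) := by
          simp only [Finset.sum_mul, Finset.mul_sum]
          rw [Finset.sum_comm]
          refine (Finset.sum_congr rfl fun j _ => Finset.sum_comm).trans ?_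
          rw [Finset.sum_comm]
          exact Finset.sum_congr rfl fun i _ => Finset.sum_congr rfl fun j _ =>
            Finset.sum_congr rfl fun χ _ => by ring
      _ = ∑ i ∈ Finset.range 11, ∑ j ∈ Finset.range 11, c a i * c b j *
            ∑ k ∈ Finset.range 20, (size k : ℤ) * (thF i k * thF j k) := by
          exact Finset.sum_congr rfl fun i hi => Finset.sum_congr rfl fun j hj => by
            rw [hG i j (Finset.mem_range.1 hi) (Finset.mem_range.1 hj)]
      _ = ∑ k ∈ Finset.range 20, (size k : ℤ) * ((∑ i ∈ Finset.range 11, c a i * thF i k) *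
            (∑ j ∈ Finset.range 11, c b j * thF j k)) := by
          simp only [Finset.sum_mul, Finset.mul_sum]
          symm
          rw [Finset.sum_comm]
          refine (Finset.sum_congr rfl fun j _ => Finset.sum_comm).trans ?_
          rw [Finset.sum_comm]
          exact Finset.sum_congr rfl fun i _ => Finset.sum_congr rfl fun j _ =>
            Finset.sum_congr rfl fun k _ => by ring
      _ = 4 * ∑ k ∈ Finset.range 20, (size k : ℤ) * (newTh a k * newTh b k) := by
          rw [Finset.mul_sum]
          refine Finset.sum_congr rfl fun k hk => ?_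
          rw [← (hc a ha).2 k (Finset.mem_range.1 hk), ← (hc b hb).2 k (Finset.mem_range.1 hk)]; ring
  omega

end CfsgLib.GTwoTwoLocal
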