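import Cfsg.Agent.Lib.GTwoTwoLocal.ModelSL
import Cfsg.Agent.Lib.GL23.Transfer
import Mathlib.GroupTheory.NoncommCoprod
import Mathlib.GroupTheory.Index

/-!
# The configuration of the two-local hypothesis
-/

set_option autoImplicit false
set_option maxRecDepth 100000

namespace CfsgLib.GTwoTwoLocal

open Model
open CfsgLib.GL23 (Ct mem_Ct)

/-- The data of the hypothesis, with the two factors given by embeddings of `SL(2, 3)`. -/
structure Cfg (G : Type*) [Group G] where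
  z : G
  hz : orderOf z = 2
  ι₁ : SL →* G
  ι₂ : SL →* G
  inj₁ : Function.Injective ι₁
  inj₂ : Function.Injective ι₂
  neg₁ : ι₁ (toSL 1) = z
  neg₂ : ι₂ (toSL 1) = z
  comm : ∀ a b, Commute (ι₁ a) (ι₂ b)
  inter : ∀ a b, ι₁ a = ι₂ b → a = 1 ∨ a = toSL 1
  normal₁ : ∀ x ∈ Ct z, ∀ a, ∃ a', x * ι₁ a * x⁻¹ = ι₁ a'
  normal₂ : ∀ x ∈ Ct z, ∀ a, ∃ a', x * ι₂ a * x⁻¹ = ι₂ a'
  card_ct : Nat.card (Ct z) = 576
  M : Subgroup G
  E : Subgroup G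
  E_le : E ≤ M
  card_E : Nat.card E = 8
  sq_E : ∀ e ∈ E, e * e = 1
  conj_E : ∀ m ∈ M, ∀ e ∈ E, m * e * m⁻¹ ∈ E
  z_mem : z ∈ E
  card_M : Nat.card M = 1344
  self_cent : ∀ m ∈ M, (∀ e ∈ E, Commute m e) → m ∈ E

/-- Powers of a number. -/
def evalPow (a : ℕ) : ℕ → ℕ
  | 0 => 0
  | n + 1 => tab (evalPow a n) a

theorem num_facts : ∀ a : Fin 24, (evalPow a 128 = 0 → evalPow a 4 = 0) ∧
    (tab a a = 0 → (a : ℕ) = 0 ∨ (a : ℕ) = 1) ∧
    (∀ b : Fin 24, evalPow a 4 = 0 → evalPow b 4 = 0 → evalPow (tab a b) 4 = 0) ∧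
    (∀ b : Fin 24, evalPow (tab (conjM a b) b) 4 = 0 → evalPow b 4 = 0) ∧ tab 1 a = tab a 1 ∧
    conjM a a = (a : ℕ) ∧ (∀ b : Fin 24, conjM a b < 24 ∧ tab (conjM a b) a = tab a b) := by
  decide +kernel

theorem toSL_evalPow {a : ℕ} (ha : a < 24) : ∀ n, evalPow a n < 24 ∧ toSL (evalPow a n) = toSL a ^ n
  | 0 => ⟨by norm_num [evalPow], by rw [pow_zero]; exact toSL_zero⟩
  | n + 1 => by
    obtain ⟨h, h'⟩ := toSL_evalPow ha n
    exact ⟨tab_lt h ha, by rw [evalPow, toSL_tab h ha, h', pow_succ]⟩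

theorem evalPow_eq_zero {a : ℕ} (ha : a < 24) (n : ℕ) : evalPow a n = 0 ↔ toSL a ^ n = 1 := by
  obtain ⟨h, h'⟩ := toSL_evalPow ha n
  rw [← h', ← toSL_zero]
  exact ⟨fun e => by rw [e], fun e => toSL_injective h (by norm_num) e⟩

theorem sl_pow_four {x : SL} (h : x ^ 128 = 1) : x ^ 4 = 1 := by
  obtain ⟨a, ha, rfl⟩ := exists_number x
  exact (evalPow_eq_zero ha 4).1 ((num_facts ⟨a, ha⟩).1 ((evalPow_eq_zero ha 128).2 h))

theorem sl_sq {x : SL} (h : x * x = 1) : x = 1 ∨ x = toSL 1 := by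
  obtain ⟨a, ha, rfl⟩ := exists_number x
  rw [← toSL_tab ha ha, ← toSL_zero] at h
  rcases (num_facts ⟨a, ha⟩).2.1 (toSL_injective (tab_lt ha ha) (by norm_num) h) with e | e
  · left; rw [show a = 0 from e, toSL_zero]
  · right; rw [show a = 1 from e]

theorem sl_four_mul {x y : SL} (hx : x ^ 4 = 1) (hy : y ^ 4 = 1) : (x * y) ^ 4 = 1 := by
  obtain ⟨a, ha, rfl⟩ := exists_number x
  obtain ⟨b, hb, rfl⟩ := exists_number y
  rw [← toSL_tab ha hb]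
  exact (evalPow_eq_zero (tab_lt ha hb) 4).1 ((num_facts ⟨a, ha⟩).2.2.1 ⟨b, hb⟩
    ((evalPow_eq_zero ha 4).2 hx) ((evalPow_eq_zero hb 4).2 hy))

theorem sl_four_of_conj {x y : SL} (h : (x * y * x⁻¹ * y) ^ 4 = 1) : y ^ 4 = 1 := by
  obtain ⟨a, ha, rfl⟩ := exists_number x
  obtain ⟨b, hb, rfl⟩ := exists_number y
  obtain ⟨hc, he⟩ := (num_facts ⟨a, ha⟩).2.2.2.2.2.2 ⟨b, hb⟩
  have hcj : toSL a * toSL b * (toSL a)⁻¹ = toSL (conjM a b) := by
    rw [mul_inv_eq_iff_eq_mul, ← toSL_tab ha hb, ← toSL_tab hc ha]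
    exact congrArg toSL he.symm
  rw [hcj, ← toSL_tab hc hb] at h
  exact (evalPow_eq_zero hb 4).1 ((num_facts ⟨a, ha⟩).2.2.2.1 ⟨b, hb⟩
    ((evalPow_eq_zero (tab_lt hc hb) 4).2 h))

theorem neg_comm (x : SL) : toSL 1 * x = x * toSL 1 := by
  obtain ⟨a, ha, rfl⟩ := exists_number x
  rw [← toSL_tab (by norm_num) ha, ← toSL_tab ha (by norm_num)]
  exact congrArg toSL (num_facts ⟨a, ha⟩).2.2.2.2.1

theorem neg_facts : toSL 1 * toSL 1 = 1 ∧ toSL 1 ≠ 1 := by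
  constructor
  · rw [← toSL_tab (by norm_num) (by norm_num), ← toSL_zero]
    exact congrArg toSL (by decide +kernel : tab 1 1 = 0)
  · rw [← toSL_zero]
    intro h
    exact absurd (toSL_injective (by norm_num) (by norm_num) h) (by norm_num)

end CfsgLib.GTwoTwoLocal
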