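import Cfsg.Agent.Lib.GTwoTwoLocal.Exclude

/-!
# The odd core has order `243`: the last step
-/

set_option autoImplicit false
set_option linter.unusedSectionVars false
set_option maxRecDepth 100000

namespace CfsgLib.GTwoTwoLocal

open CfsgLib.GL23 (Ct mem_Ct)
open Model

universe u

namespace Half

variable {G : Type u} [Group G] [Finite G] (d : Half G)

/-- The Sylow subgroup of the centraliser of `z`. -/
noncomputable def E : Subgroup G := d.S ⊓ Ct d.z

theorem E_elt {g : G} (hg : g ∈ d.E) : ∃ i j : ℕ, g = d.a ^ i * d.b ^ j := by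
  obtain ⟨⟨o, ho, j, rfl⟩, hc⟩ := hg
  have hb : d.b ^ j ∈ Ct d.z := pow_mem (mem_Ct.2 (d.K_comm_z _)) j
  have ho' : o ∈ Ct d.z := by
    have hc' : o * d.b ^ j ∈ Ct d.z := hc
    have := mul_mem hc' (inv_mem hb)
    rwa [mul_inv_cancel_right] at this
  have : o ∈ Subgroup.zpowers d.a := d.fix_z ho (by
    rw [← mem_Ct.1 ho', mul_assoc, d.z_sq, mul_one])
  obtain ⟨i, hi⟩ : ∃ i : ℕ, d.a ^ i = o := mem_powers_iff_mem_zpowers.2 this
  exact ⟨i, j, by rw [hi]⟩

theorem E_cube {g : G} (hg : g ∈ d.E) : g ^ 3 = 1 := by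
  obtain ⟨i, j, rfl⟩ := d.E_elt hg
  have hc : Commute (d.a ^ i) (d.b ^ j) := ((d.comm _).pow_left i).pow_right j
  rw [hc.mul_pow, ← pow_mul, ← pow_mul, mul_comm i, mul_comm j, pow_mul, pow_mul, d.a_cube, d.b_cube,
    one_pow, one_pow, one_mul]

theorem card_E : Nat.card d.E = 9 := by
  have hord : orderOf d.b = 3 := by
    have : Fact (Nat.Prime 3) := ⟨Nat.prime_three⟩
    exact orderOf_eq_prime d.b_cube d.b_ne
  let f : Fin 3 × Fin 3 → d.E := fun p => ⟨d.a ^ p.1.val * d.b ^ p.2.val,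
    mul_mem (pow_mem (d.O_le_S d.a_mem_O) _) (pow_mem d.b_mem_S _),
    mul_mem (pow_mem (mem_Ct.2 d.hza.symm) _) (pow_mem (mem_Ct.2 (d.K_comm_z _)) _)⟩
  have hf : Function.Bijective f := by
    constructor
    · rintro ⟨i, j⟩ ⟨i', j'⟩ he
      have he' : d.a ^ i.val * d.b ^ j.val = d.a ^ i'.val * d.b ^ j'.val := congrArg Subtype.val he
      have key : ∀ (p q : Fin 3) (s t : ℕ), p.val ≤ q.val → d.a ^ s * d.b ^ p.val = d.a ^ t * d.b ^ q.val → p = q := by
        intro p q s t hpq h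
        rw [show d.b ^ q.val = d.b ^ (q.val - p.val) * d.b ^ p.val by rw [← pow_add]; congr 1; omega,
          ← mul_assoc, mul_left_inj] at h
        have hm : d.b ^ (q.val - p.val) ∈ d.O := by
          rw [show d.b ^ (q.val - p.val) = (d.a ^ t)⁻¹ * d.a ^ s by rw [h, inv_mul_cancel_left]]
          exact mul_mem (inv_mem (pow_mem d.a_mem_O t)) (pow_mem d.a_mem_O s)
        have := orderOf_dvd_iff_pow_eq_one.2 (d.b_pow_O hm)
        rw [hord] at this
        have hlt : q.val - p.val < 3 := by omega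
        exact Fin.ext (by have := Nat.eq_zero_of_dvd_of_lt this hlt; omega)
      have hjj : j = j' := by
        rcases le_total j.val j'.val with h | h
        exacts [key j j' _ _ h he', (key j' j _ _ h he'.symm).symm]
      subst hjj
      have hi := mul_right_cancel he'
      rw [pow_eq_pow_iff_modEq, d.ha3] at hi
      refine Prod.ext (Fin.ext ?_) rfl
      unfold Nat.ModEq at hi
      rwa [Nat.mod_eq_of_lt i.2, Nat.mod_eq_of_lt i'.2] at hi
    · rintro ⟨g, hg⟩
      obtain ⟨i, j, rfl⟩ := d.E_elt hg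
      refine ⟨(⟨i % 3, Nat.mod_lt _ (by norm_num)⟩, ⟨j % 3, Nat.mod_lt _ (by norm_num)⟩), Subtype.ext ?_⟩
      show d.a ^ (i % 3) * d.b ^ (j % 3) = d.a ^ i * d.b ^ j
      conv_rhs => rw [← pow_mod_orderOf d.a i, ← pow_mod_orderOf d.b j, d.ha3, hord]
  rw [← Nat.card_eq_of_bijective f hf, Nat.card_prod, Nat.card_fin]

/-- A `3`-subgroup of the centraliser of an involution moves into `E`. -/
theorem exists_to_E {v : G} (h2 : v * v = 1) (h1 : v ≠ 1) {X : Subgroup G} (hX : IsPGroup 3 X)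
    (hXv : X ≤ Ct v) : ∃ g, g * v * g⁻¹ = d.z ∧ ∀ x ∈ X, g * x * g⁻¹ ∈ d.E := by
  have : Fact (Nat.Prime 3) := ⟨Nat.prime_three⟩
  obtain ⟨g₀, hg₀⟩ := isConj_iff.1 (d.one v h2 h1).symm
  let X₀ : Subgroup (Ct d.z) := (X.map (MulAut.conj g₀).toMonoidHom).subgroupOf (Ct d.z)
  have hle : X.map (MulAut.conj g₀).toMonoidHom ≤ Ct d.z := by
    rintro y ⟨x, hx, rfl⟩
    refine mem_Ct.2 ?_
    show g₀ * x * g₀⁻¹ * d.z = d.z * (g₀ * x * g₀⁻¹)
    rw [← hg₀, conj_mul, conj_mul, mem_Ct.1 (hXv hx)]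
  have hX₀ : IsPGroup 3 X₀ := (hX.map _).of_equiv (Subgroup.subgroupOfEquivOfLe hle).symm
  let E₀ : Subgroup (Ct d.z) := d.E.subgroupOf (Ct d.z)
  have hE₀ : Nat.card E₀ = 3 ^ 2 := by
    rw [Nat.card_congr (Subgroup.subgroupOfEquivOfLe (show d.E ≤ Ct d.z from inf_le_right)).toEquiv, d.card_E]
    norm_num
  have hfac : (576 : ℕ).factorization 3 = 2 := by
    rw [show (576 : ℕ) = 3 ^ 2 * 64 by norm_num, Nat.factorization_mul (by norm_num) (by norm_num),
      Finsupp.add_apply, Nat.prime_three.factorization_pow, Finsupp.single_eq_same,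
      Nat.factorization_eq_zero_of_not_dvd (by norm_num)]
  let Q : Sylow 3 (Ct d.z) := Sylow.ofCard E₀ (by rw [d.card_ct, hfac, hE₀])
  obtain ⟨T, hT⟩ := hX₀.exists_le_sylow
  obtain ⟨k, hk⟩ := MulAction.exists_smul_eq (Ct d.z) T Q
  refine ⟨k * g₀, ?_, fun x hx => ?_⟩
  · rw [show (k : G) * g₀ * v * ((k : G) * g₀)⁻¹ = k * (g₀ * v * g₀⁻¹) * (k : G)⁻¹ by group, hg₀,
      mem_Ct.1 k.2, mul_inv_cancel_right]
  · have hm : g₀ * x * g₀⁻¹ ∈ X.map (MulAut.conj g₀).toMonoidHom := ⟨x, hx, rfl⟩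
    have hmem : k * ⟨g₀ * x * g₀⁻¹, hle hm⟩ * k⁻¹ ∈ (Q : Subgroup (Ct d.z)) := by
      rw [← hk]
      exact ⟨_, hT (Subgroup.mem_subgroupOf.2 hm), rfl⟩
    have h3 : ((k * ⟨g₀ * x * g₀⁻¹, hle hm⟩ * k⁻¹ : Ct d.z) : G) ∈ d.E := hmem
    rw [show (k : G) * g₀ * x * ((k : G) * g₀)⁻¹ = k * (g₀ * x * g₀⁻¹) * (k : G)⁻¹ by group]
    exact h3

theorem card_ne_27 (h : Nat.card d.O = 27) : False := by
  classical
  have : Fact (Nat.Prime 3) := ⟨Nat.prime_three⟩
  obtain ⟨v, w, hv, hwO, hvw, hwa, hw3, hzw, hbw, hF⟩ := d.exists_w h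
  obtain ⟨hwS, P, hP, hPc, hSP, hPw⟩ := d.exists_sylow_w h hwO hwa hw3 hzw hbw
  have hw1 : w ≠ 1 := fun e => hwa (e ▸ one_mem _)
  have hordw : orderOf w = 3 := orderOf_eq_prime hw3 hw1
  have hS81 : Nat.card d.S = 81 := by rw [d.card_S, h]
  have hwSm : w ∈ d.S := d.O_le_S hwO
  have haw : Commute d.a w := (hwS d.a (d.O_le_S d.a_mem_O)).symm
  -- the subgroup R
  let M : Submonoid G :=
    { carrier := {x | Commute x w ∧ (∀ s ∈ d.S, x * s * x⁻¹ ∈ d.S) ∧
        x * d.a * x⁻¹ * d.a⁻¹ ∈ Subgroup.zpowers w}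
      one_mem' := ⟨Commute.one_left _, fun s hs => by simpa using hs, by simp⟩
      mul_mem' := by
        rintro x y ⟨x1, x2, x3⟩ ⟨y1, y2, y3⟩
        refine ⟨x1.mul_left y1, fun s hs => ?_, ?_⟩
        · rw [show x * y * s * (x * y)⁻¹ = x * (y * s * y⁻¹) * x⁻¹ by group]
          exact x2 _ (y2 s hs)
        · obtain ⟨k, hk⟩ := Subgroup.mem_zpowers_iff.1 y3
          rw [show x * y * d.a * (x * y)⁻¹ * d.a⁻¹ =
            (x * (y * d.a * y⁻¹ * d.a⁻¹) * x⁻¹) * (x * d.a * x⁻¹ * d.a⁻¹) by group, ← hk,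
            (x1.zpow_right k).eq, mul_inv_cancel_right]
          exact mul_mem (zpow_mem (Subgroup.mem_zpowers _) k) x3 }
  let R : Subgroup G :=
    { M with
      inv_mem' := fun {x} hx => by
        have e : x⁻¹ = x ^ (orderOf x - 1) := by
          refine inv_eq_of_mul_eq_one_right ?_
          rw [← pow_succ', Nat.sub_add_cancel (orderOf_pos x), pow_orderOf_eq_one]
        rw [e]; exact M.pow_mem hx _ }
  have hmemR : ∀ x, x ∈ R ↔ Commute x w ∧ (∀ s ∈ d.S, x * s * x⁻¹ ∈ d.S) ∧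
      x * d.a * x⁻¹ * d.a⁻¹ ∈ Subgroup.zpowers w := fun x => Iff.rfl
  have hSR : d.S ≤ R := fun s hs => (hmemR s).2 ⟨(hwS s hs).symm,
    fun t ht => mul_mem (mul_mem hs ht) (inv_mem hs), by
      rw [mem_Ct.1 (d.S_le hs), mul_inv_cancel_right, mul_inv_cancel]; exact one_mem _⟩
  have hRa : ∀ g ∈ R, Commute g d.a → g ∈ d.S := by
    intro g hg hga
    obtain ⟨o, ho, y, rfl⟩ := d.decomposition (mem_Ct.2 hga)
    have hst : o * d.K y ∈ d.stab hwO := ⟨mem_Ct.2 hga, by
      rw [((hmemR _).1 hg).1.eq, mul_inv_cancel_right, mul_inv_cancel]; exact one_mem _⟩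
    have hy : d.K y ∈ d.stab hwO := by
      have := mul_mem (inv_mem (d.O_le_stab hwO ho)) hst
      rwa [inv_mul_cancel_left] at this
    have hb : d.b ∈ d.stab hwO := ⟨d.b_mem_Ct, by
      rw [hbw.eq, mul_inv_cancel_right, mul_inv_cancel]; exact one_mem _⟩
    exact mul_mem (d.O_le_S ho) (Subgroup.zpowers_le.2 d.b_mem_S (d.K_stab hwO hb hwa hy))
  let S' : Subgroup R := d.S.subgroupOf R
  have hidx : S'.index ≤ 3 := by
    rw [Subgroup.index_eq_card, ← hordw, ← Nat.card_zpowers]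
    refine Nat.card_le_card_of_injective (fun q : R ⧸ S' =>
      (⟨(q.out : G) * d.a * (q.out : G)⁻¹ * d.a⁻¹, ((hmemR _).1 q.out.2).2.2⟩ : Subgroup.zpowers w)) ?_
    intro q q' he
    have he' : (q.out : G) * d.a * (q.out : G)⁻¹ = (q'.out : G) * d.a * (q'.out : G)⁻¹ :=
      mul_right_cancel (congrArg Subtype.val he)
    rw [← q.out_eq, ← q'.out_eq]
    refine QuotientGroup.eq.2 (Subgroup.mem_subgroupOf.2 (hRa _ (q.out⁻¹ * q'.out).2 ?_))
    show (q.out : G)⁻¹ * q'.out * d.a = d.a * ((q.out : G)⁻¹ * q'.out)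
    calc (q.out : G)⁻¹ * q'.out * d.a = (q.out : G)⁻¹ * ((q'.out : G) * d.a * (q'.out : G)⁻¹) * q'.out := by group
      _ = _ := by rw [← he']; group
  -- elements of the Sylow subgroup normalising S lie in R
  have hPR : ∀ x ∈ P, (∀ s ∈ d.S, x * s * x⁻¹ ∈ d.S) → x ∈ R := by
    intro x hxP hxn
    refine (hmemR x).2 ⟨hPw x hxP, hxn, ?_⟩
    have hSinv : ∀ t ∈ d.S, x⁻¹ * t * x ∈ d.S := by
      intro t ht
      have hx2 : ∀ n : ℕ, ∀ t ∈ d.S, x ^ n * t * (x ^ n)⁻¹ ∈ d.S := by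
        intro n
        induction n with
        | zero => intro t ht; simpa using ht
        | succ n ih =>
          intro t ht
          rw [pow_succ', show x * x ^ n * t * (x * x ^ n)⁻¹ = x * (x ^ n * t * (x ^ n)⁻¹) * x⁻¹ by group]
          exact hxn _ (ih t ht)
      have e : x⁻¹ = x ^ (orderOf x - 1) := by
        refine inv_eq_of_mul_eq_one_right ?_
        rw [← pow_succ', Nat.sub_add_cancel (orderOf_pos x), pow_orderOf_eq_one]
      have := hx2 (orderOf x - 1) t ht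
      rwa [← e, inv_inv] at this
    obtain ⟨i, j, hij⟩ := d.central_eq h hwO hwa hw3 hbw (hxn d.a (d.O_le_S d.a_mem_O)) (fun t ht => by
      show x * d.a * x⁻¹ * t = t * (x * d.a * x⁻¹)
      calc x * d.a * x⁻¹ * t = x * (d.a * (x⁻¹ * t * x)) * x⁻¹ := by group
        _ = x * ((x⁻¹ * t * x) * d.a) * x⁻¹ := by rw [← mem_Ct.1 (d.S_le (hSinv t ht))]
        _ = _ := by group)
    have hxw : x * w * x⁻¹ = w := by rw [(hPw x hxP).eq, mul_inv_cancel_right]
    rw [← pow_mod_orderOf d.a, d.ha3] at hij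
    have hi3 : i % 3 < 3 := Nat.mod_lt _ (by norm_num)
    interval_cases hi : i % 3
    · exfalso
      rw [pow_zero, one_mul] at hij
      have haj : d.a = w ^ j := by
        calc d.a = x⁻¹ * (x * d.a * x⁻¹) * x := by group
          _ = x⁻¹ * (x * w * x⁻¹) ^ j * x := by rw [hij, hxw]
          _ = w ^ j := by rw [conj_pow]; group
      have hjm : j % 3 = 1 ∨ j % 3 = 2 := by
        have : j % 3 ≠ 0 := fun e => d.a_ne (by rw [haj, ← pow_mod_orderOf, hordw, e, pow_zero])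
        omega
      rw [← pow_mod_orderOf, hordw] at haj
      refine hwa ?_
      rcases hjm with e | e <;> rw [e] at haj
      · rw [haj, pow_one]; exact Subgroup.mem_zpowers _
      · have : w = d.a ^ 2 := by rw [haj, ← pow_mul, show (2 * 2 : ℕ) = 3 + 1 from rfl, pow_succ, hw3, one_mul]
        rw [this]; exact pow_mem (Subgroup.mem_zpowers _) 2
    · rw [pow_one] at hij
      rw [hij, (haw.pow_right j).eq, mul_inv_cancel_right]
      exact pow_mem (Subgroup.mem_zpowers _) j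
    · exfalso
      have hxx : x * x * d.a * (x * x)⁻¹ = d.a := by
        calc x * x * d.a * (x * x)⁻¹ = x * (x * d.a * x⁻¹) * x⁻¹ := by group
          _ = (x * d.a * x⁻¹) ^ 2 * (x * w * x⁻¹) ^ j := by rw [conj_pow, conj_pow, conj_mul, ← hij]
          _ = (d.a ^ 2 * w ^ j) ^ 2 * w ^ j := by rw [hij, hxw]
          _ = d.a ^ (2 * 2) * w ^ (j * 3) := by
              rw [(haw.pow_pow 2 j).mul_pow, ← pow_mul, ← pow_mul, mul_assoc, ← pow_add]
              congr 2
          _ = d.a := by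
              rw [show (2 * 2 : ℕ) = 3 + 1 from rfl, pow_succ, d.a_cube, one_mul, mul_comm j, pow_mul, hw3,
                one_pow, mul_one]
      have hc := comm_of_sq (odd_of_mem hPc hxP) (mul_inv_eq_iff_eq_mul.1 hxx)
      rw [hc.eq, mul_inv_cancel_right] at hij
      have hwj : w ^ j = d.a⁻¹ ^ 1 := by
        rw [pow_one]
        refine eq_inv_of_mul_eq_one_right ?_
        have := congrArg (fun t => d.a⁻¹ * t) hij
        simp only [inv_mul_cancel] at this
        rw [this]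
        group
      have hjm : j % 3 = 1 ∨ j % 3 = 2 := by
        have : j % 3 ≠ 0 := fun e => d.a_ne (by
          rw [← pow_mod_orderOf, hordw, e, pow_zero, pow_one] at hwj
          exact inv_eq_one.1 hwj.symm)
        omega
      rw [← pow_mod_orderOf, hordw, pow_one] at hwj
      refine hwa ?_
      rcases hjm with e | e <;> rw [e] at hwj
      · rw [pow_one] at hwj; rw [hwj]; exact inv_mem (Subgroup.mem_zpowers _)
      · have : w = d.a⁻¹ ^ 2 := by rw [← hwj, ← pow_mul, show (2 * 2 : ℕ) = 3 + 1 from rfl, pow_succ, hw3, one_mul]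
        rw [this]; exact pow_mem (inv_mem (Subgroup.mem_zpowers _)) 2
  have hne : d.S ≠ P := fun e => by rw [e, hPc] at hS81; norm_num at hS81
  obtain ⟨x₀, hx₀P, hx₀S, hx₀n⟩ := exists_normalizing hP hSP hne
  have hx₀R : x₀ ∈ R := hPR x₀ hx₀P hx₀n
  have hS'card : Nat.card S' = 81 := by
    rw [Nat.card_congr (Subgroup.subgroupOfEquivOfLe hSR).toEquiv, hS81]
  have hidx3 : S'.index = 3 := by
    have h1 : S'.index ≠ 1 := fun e => hx₀S (Subgroup.mem_subgroupOf.1
      ((Subgroup.index_eq_one.1 e).symm ▸ Subgroup.mem_top (⟨x₀, hx₀R⟩ : R)))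
    have h2 : S'.index ≠ 2 := fun e => hx₀S (mem_of_sq (odd_of_mem hPc hx₀P)
      (Subgroup.mem_subgroupOf.1 (Subgroup.mul_self_mem_of_index_two e (⟨x₀, hx₀R⟩ : R))))
    have h0 : S'.index ≠ 0 := Subgroup.index_ne_zero_of_finite
    omega
  have hRcard : Nat.card R = 243 := by
    have := S'.card_mul_index
    rw [hS'card, hidx3] at this
    omega
  have hRP : R ≤ P := by
    have hT : P ⊓ R = R := by
      refine Subgroup.eq_of_le_of_card_ge inf_le_right ?_
      rw [hRcard]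
      obtain ⟨n, hn⟩ := IsPGroup.iff_card.1 (hP.to_le (inf_le_left : P ⊓ R ≤ P))
      have hlt : 81 < Nat.card (P ⊓ R : Subgroup G) := by
        have hle : d.S ≤ P ⊓ R := le_inf hSP hSR
        have h1 := Subgroup.card_le_of_le hle
        rcases lt_or_eq_of_le h1 with h2 | h2
        · omega
        · exact absurd ((Subgroup.eq_of_le_of_card_ge hle h2.ge).symm ▸
            (⟨hx₀P, hx₀R⟩ : x₀ ∈ P ⊓ R)) hx₀S
      rw [hn] at hlt ⊢
      have h4 : 4 < n := by
        by_contra hle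
        have := Nat.pow_le_pow_right (show 1 ≤ 3 by norm_num) (show n ≤ 4 by omega)
        norm_num at this
        omega
      have := Nat.pow_le_pow_right (show 1 ≤ 3 by norm_num) (show 5 ≤ n by omega)
      norm_num at this
      omega
    rw [← hT]; exact inf_le_left
  have hne2 : R ≠ P := fun e => by rw [e, hPc] at hRcard; norm_num at hRcard
  obtain ⟨p, hpP, hpR, hpn⟩ := exists_normalizing hP hRP hne2
  -- the reflection on R
  have hvi : v⁻¹ = v := d.refl_inv hv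
  have hvv : v * v = 1 := d.refl_sq hv
  have hvvy : ∀ y, v * (v * y) = y := fun y => by rw [← mul_assoc, hvv, one_mul]
  have hvcm : ∀ x y : G, v * (x * y) * v = (v * x * v) * (v * y * v) := fun x y => by
    simp [mul_assoc, hvvy]
  have hvW : ∀ c ∈ Subgroup.zpowers w, v * c * v = c := by
    intro c hc
    obtain ⟨k, rfl⟩ := Subgroup.mem_zpowers_iff.1 hc
    have hvw' : Commute v w := by
      show v * w = w * v
      conv_rhs => rw [← hvw]
      rw [mul_assoc _ v v, hvv, mul_one]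
    rw [(hvw'.zpow_right k).eq, mul_assoc, hvv, mul_one]
  have hWR : ∀ c ∈ Subgroup.zpowers w, ∀ x ∈ R, c * x = x * c := by
    intro c hc x hx
    obtain ⟨k, rfl⟩ := Subgroup.mem_zpowers_iff.1 hc
    exact (((hmemR x).1 hx).1.zpow_right k).eq.symm
  have hWleS : Subgroup.zpowers w ≤ d.S := Subgroup.zpowers_le.2 hwSm
  have hvS : ∀ s ∈ d.S, v * s * v ∈ d.S := by
    rintro s ⟨o, ho, j, rfl⟩
    rw [hvcm]
    refine mul_mem (d.O_le_S (d.refl_O hv ho)) ?_
    have h' := map_pow (MulAut.conj v).toMonoidHom d.b j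
    simp only [MulEquiv.coe_toMonoidHom, MulAut.conj_apply, hvi, d.refl_b hv] at h'
    rw [h']
    exact pow_mem (inv_mem d.b_mem_S) j
  have hva : ∀ x, v * x * v * d.a * (v * x * v)⁻¹ * d.a⁻¹ = v * (x * d.a⁻¹ * x⁻¹ * d.a) * v := by
    intro x
    have h1 := d.refl_a hv
    have h2 : v * d.a⁻¹ * v = d.a := by
      have := congrArg (fun t => t⁻¹) h1
      simpa [mul_assoc, hvi] using this
    rw [hvcm, hvcm, hvcm, h2, h1, mul_inv_rev, mul_inv_rev, hvi]
    simp [mul_assoc]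
  have hcx : ∀ x ∈ R, x * d.a⁻¹ * x⁻¹ * d.a = (x * d.a * x⁻¹ * d.a⁻¹)⁻¹ := by
    intro x hx
    obtain ⟨k, hk⟩ := Subgroup.mem_zpowers_iff.1 ((hmemR x).1 hx).2.2
    rw [← hk]
    have hc : x * d.a * x⁻¹ = w ^ k * d.a := by rw [hk, inv_mul_cancel_right]
    rw [← conj_inv, hc, mul_inv_rev, mul_assoc, ← ((haw.zpow_right k).inv_right).eq, inv_mul_cancel_left]
  have hvR : ∀ x ∈ R, v * x * v ∈ R := by
    intro x hx
    obtain ⟨x1, x2, x3⟩ := (hmemR x).1 hx
    refine (hmemR _).2 ⟨?_, fun s hs => ?_, ?_⟩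
    · have hvw' : Commute v w := by
        show v * w = w * v
        conv_rhs => rw [← hvw]
        rw [mul_assoc _ v v, hvv, mul_one]
      exact (hvw'.mul_left x1).mul_left hvw'
    · rw [show v * x * v * s * (v * x * v)⁻¹ = v * (x * (v * s * v) * x⁻¹) * v by
        rw [mul_inv_rev, mul_inv_rev, hvi]; group]
      exact hvS _ (x2 _ (hvS s hs))
    · rw [hva, hcx x hx, hvW _ (inv_mem x3)]
      exact inv_mem x3
  have hRodd : Odd (Nat.card R) := by rw [hRcard]; decide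
  have I : Inverting R (Subgroup.zpowers w) v :=
    { odd := hRodd
      sq := hvv
      norm := hvR
      le := hWleS.trans hSR
      central := hWR
      cent := hvW
      fix := fun x hx hfix => by
        obtain ⟨x1, x2, x3⟩ := (hmemR x).1 hx
        have e := hva x
        rw [hfix, hcx x hx, hvW _ (inv_mem x3)] at e
        have hc1 : x * d.a * x⁻¹ * d.a⁻¹ = 1 :=
          eq_one_of_sq_odd (mul_eq_one_iff_eq_inv.2 e) (odd_orderOf hRodd (hWleS.trans hSR x3))
        have hxa : Commute x d.a := mul_inv_eq_iff_eq_mul.1 (mul_inv_eq_one.1 hc1)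
        obtain ⟨o, ho, j, rfl⟩ := hRa x hx hxa
        have hb : v * d.b ^ j * v = (d.b ^ j)⁻¹ := by
          have h' := map_pow (MulAut.conj v).toMonoidHom d.b j
          simp only [MulEquiv.coe_toMonoidHom, MulAut.conj_apply, hvi, d.refl_b hv] at h'
          rw [h', inv_pow]
        rw [hvcm, hb] at hfix
        have hbb : d.b ^ (j + j) ∈ d.O := by
          have : d.b ^ (j + j) = o⁻¹ * (v * o * v) := by
            rw [show v * o * v = o * d.b ^ j * d.b ^ j from mul_inv_eq_iff_eq_mul.1 hfix, pow_add]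
            group
          rw [this]; exact mul_mem (inv_mem ho) (d.refl_O hv ho)
        have hb1 : d.b ^ j = 1 := eq_one_of_sq_odd (by rw [← pow_add]; exact d.b_pow_O hbb)
          (odd_orderOf hRodd (hSR (pow_mem d.b_mem_S j)))
        rw [hb1, inv_one, mul_one, mul_one] at hfix
        rw [hb1, mul_one, ← hF]
        exact (d.mem_fixed hv).2 ⟨ho, hfix⟩ }
  obtain ⟨y, hydef⟩ : ∃ y, y = p⁻¹ * v * p * v := ⟨_, rfl⟩
  have hpw : ∀ c ∈ Subgroup.zpowers w, Commute p c := by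
    intro c hc
    obtain ⟨k, rfl⟩ := Subgroup.mem_zpowers_iff.1 hc
    exact (hPw p hpP).zpow_right k
  have hkey : ∀ r ∈ R, ∃ c₁ ∈ Subgroup.zpowers w, ∃ c₂ ∈ Subgroup.zpowers w, y * r * y⁻¹ = c₁ * r * c₂ := by
    intro r hr
    obtain ⟨c₁, hc₁, e1⟩ : ∃ c ∈ Subgroup.zpowers w, v * r * v = c * r⁻¹ :=
      ⟨_, I.mem hr, by rw [mul_inv_cancel_right]⟩
    obtain ⟨q, hqdef⟩ : ∃ q, q = p * r * p⁻¹ := ⟨_, rfl⟩
    obtain ⟨c₂, hc₂, e2⟩ : ∃ c ∈ Subgroup.zpowers w, v * q * v = c * q⁻¹ :=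
      ⟨_, I.mem (hqdef ▸ hpn r hr), by rw [mul_inv_cancel_right]⟩
    refine ⟨c₁, hc₁, c₂⁻¹, inv_mem hc₂, ?_⟩
    have hvp : Commute (p⁻¹ * v * p) c₁ := by
      have hv1 : Commute v c₁ := by
        show v * c₁ = c₁ * v
        conv_rhs => rw [← hvW c₁ hc₁]
        rw [mul_assoc _ v v, hvv, mul_one]
      exact ((hpw c₁ hc₁).inv_left.mul_left hv1).mul_left (hpw c₁ hc₁)
    calc y * r * y⁻¹ = (p⁻¹ * v * p) * (v * r * v) * (p⁻¹ * v * p) := by
          rw [hydef, mul_inv_rev, mul_inv_rev, mul_inv_rev, hvi, inv_inv]; group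
      _ = ((p⁻¹ * v * p) * c₁) * (r⁻¹ * (p⁻¹ * v * p)) := by rw [e1]; group
      _ = c₁ * ((p⁻¹ * v * p) * (r⁻¹ * (p⁻¹ * v * p))) := by rw [hvp.eq, mul_assoc]
      _ = c₁ * (p⁻¹ * (v * q * v)⁻¹ * p) := by
          rw [hqdef, mul_inv_rev, mul_inv_rev, mul_inv_rev, mul_inv_rev, hvi, inv_inv]; group
      _ = c₁ * (p⁻¹ * q * p * (p⁻¹ * c₂⁻¹ * p)) := by rw [e2, mul_inv_rev, inv_inv]; group
      _ = c₁ * r * c₂⁻¹ := by
          rw [((hpw _ (inv_mem hc₂)).inv_left).eq, inv_mul_cancel_right, hqdef]; group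
  have hyR : y ∈ R := by
    refine (hmemR y).2 ⟨?_, fun s hs => ?_, ?_⟩
    · have hvw' : Commute v w := by
        show v * w = w * v
        conv_rhs => rw [← hvw]
        rw [mul_assoc _ v v, hvv, mul_one]
      rw [hydef]
      exact (((hPw p hpP).inv_left.mul_left hvw').mul_left (hPw p hpP)).mul_left hvw'
    · obtain ⟨c₁, hc₁, c₂, hc₂, e⟩ := hkey s (hSR hs)
      rw [e]; exact mul_mem (mul_mem (hWleS hc₁) hs) (hWleS hc₂)
    · obtain ⟨c₁, hc₁, c₂, hc₂, e⟩ := hkey d.a (hSR (d.O_le_S d.a_mem_O))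
      rw [e, mul_assoc c₁, ← hWR c₂ hc₂ d.a (hSR (d.O_le_S d.a_mem_O)), ← mul_assoc, mul_inv_cancel_right]
      exact mul_mem hc₁ hc₂
  -- a fixed point in the coset
  let f : R → R := fun r => ⟨y * (v * r * v), mul_mem hyR (hvR r r.2)⟩
  have hf : Function.Involutive f := by
    intro r
    apply Subtype.ext
    show y * (v * (y * (v * r * v)) * v) = (r : G)
    rw [hydef]
    simp [mul_assoc, hvv, hvvy]
  obtain ⟨r, hr⟩ := exists_fixed hRodd f hf
  have hr' : y * (v * r * v) = (r : G) := congrArg Subtype.val hr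
  obtain ⟨α, hαdef⟩ : ∃ α, α = p * r := ⟨_, rfl⟩
  have hαv : v * α * v = α := by
    rw [hαdef]
    calc v * (p * r) * v = p * (y * (v * r * v)) := by rw [hydef]; simp [mul_assoc, hvvy]
      _ = p * r := by rw [hr']
  have hαP : α ∈ P := hαdef ▸ mul_mem hpP (hRP r.2)
  have hαR : α ∉ R := fun a => hpR (by
    have := mul_mem (hαdef ▸ a : p * (r : G) ∈ R) (inv_mem r.2)
    rwa [mul_inv_cancel_right] at this)
  have hαn : ∀ t ∈ R, α * t * α⁻¹ ∈ R := fun t ht => by
    rw [hαdef, show p * (r : G) * t * (p * (r : G))⁻¹ = p * ((r : G) * t * (r : G)⁻¹) * p⁻¹ by group]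
    exact hpn _ (mul_mem (mul_mem r.2 ht) (inv_mem r.2))
  have hαw : Commute α w := hPw α hαP
  obtain ⟨g, hgv, hgX⟩ := d.exists_to_E hvv (d.refl_ne hv) (X := P ⊓ Ct v) (hP.to_le inf_le_left) inf_le_right
  have hwP : w ∈ P := hSP hwSm
  have hvw'' : w ∈ Ct v := mem_Ct.2 (by
    conv_lhs => rw [← hvw]
    rw [mul_assoc _ v v, hvv, mul_one])
  have hαC : α ∈ Ct v := mem_Ct.2 (by
    conv_lhs => rw [← hαv]
    rw [mul_assoc _ v v, hvv, mul_one])
  have hα3 : α ^ 3 = 1 := by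
    have := d.E_cube (hgX α ⟨hαP, hαC⟩)
    rw [conj_pow, conj_eq_one_iff] at this
    exact this
  -- fixed points of `α`
  let W : Subgroup R := (Subgroup.zpowers w).subgroupOf R
  have hWn : W.Normal := ⟨fun c hc u => by
    have hcu : u * c * u⁻¹ = c := Subtype.ext (show (u : G) * c * (u : G)⁻¹ = c by
      rw [← hWR c (Subgroup.mem_subgroupOf.1 hc) u u.2, mul_inv_cancel_right])
    rwa [hcu]⟩
  letI instA : CommGroup (R ⧸ W) :=
    { (inferInstance : Group (R ⧸ W)) with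
      mul_comm := fun s t => by
        obtain ⟨s, rfl⟩ := QuotientGroup.mk_surjective s
        obtain ⟨t, rfl⟩ := QuotientGroup.mk_surjective t
        rw [← QuotientGroup.mk_mul, ← QuotientGroup.mk_mul, QuotientGroup.eq, Subgroup.mem_subgroupOf]
        show ((s : G) * t)⁻¹ * ((t : G) * s) ∈ _
        rw [mul_inv_rev, show (t : G)⁻¹ * (s : G)⁻¹ * ((t : G) * s) = (t : G)⁻¹ * (s : G)⁻¹ * t * s by group]
        exact I.comm t.2 s.2 }
  have hWcard : Nat.card W = 3 := by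
    rw [Nat.card_congr (Subgroup.subgroupOfEquivOfLe (hWleS.trans hSR)).toEquiv, Nat.card_zpowers, hordw]
  have hA : Nat.card (R ⧸ W) = 81 := by
    have := W.card_mul_index
    rw [hWcard, hRcard, Subgroup.index_eq_card] at this
    omega
  let cj : R →* R :=
    { toFun := fun t => ⟨α * t * α⁻¹, hαn t t.2⟩
      map_one' := Subtype.ext (by show α * 1 * α⁻¹ = 1; group)
      map_mul' := fun s t => Subtype.ext (by show α * (s * t) * α⁻¹ = α * s * α⁻¹ * (α * t * α⁻¹); group) }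
  have hαc : ∀ c ∈ Subgroup.zpowers w, α * c * α⁻¹ = c := by
    intro c hc
    obtain ⟨k, rfl⟩ := Subgroup.mem_zpowers_iff.1 hc
    rw [(hαw.zpow_right k).eq, mul_inv_cancel_right]
  let σ : R ⧸ W →* R ⧸ W := QuotientGroup.map W W cj fun c hc => by
    rw [Subgroup.mem_comap, Subgroup.mem_subgroupOf]
    show α * (c : G) * α⁻¹ ∈ _
    rw [hαc _ (Subgroup.mem_subgroupOf.1 hc)]
    exact Subgroup.mem_subgroupOf.1 hc
  have hσmk : ∀ t : R, σ (QuotientGroup.mk t) = QuotientGroup.mk (cj t) := fun t => rfl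
  have hσ : ∀ q, σ (σ (σ q)) = q := by
    intro q
    obtain ⟨t, rfl⟩ := QuotientGroup.mk_surjective q
    rw [hσmk, hσmk, hσmk]
    congr 1
    apply Subtype.ext
    show α * (α * (α * t * α⁻¹) * α⁻¹) * α⁻¹ = (t : G)
    have h3 : α * α * α = 1 := by rwa [pow_succ, pow_two] at hα3
    rw [show α * (α * (α * (t : G) * α⁻¹) * α⁻¹) * α⁻¹ = (α * α * α) * t * (α * α * α)⁻¹ by group, h3]
    group
  have hT : 27 ≤ Nat.card (powMonoidHom 3 : R ⧸ W →* R ⧸ W).ker := by
    let φ : d.S →* R ⧸ W := (QuotientGroup.mk' W).comp (Subgroup.inclusion hSR)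
    have hk : Nat.card φ.ker ≤ 3 := by
      rw [← hWcard]
      refine Nat.card_le_card_of_injective (fun u : φ.ker =>
        (⟨Subgroup.inclusion hSR u, (QuotientGroup.eq_one_iff _).1 u.2⟩ : W)) ?_
      intro u u' he
      exact Subtype.ext (Subtype.ext (congrArg (fun t : W => ((t : R) : G)) he))
    have hrange : φ.range ≤ (powMonoidHom 3 : R ⧸ W →* R ⧸ W).ker := by
      rintro q ⟨⟨s, o, ho, j, rfl⟩, rfl⟩
      rw [MonoidHom.mem_ker, powMonoidHom_apply]
      obtain ⟨p', hp', q', hq', c, hc, e⟩ := d.core_decomposition ho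
      have cube : ∀ u, ∀ hu : u ∈ d.S, u ^ 3 = 1 → φ ⟨u, hu⟩ ^ 3 = 1 := by
        intro u hu h3
        rw [← map_pow, show (⟨u, hu⟩ : d.S) ^ 3 = 1 from Subtype.ext h3, map_one]
      have hc3 : c ^ 3 = 1 := by
        obtain ⟨n, rfl⟩ := mem_powers_iff_mem_zpowers.2 hc
        show (d.a ^ n) ^ 3 = 1
        rw [← pow_mul, mul_comm, pow_mul, d.a_cube, one_pow]
      have h9 := d.card_O
      rw [h] at h9
      have hh3 : Nat.card (d.fixed d.h) = 3 := by
        rcases d.card_fixed (Or.inl rfl) with e | e | e <;> rw [e] at h9 <;> omega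
      have f3 : ∀ {u : G} {F : Subgroup G}, Nat.card F = 3 → u ∈ F → u ^ 3 = 1 := by
        intro u F hF hu
        have := pow_card_eq_one' (x := (⟨u, hu⟩ : F))
        rw [hF] at this
        exact congrArg Subtype.val this
      have hp3 := f3 hh3 hp'
      have hq3 := f3 (d.card_fixed_eq.trans hh3) hq'
      have hb3 : (d.b ^ j) ^ 3 = 1 := by rw [← pow_mul, mul_comm, pow_mul, d.b_cube, one_pow]
      have hdec : (⟨o * d.b ^ j, o, ho, j, rfl⟩ : d.S) =
          ⟨p', d.O_le_S hp'.1⟩ * ⟨q', d.O_le_S hq'.1⟩ * ⟨c, d.O_le_S (d.inverting.le hc)⟩ *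
            ⟨d.b ^ j, pow_mem d.b_mem_S j⟩ := Subtype.ext (by
        show o * d.b ^ j = p' * q' * c * d.b ^ j
        rw [e])
      rw [hdec, map_mul, map_mul, map_mul, mul_pow, mul_pow, mul_pow, cube _ _ hp3, cube _ _ hq3,
        cube _ _ hc3, cube _ _ hb3]
      simp
    refine le_trans ?_ (Subgroup.card_le_of_le hrange)
    have := φ.ker.card_mul_index
    rw [Subgroup.index_ker, hS81] at this
    nlinarith
  have hF9 := fixed_bound hA σ hσ hT
  -- they commute with `α`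
  let Fp : Subgroup R := ((σ / MonoidHom.id (R ⧸ W)).ker).comap (QuotientGroup.mk' W)
  have hFp : 27 ≤ Nat.card Fp := by
    have hi : Fp.index = (σ / MonoidHom.id (R ⧸ W)).ker.index :=
      Subgroup.index_comap_of_surjective _ (QuotientGroup.mk'_surjective W)
    have h1 := Fp.card_mul_index
    have h2 := (σ / MonoidHom.id (R ⧸ W)).ker.card_mul_index
    rw [hRcard, hi] at h1
    rw [hA] at h2
    nlinarith
  have hcommα : ∀ t : R, t ∈ Fp → Commute (t : G) α := by
    intro t ht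
    have h0 : σ (QuotientGroup.mk t) / QuotientGroup.mk t = 1 := ht
    rw [hσmk, div_eq_one, QuotientGroup.eq, Subgroup.mem_subgroupOf] at h0
    have h1 : (α * (t : G) * α⁻¹)⁻¹ * t ∈ Subgroup.zpowers w := h0
    obtain ⟨u, hu, hui, huc⟩ := I.exists_inverted t.2
    obtain ⟨c, hcdef⟩ : ∃ c, c = u⁻¹ * (t : G) := ⟨_, rfl⟩
    rw [← hcdef] at huc
    have htu : (t : G) = u * c := by rw [hcdef, mul_inv_cancel_left]
    obtain ⟨e, hedef⟩ : ∃ e, e = (α * (t : G) * α⁻¹)⁻¹ * t := ⟨_, rfl⟩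
    rw [← hedef] at h1
    have he' : α * u * α⁻¹ = u * e⁻¹ := by
      have h2 : α * (t : G) * α⁻¹ = (t : G) * e⁻¹ := by rw [hedef]; group
      rw [htu, show α * (u * c) * α⁻¹ = (α * u * α⁻¹) * (α * c * α⁻¹) by group, hαc c huc] at h2
      have hce : c * e⁻¹ = e⁻¹ * c := hWR c huc e⁻¹ (hWleS.trans hSR (inv_mem h1))
      rw [mul_assoc u c, hce, ← mul_assoc u] at h2
      exact mul_right_cancel h2
    have he2 : α * u⁻¹ * α⁻¹ = u⁻¹ * e⁻¹ := by
      have hvα : Commute v α := (mem_Ct.1 hαC).symm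
      calc α * u⁻¹ * α⁻¹ = α * (v * u * v) * α⁻¹ := by rw [hui]
        _ = v * (α * u * α⁻¹) * v := by
          rw [show α * (v * u * v) * α⁻¹ = (α * v) * u * (v * α⁻¹) by group, ← hvα.eq, hvα.inv_right.eq]
          group
        _ = u⁻¹ * e⁻¹ := by rw [he', hvcm, hui, hvW _ (inv_mem h1)]
    have hee : e = 1 := by
      have h3 : (α * u * α⁻¹) * (α * u⁻¹ * α⁻¹) = 1 := by group
      rw [he', he2, show u * e⁻¹ * (u⁻¹ * e⁻¹) = u * (e⁻¹ * u⁻¹) * e⁻¹ by group,
        hWR _ (inv_mem h1) _ (inv_mem hu), mul_inv_cancel_left, ← mul_inv_rev, inv_eq_one] at h3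
      exact eq_one_of_sq_odd h3 (odd_orderOf hRodd (hWleS.trans hSR h1))
    rw [hee, inv_one, mul_one] at he'
    rw [htu]
    exact (show Commute u α from (mul_inv_eq_iff_eq_mul.1 he').symm).mul_left
      (show Commute c α from (mul_inv_eq_iff_eq_mul.1 (hαc c huc)).symm)
  have hUcard : 81 ≤ Nat.card (P ⊓ Ct α : Subgroup G) := by
    obtain ⟨n, hn⟩ := IsPGroup.iff_card.1 (hP.to_le (inf_le_left : P ⊓ Ct α ≤ P))
    have hle : Fp.map R.subtype ≤ P ⊓ Ct α := by
      rintro u ⟨t, ht, rfl⟩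
      exact ⟨hRP t.2, mem_Ct.2 (hcommα t ht).eq⟩
    have h1 := Subgroup.card_le_of_le hle
    rw [Subgroup.card_subtype] at h1
    have hlt : 27 < Nat.card (P ⊓ Ct α : Subgroup G) := by
      rcases lt_or_eq_of_le (hFp.trans h1) with h2 | h2
      · exact h2
      exfalso
      have heq := Subgroup.eq_of_le_of_card_ge hle (by rw [Subgroup.card_subtype]; omega)
      have hm : α ∈ P ⊓ Ct α := ⟨hαP, mem_Ct.2 rfl⟩
      rw [← heq] at hm
      obtain ⟨t, -, ht⟩ := hm
      exact hαR (ht ▸ t.2)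
    rw [hn] at hlt ⊢
    have h3 : 3 < n := by
      by_contra hle
      have := Nat.pow_le_pow_right (show 1 ≤ 3 by norm_num) (show n ≤ 3 by omega)
      norm_num at this
      omega
    have := Nat.pow_le_pow_right (show 1 ≤ 3 by norm_num) (show 4 ≤ n by omega)
    norm_num at this
    omega
  -- the element conjugate to `a`
  let X : Subgroup G := Subgroup.closure {α, w}
  have hXle : X ≤ P ⊓ Ct v := (Subgroup.closure_le _).2 (by
    intro t ht
    simp only [Set.mem_insert_iff, Set.mem_singleton_iff] at ht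
    rcases ht with rfl | rfl
    exacts [⟨hαP, hαC⟩, ⟨hwP, hvw''⟩])
  have hwX : w ∈ X := Subgroup.subset_closure (Set.mem_insert_of_mem _ rfl)
  have hαX : α ∈ X := Subgroup.subset_closure (Set.mem_insert _ _)
  let cg : X → d.E := fun t => ⟨g * t * g⁻¹, hgX t (hXle t.2)⟩
  have hcg : Function.Injective cg := fun s t he => Subtype.ext (by
    have h' := congrArg (fun u : d.E => (u : G)) he
    simpa [cg] using h')
  have hcgs : Function.Surjective cg := by
    refine (Function.Injective.bijective_of_nat_card_le hcg ?_).2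
    rw [d.card_E]
    obtain ⟨n, hn⟩ := IsPGroup.iff_card.1 (hP.to_le (hXle.trans inf_le_left))
    have hlt : 3 < Nat.card X := by
      have hle : Subgroup.zpowers w ≤ X := Subgroup.zpowers_le.2 hwX
      have h1 := Subgroup.card_le_of_le hle
      rw [Nat.card_zpowers, hordw] at h1
      rcases lt_or_eq_of_le h1 with h2 | h2
      · exact h2
      exfalso
      have heq := Subgroup.eq_of_le_of_card_ge hle (by rw [Nat.card_zpowers, hordw]; omega)
      exact hαR (hWleS.trans hSR (heq.symm ▸ hαX))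
    rw [hn] at hlt ⊢
    have h3 : 1 < n := by
      by_contra hle
      have := Nat.pow_le_pow_right (show 1 ≤ 3 by norm_num) (show n ≤ 1 by omega)
      norm_num at this
      omega
    have := Nat.pow_le_pow_right (show 1 ≤ 3 by norm_num) (show 2 ≤ n by omega)
    norm_num at this
    omega
  obtain ⟨⟨a', ha'X⟩, ha'⟩ := hcgs ⟨d.a, d.O_le_S d.a_mem_O, mem_Ct.2 d.hza.symm⟩
  have hga : g * a' * g⁻¹ = d.a := congrArg Subtype.val ha'
  have hUa : ∀ t ∈ P ⊓ Ct α, g * t * g⁻¹ ∈ Ct d.a := by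
    intro t ht
    have hle : X ≤ Ct t := (Subgroup.closure_le _).2 (by
      intro s hs
      simp only [Set.mem_insert_iff, Set.mem_singleton_iff] at hs
      rcases hs with rfl | rfl
      · exact mem_Ct.2 (mem_Ct.1 ht.2).symm
      · exact mem_Ct.2 (hPw t ht.1).eq.symm)
    refine mem_Ct.2 ?_
    rw [← hga, conj_mul, conj_mul, mem_Ct.1 (hle ha'X)]
  obtain ⟨w', hw'def⟩ : ∃ w', w' = g * w * g⁻¹ := ⟨_, rfl⟩
  let U : Subgroup G := (P ⊓ Ct α).map (MulAut.conj g).toMonoidHom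
  have hUle : U ≤ Ct d.a := by rintro u ⟨t, ht, rfl⟩; exact hUa t ht
  have hUp : IsPGroup 3 U := (hP.to_le inf_le_left).map _
  have hUcard' : 81 ≤ Nat.card U := by
    rw [Subgroup.card_map_of_injective (MulEquiv.injective _)]; exact hUcard
  have hwU : w' ∈ U := ⟨w, ⟨hwP, mem_Ct.2 hαw.eq.symm⟩, hw'def.symm⟩
  have hwcomm : ∀ u ∈ U, Commute u w' := by
    rintro u ⟨t, ht, rfl⟩
    show g * t * g⁻¹ * w' = w' * (g * t * g⁻¹)
    rw [hw'def, conj_mul, conj_mul, (hPw t ht.1).eq]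
  let S₀ : Subgroup (Ct d.a) := d.S.subgroupOf (Ct d.a)
  have hS₀ : Nat.card S₀ = 81 := by
    rw [Nat.card_congr (Subgroup.subgroupOfEquivOfLe d.S_le).toEquiv, hS81]
  have hfac : Nat.card S₀ = 3 ^ (Nat.card (Ct d.a)).factorization 3 := by
    rw [hS₀, d.card_Ct_a, h, show 27 * 24 = 3 ^ 4 * 8 by norm_num,
      Nat.factorization_mul (by norm_num) (by norm_num), Finsupp.add_apply, Nat.prime_three.factorization_pow,
      Finsupp.single_eq_same, Nat.factorization_eq_zero_of_not_dvd (by norm_num)]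
    norm_num
  let Q : Sylow 3 (Ct d.a) := Sylow.ofCard S₀ hfac
  obtain ⟨T, hT'⟩ := (hUp.of_equiv (Subgroup.subgroupOfEquivOfLe hUle).symm).exists_le_sylow
  obtain ⟨k, hk⟩ := MulAction.exists_smul_eq (Ct d.a) T Q
  have hkU : ∀ u ∈ U, (k : G) * u * (k : G)⁻¹ ∈ d.S := by
    intro u hu
    have hmem : k * ⟨u, hUle hu⟩ * k⁻¹ ∈ (Q : Subgroup (Ct d.a)) := by
      rw [← hk]
      exact ⟨_, hT' (Subgroup.mem_subgroupOf.2 hu), rfl⟩
    exact hmem
  let ck : U → d.S := fun u => ⟨(k : G) * u * (k : G)⁻¹, hkU u u.2⟩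
  have hck : Function.Injective ck := fun s t he => Subtype.ext (by
    have h' := congrArg (fun u : d.S => (u : G)) he
    simpa [ck] using h')
  have hcks : Function.Surjective ck :=
    (Function.Injective.bijective_of_nat_card_le hck (by rw [hS81]; exact hUcard')).2
  obtain ⟨i, j, hij⟩ := d.central_eq h hwO hwa hw3 hbw (hkU w' hwU) (fun s hs => by
    obtain ⟨u, hu⟩ := hcks ⟨s, hs⟩
    have hu' : (k : G) * u * (k : G)⁻¹ = s := congrArg Subtype.val hu
    show _ = _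
    rw [← hu', conj_mul, conj_mul, (hwcomm u u.2).eq])
  have hw'O : w' ∈ d.O := by
    have hm : (k : G) * w' * (k : G)⁻¹ ∈ d.O := hij ▸ mul_mem (pow_mem d.a_mem_O i) (pow_mem hwO j)
    have := d.O_normal (inv_mem k.2) hm
    rwa [show (k : G)⁻¹ * ((k : G) * w' * (k : G)⁻¹) * (k : G)⁻¹⁻¹ = w' by group] at this
  have hw'z : Commute w' d.z := by
    show w' * d.z = d.z * w'
    rw [hw'def, ← hgv, conj_mul, conj_mul, mem_Ct.1 hvw'']
  have hw'a : w' ∈ Subgroup.zpowers d.a := d.fix_z hw'O (by rw [← hw'z.eq, mul_assoc, d.z_sq, mul_one])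
  obtain ⟨n, hn⟩ : ∃ n : ℕ, d.a ^ n = w' := mem_powers_iff_mem_zpowers.2 hw'a
  have hP729 : 729 ∣ Nat.card (Ct w) := hPc ▸ Subgroup.card_dvd_of_le fun t ht => mem_Ct.2 (hPw t ht).eq
  rw [← card_Ct_conj g w, ← hw'def, ← hn] at hP729
  rcases d.a_pow_cases n with e | e | e <;> rw [e] at hP729 hn
  · rw [hw'def] at hn
    exact hw1 (conj_eq_one_iff.1 hn.symm)
  · rw [d.card_Ct_a, h] at hP729; norm_num at hP729
  · have he : Ct d.a⁻¹ = Ct d.a := by
      ext t
      rw [mem_Ct, mem_Ct]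
      exact ⟨fun a => (inv_inv d.a ▸ (show Commute t d.a⁻¹ from a).inv_right : Commute t d.a),
        fun a => (show Commute t d.a from a).inv_right⟩
    rw [he, d.card_Ct_a, h] at hP729; norm_num at hP729

theorem card_O_eq : Nat.card d.O = 243 := by
  rcases d.card_O_cases with e | e | e
  exacts [(d.card_three_ne e).elim, (d.card_ne_27 e).elim, e]

end Half

end CfsgLib.GTwoTwoLocal
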