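import Cfsg.Agent.Lib.GTwoTwoLocal.Half
import Mathlib.GroupTheory.Sylow
import Mathlib.Tactic.NormNum.Prime

/-!
# The possible orders of the odd core
-/

set_option autoImplicit false
set_option linter.unusedSectionVars false
set_option maxRecDepth 100000

namespace CfsgLib.GTwoTwoLocal

open CfsgLib.GL23 (Ct mem_Ct)
open Model

universe u

theorem swap_facts : conjM dNum 2 = tab 2 1 ∧ conjM dNum 12 = tab 12 12 ∧ tab 12 (tab 12 12) = 0 ∧
    evalW 12 8 [false, true, false, true] = 1 ∧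
    (conjM 2 12 = 8 ∨ conjM 2 (tab 12 12) = 8) := by
  decide +kernel

namespace Half

variable {G : Type u} [Group G] [Finite G] (d : Half G)

theorem z_h_comm : d.z * d.h = d.h * d.z := d.hzh.eq.symm

theorem b_eq : d.b = d.K (toSL 12) := rfl

theorem b_cube : d.b ^ 3 = 1 := by
  rw [b, ← map_pow, pow_succ', pow_two, ← toSL_tab (by norm_num) (by norm_num),
    ← toSL_tab (by norm_num) (tab_lt (by norm_num) (by norm_num)), swap_facts.2.2.1, toSL_zero, map_one]

theorem b_ne : d.b ≠ 1 := fun e => by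
  rw [b, ← map_one d.K] at e
  have h := d.inj e
  rw [← toSL_zero] at h
  exact absurd (toSL_injective (by norm_num) (by norm_num) h) (by norm_num)

theorem b_mem_Ct : d.b ∈ Ct d.a := d.K_mem_Ct _

theorem h_b : d.h * d.b * d.h⁻¹ = d.b⁻¹ := by
  rw [b, d.hK 12 (by norm_num), swap_facts.2.1, toSL_tab (by norm_num) (by norm_num), map_mul]
  refine eq_inv_of_mul_eq_one_left ?_
  have := d.b_cube
  rw [b, pow_succ, pow_two] at this
  exact this

/-- The involutions `h` and `z h`. -/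
def IsRefl (v : G) : Prop := v = d.h ∨ v = d.z * d.h

theorem refl_sq {v : G} (hv : d.IsRefl v) : v * v = 1 := by
  rcases hv with rfl | rfl
  · exact d.hh
  · rw [show d.z * d.h * (d.z * d.h) = d.z * (d.h * d.z) * d.h by group, ← d.z_h_comm,
      show d.z * (d.z * d.h) * d.h = (d.z * d.z) * (d.h * d.h) by group, d.z_sq, d.hh, one_mul]

theorem refl_inv {v : G} (hv : d.IsRefl v) : v⁻¹ = v := inv_eq_of_mul_eq_one_right (d.refl_sq hv)

theorem refl_z {v : G} (hv : d.IsRefl v) : Commute v d.z := by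
  rcases hv with rfl | rfl
  · exact d.hzh
  · exact Commute.mul_left (Commute.refl _) d.hzh

theorem refl_a {v : G} (hv : d.IsRefl v) : v * d.a * v = d.a⁻¹ := by
  have h := d.ha
  rw [d.h_inv] at h
  rcases hv with rfl | rfl
  · exact h
  · rw [show d.z * d.h * d.a * (d.z * d.h) = d.z * (d.h * d.a * (d.z * d.h)) by group, d.z_h_comm,
      show d.z * (d.h * d.a * (d.h * d.z)) = d.z * (d.h * d.a * d.h) * d.z by group, h,
      (d.hza.inv_right).eq, mul_assoc, d.z_sq, mul_one]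

theorem refl_b {v : G} (hv : d.IsRefl v) : v * d.b * v = d.b⁻¹ := by
  have h := d.h_b
  rw [d.h_inv] at h
  rcases hv with rfl | rfl
  · exact h
  · rw [show d.z * d.h * d.b * (d.z * d.h) = d.z * (d.h * d.b * (d.z * d.h)) by group, d.z_h_comm,
      show d.z * (d.h * d.b * (d.h * d.z)) = d.z * (d.h * d.b * d.h) * d.z by group, h,
      (show Commute d.z d.b⁻¹ from (d.K_comm_z _).symm.inv_right).eq, mul_assoc, d.z_sq, mul_one]

theorem h_normalizes {x : G} (hx : x ∈ Ct d.a) : d.h * x * d.h⁻¹ ∈ Ct d.a := by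
  refine mem_Ct.2 ?_
  have h1 : Commute (d.h * x * d.h⁻¹) (d.h * d.a * d.h⁻¹) := by
    show _ = _
    rw [conj_mul, conj_mul, mem_Ct.1 hx]
  rw [d.ha] at h1
  have := h1.inv_right
  rwa [inv_inv] at this

theorem h_O {x : G} (hx : x ∈ d.O) : d.h * x * d.h⁻¹ ∈ d.O := by
  obtain ⟨hx', hp⟩ := d.mem_O.1 hx
  let e : Ct d.a ≃* Ct d.a :=
    { toFun := fun g => ⟨d.h * g * d.h⁻¹, d.h_normalizes g.2⟩
      invFun := fun g => ⟨d.h * g * d.h⁻¹, d.h_normalizes g.2⟩
      left_inv := fun g => Subtype.ext (by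
        show d.h * (d.h * g * d.h⁻¹) * d.h⁻¹ = g
        rw [d.h_inv, show d.h * (d.h * g * d.h) * d.h = (d.h * d.h) * g * (d.h * d.h) by group, d.hh]
        group)
      right_inv := fun g => Subtype.ext (by
        show d.h * (d.h * g * d.h⁻¹) * d.h⁻¹ = g
        rw [d.h_inv, show d.h * (d.h * g * d.h) * d.h = (d.h * d.h) * g * (d.h * d.h) by group, d.hh]
        group)
      map_mul' := fun g g' => Subtype.ext (by
        show d.h * (g * g') * d.h⁻¹ = d.h * g * d.h⁻¹ * (d.h * g' * d.h⁻¹)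
        rw [conj_mul]) }
  have h := Subgroup.mem_map_of_mem e.toMonoidHom hp
  rw [CfsgLib.PCore.map_pPrimeCore_equiv] at h
  exact d.mem_O.2 ⟨_, h⟩

theorem refl_O {v x : G} (hv : d.IsRefl v) (hx : x ∈ d.O) : v * x * v ∈ d.O := by
  have h := d.h_O hx
  rw [d.h_inv] at h
  rcases hv with rfl | rfl
  · exact h
  · rw [show d.z * d.h * x * (d.z * d.h) = d.z * (d.h * x * (d.z * d.h)) by group, d.z_h_comm,
      show d.z * (d.h * x * (d.h * d.z)) = d.z * (d.h * x * d.h) * d.z by group]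
    exact d.inverting.norm _ h

theorem refl_cases {v : G} (hv : d.IsRefl v) : d.IsRefl (d.z * v) := by
  rcases hv with rfl | rfl
  · exact Or.inr rfl
  · exact Or.inl (by rw [← mul_assoc, d.z_sq, one_mul])

theorem refl_ne {v : G} (hv : d.IsRefl v) : v ≠ 1 := fun e => by
  have h := d.refl_a hv
  rw [e, one_mul, mul_one] at h
  have h2 : d.a * d.a = 1 := mul_eq_one_iff_eq_inv.2 h
  exact d.a_ne (eq_one_of_sq_odd h2 (by rw [d.ha3]; decide))

/-- Elements of `O` fixed by a reflection. -/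
noncomputable def fixed (v : G) : Subgroup G := d.O ⊓ Ct v

theorem mem_fixed {v x : G} (hv : d.IsRefl v) : x ∈ d.fixed v ↔ x ∈ d.O ∧ v * x * v = x := by
  constructor
  · rintro ⟨h1, h2⟩
    exact ⟨h1, by rw [← mem_Ct.1 h2, mul_assoc, d.refl_sq hv, mul_one]⟩
  · rintro ⟨h1, h2⟩
    refine ⟨h1, mem_Ct.2 ?_⟩
    conv_rhs => rw [← h2]
    rw [← mul_assoc, ← mul_assoc, d.refl_sq hv, one_mul]

theorem fixed_inter_a {v x : G} (hv : d.IsRefl v) (hx : x ∈ Subgroup.zpowers d.a) (hf : v * x * v = x) :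
    x = 1 := by
  obtain ⟨k, rfl⟩ := Subgroup.mem_zpowers_iff.1 hx
  have hvv : v * d.a * v = d.a⁻¹ := d.refl_a hv
  have e : v * d.a ^ k * v = (d.a ^ k)⁻¹ := by
    have h := map_zpow (MulAut.conj v).toMonoidHom d.a k
    simp only [MulEquiv.coe_toMonoidHom, MulAut.conj_apply, d.refl_inv hv, hvv] at h
    rw [h, inv_zpow]
  rw [hf] at e
  exact eq_one_of_sq_odd (mul_eq_one_iff_eq_inv.2 e) (odd_orderOf d.O_odd (zpow_mem d.a_mem_O k))

theorem card_fixed {v : G} (hv : d.IsRefl v) :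
    Nat.card (d.fixed v) = 1 ∨ Nat.card (d.fixed v) = 3 ∨ Nat.card (d.fixed v) = 9 := by
  obtain ⟨g, hg⟩ := isConj_iff.1 (d.one v (d.refl_sq hv) (d.refl_ne hv))
  have hct : Nat.card (Ct v) = 576 := by
    rw [← d.card_ct]
    refine Nat.card_congr ⟨fun x => ⟨g⁻¹ * x * g, ?_⟩, fun x => ⟨g * x * g⁻¹, ?_⟩, fun x => ?_, fun x => ?_⟩
    · refine mem_Ct.2 ?_
      have := mem_Ct.1 x.2
      calc g⁻¹ * x * g * d.z = g⁻¹ * (x * (g * d.z * g⁻¹)) * g := by group
        _ = g⁻¹ * ((g * d.z * g⁻¹) * x) * g := by rw [hg, this]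
        _ = _ := by group
    · refine mem_Ct.2 ?_
      rw [← hg, conj_mul, conj_mul, mem_Ct.1 x.2]
    · exact Subtype.ext (by group)
    · exact Subtype.ext (by group)
  have h1 : Nat.card (d.fixed v) ∣ 576 := hct ▸ Subgroup.card_dvd_of_le inf_le_right
  have h2 : Odd (Nat.card (d.fixed v)) := d.O_odd.of_dvd_nat (Subgroup.card_dvd_of_le inf_le_left)
  have h9 : Nat.card (d.fixed v) ∣ 9 := by
    rw [show (576 : ℕ) = 2 ^ 6 * 9 by norm_num] at h1
    exact (Nat.Coprime.pow_right 6 (Nat.coprime_two_right.2 h2)).dvd_of_dvd_mul_left h1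
  have h32 : (9 : ℕ) = 3 ^ 2 := by norm_num
  rw [h32, Nat.dvd_prime_pow Nat.prime_three] at h9
  obtain ⟨n, hn, he⟩ := h9
  rw [he]
  interval_cases n <;> simp

theorem conj_h : ∃ k ∈ Ct d.a, k * d.h * k⁻¹ = d.z * d.h := by
  refine ⟨d.K (toSL 2), d.K_mem_Ct _, ?_⟩
  have h := d.hK 2 (by norm_num)
  rw [swap_facts.1, toSL_tab (by norm_num) (by norm_num), map_mul, d.neg] at h
  have h' : d.h * d.K (toSL 2) = d.K (toSL 2) * d.z * d.h := by rw [← h]; group
  calc d.K (toSL 2) * d.h * (d.K (toSL 2))⁻¹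
      = d.z * (d.K (toSL 2) * d.z * d.h) * (d.K (toSL 2))⁻¹ := by
        rw [show d.z * (d.K (toSL 2) * d.z * d.h) = (d.z * d.K (toSL 2)) * d.z * d.h by group,
          ← (d.K_comm_z _).eq, mul_assoc _ d.z d.z, d.z_sq, mul_one]
    _ = d.z * d.h := by rw [← h']; group

theorem card_fixed_eq : Nat.card (d.fixed (d.z * d.h)) = Nat.card (d.fixed d.h) := by
  obtain ⟨k, hk, hkh⟩ := d.conj_h
  have h1 : ∀ x ∈ d.fixed d.h, k * x * k⁻¹ ∈ d.fixed (d.z * d.h) := fun x hx =>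
    ⟨d.O_normal hk hx.1, mem_Ct.2 (by rw [← hkh, conj_mul, conj_mul, mem_Ct.1 hx.2])⟩
  have h2 : ∀ x ∈ d.fixed (d.z * d.h), k⁻¹ * x * k ∈ d.fixed d.h := fun x hx => by
    refine ⟨?_, mem_Ct.2 ?_⟩
    · have := d.O_normal (inv_mem hk) hx.1
      rwa [inv_inv] at this
    · calc k⁻¹ * x * k * d.h = k⁻¹ * (x * (k * d.h * k⁻¹)) * k := by group
        _ = k⁻¹ * ((k * d.h * k⁻¹) * x) * k := by rw [hkh, mem_Ct.1 hx.2]
        _ = _ := by group
  let F : d.fixed d.h ≃ d.fixed (d.z * d.h) :=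
    { toFun := fun x => ⟨k * x * k⁻¹, h1 x x.2⟩
      invFun := fun x => ⟨k⁻¹ * x * k, h2 x x.2⟩
      left_inv := fun x => Subtype.ext (show k⁻¹ * (k * (x : G) * k⁻¹) * k = x by group)
      right_inv := fun x => Subtype.ext (show k * (k⁻¹ * (x : G) * k) * k⁻¹ = x by group) }
  exact (Nat.card_congr F).symm

/-- The core is built from its fixed points. -/
theorem core_decomposition {y : G} (hy : y ∈ d.O) :
    ∃ p ∈ d.fixed d.h, ∃ q ∈ d.fixed (d.z * d.h), ∃ c ∈ Subgroup.zpowers d.a, y = p * q * c := by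
  have I := d.inverting
  have hh : d.IsRefl d.h := Or.inl rfl
  have hzh : d.IsRefl (d.z * d.h) := Or.inr rfl
  -- a square root
  obtain ⟨m, hm⟩ := odd_orderOf d.O_odd hy
  obtain ⟨s, hsdef⟩ : ∃ s, s = y ^ (m + 1) := ⟨_, rfl⟩
  have hs : s * s = y := by
    rw [hsdef, ← pow_add, show m + 1 + (m + 1) = orderOf y + 1 by omega, pow_succ, pow_orderOf_eq_one, one_mul]
  have hsO : s ∈ d.O := hsdef ▸ pow_mem hy _
  obtain ⟨t, htdef⟩ : ∃ t, t = d.h * s * d.h := ⟨_, rfl⟩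
  have htO : t ∈ d.O := htdef ▸ d.refl_O hh hsO
  have hcen : ∀ c ∈ Subgroup.zpowers d.a, ∀ x ∈ d.O, c * x = x * c := I.central
  have hvC : ∀ v, d.IsRefl v → ∀ c ∈ Subgroup.zpowers d.a, v * c * v ∈ Subgroup.zpowers d.a := by
    intro v hv c hc
    obtain ⟨k, rfl⟩ := Subgroup.mem_zpowers_iff.1 hc
    have h := map_zpow (MulAut.conj v).toMonoidHom d.a k
    simp only [MulEquiv.coe_toMonoidHom, MulAut.conj_apply, d.refl_inv hv, d.refl_a hv] at h
    rw [h]
    exact zpow_mem (inv_mem (Subgroup.mem_zpowers _)) k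
  have hht : d.h * t * d.h = s := by
    rw [htdef, show d.h * (d.h * s * d.h) * d.h = (d.h * d.h) * s * (d.h * d.h) by group, d.hh]
    group
  -- the first factor
  have h1 : (s * t)⁻¹ * (d.h * (s * t) * d.h) ∈ Subgroup.zpowers d.a := by
    rw [show d.h * (s * t) * d.h = d.h * s * (d.h * d.h) * t * d.h by rw [d.hh]; group,
      show d.h * s * (d.h * d.h) * t * d.h = (d.h * s * d.h) * (d.h * t * d.h) by group, ← htdef, hht,
      mul_inv_rev, show t⁻¹ * s⁻¹ * (t * s) = t⁻¹ * s⁻¹ * t * s by group]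
    exact I.comm htO hsO
  obtain ⟨c₁, hc₁, hp⟩ := I.exists_fixed_in_coset d.hh (hvC _ hh) h1
  -- the second factor
  have h2 : (s * t⁻¹)⁻¹ * ((d.z * d.h) * (s * t⁻¹) * (d.z * d.h)) ∈ Subgroup.zpowers d.a := by
    have e : (d.z * d.h) * (s * t⁻¹) * (d.z * d.h) = d.z * (t * s⁻¹) * d.z := by
      rw [show d.z * d.h * (s * t⁻¹) * (d.z * d.h) = d.z * (d.h * (s * t⁻¹) * (d.z * d.h)) by group,
        d.z_h_comm, show d.z * (d.h * (s * t⁻¹) * (d.h * d.z)) = d.z * (d.h * (s * t⁻¹) * d.h) * d.z by group]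
      congr 2
      calc d.h * (s * t⁻¹) * d.h = d.h * s * (d.h * d.h) * t⁻¹ * d.h := by rw [d.hh]; group
        _ = (d.h * s * d.h) * (d.h * t * d.h)⁻¹ := by rw [mul_inv_rev, mul_inv_rev, d.h_inv]; group
        _ = t * s⁻¹ := by rw [← htdef, hht]
    rw [e, show (s * t⁻¹)⁻¹ = t * s⁻¹ by group]
    have hu := mul_mem htO (inv_mem hsO)
    have hm := I.mem hu
    have e2 : t * s⁻¹ * (d.z * (t * s⁻¹) * d.z) =
        t * s⁻¹ * (d.z * (t * s⁻¹) * d.z * (t * s⁻¹)) * (t * s⁻¹)⁻¹ := by group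
    rw [e2, ← hcen _ hm _ hu, mul_inv_cancel_right]
    exact hm
  obtain ⟨c₂, hc₂, hq⟩ := I.exists_fixed_in_coset (d.refl_sq hzh) (hvC _ hzh) h2
  have hc3 : t⁻¹ * s⁻¹ * t * s ∈ Subgroup.zpowers d.a := I.comm htO hsO
  refine ⟨s * t * c₁, (d.mem_fixed hh).2 ⟨mul_mem (mul_mem hsO htO) (I.le hc₁), hp⟩,
    s * t⁻¹ * c₂, (d.mem_fixed hzh).2 ⟨mul_mem (mul_mem hsO (inv_mem htO)) (I.le hc₂), hq⟩,
    (s * t * c₁ * (s * t⁻¹ * c₂))⁻¹ * y, ?_, by group⟩
  have e : s * t * c₁ * (s * t⁻¹ * c₂) = s * t * s * t⁻¹ * (c₁ * c₂) := by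
    calc s * t * c₁ * (s * t⁻¹ * c₂) = s * t * (c₁ * (s * t⁻¹)) * c₂ := by group
      _ = s * t * ((s * t⁻¹) * c₁) * c₂ := by rw [hcen _ hc₁ _ (mul_mem hsO (inv_mem htO))]
      _ = _ := by group
  have hc4 : (s⁻¹)⁻¹ * (t⁻¹)⁻¹ * s⁻¹ * t⁻¹ ∈ Subgroup.zpowers d.a := I.comm (inv_mem hsO) (inv_mem htO)
  rw [inv_inv, inv_inv] at hc4
  have key : (s * t * s * t⁻¹)⁻¹ * y ∈ Subgroup.zpowers d.a := by
    rw [← hs, show (s * t * s * t⁻¹)⁻¹ * (s * s) = t * (s⁻¹ * t⁻¹ * s) by group]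
    have h5 : t * s⁻¹ * t⁻¹ * s ∈ Subgroup.zpowers d.a := by
      have := I.comm (inv_mem htO) hsO
      rwa [inv_inv] at this
    simpa [mul_assoc] using h5
  rw [e, mul_inv_rev, mul_assoc]
  exact mul_mem (inv_mem (mul_mem hc₁ hc₂)) key

theorem card_O : Nat.card d.O = 3 * (Nat.card (d.fixed d.h) * Nat.card (d.fixed d.h)) := by
  have I := d.inverting
  have hh : d.IsRefl d.h := Or.inl rfl
  have hzh : d.IsRefl (d.z * d.h) := Or.inr rfl
  let f : (d.fixed d.h × d.fixed (d.z * d.h)) × Subgroup.zpowers d.a → d.O := fun x =>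
    ⟨(x.1.1 : G) * x.1.2 * x.2, mul_mem (mul_mem x.1.1.2.1 x.1.2.2.1) (I.le x.2.2)⟩
  have hzfix : ∀ p : G, p ∈ d.fixed d.h → (d.z * d.h) * p * (d.z * d.h) = d.z * p * d.z := by
    intro p hp
    rw [show d.z * d.h * p * (d.z * d.h) = d.z * (d.h * p * (d.z * d.h)) by group, d.z_h_comm,
      show d.z * (d.h * p * (d.h * d.z)) = d.z * (d.h * p * d.h) * d.z by group, ((d.mem_fixed hh).1 hp).2]
  have hb : Function.Bijective f := by
    constructor
    · rintro ⟨⟨p, q⟩, c⟩ ⟨⟨p', q'⟩, c'⟩ he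
      have he' : (p : G) * q * c = (p' : G) * q' * c' := congrArg Subtype.val he
      obtain ⟨x, hxdef⟩ : ∃ x, x = (p' : G)⁻¹ * p := ⟨_, rfl⟩
      have hxF : x ∈ d.fixed d.h := hxdef ▸ mul_mem (inv_mem p'.2) p.2
      obtain ⟨r, hrdef⟩ : ∃ r, r = (q' : G) * (q : G)⁻¹ := ⟨_, rfl⟩
      have hrF : r ∈ d.fixed (d.z * d.h) := hrdef ▸ mul_mem q'.2 (inv_mem q.2)
      obtain ⟨k, hkdef⟩ : ∃ k, k = (c' : G) * (c : G)⁻¹ := ⟨_, rfl⟩
      have hkC : k ∈ Subgroup.zpowers d.a := hkdef ▸ mul_mem c'.2 (inv_mem c.2)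
      have hx : x = r * k := by
        rw [hxdef, hrdef, hkdef]
        calc (p' : G)⁻¹ * p = (p' : G)⁻¹ * (p * q * c) * (c : G)⁻¹ * (q : G)⁻¹ := by group
          _ = (q' : G) * ((c' : G) * (c : G)⁻¹ * (q : G)⁻¹) := by rw [he']; group
          _ = (q' : G) * ((q : G)⁻¹ * ((c' : G) * (c : G)⁻¹)) := by
            rw [I.central _ (mul_mem c'.2 (inv_mem c.2)) _ (inv_mem q.2.1)]
          _ = _ := by group
      have hzk : d.z * d.h * k * (d.z * d.h) = k⁻¹ := by
        obtain ⟨n, rfl⟩ := Subgroup.mem_zpowers_iff.1 hkC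
        have h := map_zpow (MulAut.conj (d.z * d.h)).toMonoidHom d.a n
        simp only [MulEquiv.coe_toMonoidHom, MulAut.conj_apply, d.refl_inv hzh, d.refl_a hzh] at h
        rw [h, inv_zpow]
      have hx2 : d.z * x * d.z = r * k⁻¹ := by
        rw [← hzfix x hxF, hx]
        calc d.z * d.h * (r * k) * (d.z * d.h)
            = (d.z * d.h * r * (d.z * d.h)) * (d.z * d.h * k * (d.z * d.h)) := by
              rw [show (d.z * d.h * r * (d.z * d.h)) * (d.z * d.h * k * (d.z * d.h)) =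
                d.z * d.h * r * ((d.z * d.h) * (d.z * d.h)) * k * (d.z * d.h) by group, d.refl_sq hzh]
              group
          _ = r * k⁻¹ := by rw [((d.mem_fixed hzh).1 hrF).2, hzk]
      have hsq : x * x ∈ Subgroup.zpowers d.a := by
        have hm := I.mem hxF.1
        rw [hx2] at hm
        have e : x * x = k * k * (r * k⁻¹ * x) := by
          rw [hx]
          have c1 := I.central k hkC r hrF.1
          calc r * k * (r * k) = r * (k * r) * k := by group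
            _ = r * r * (k * k) := by rw [c1]; group
            _ = (k * k) * (r * r) := (I.central _ (mul_mem hkC hkC) _ (mul_mem hrF.1 hrF.1)).symm
            _ = k * k * (r * k⁻¹ * (r * k)) := by
              rw [show r * k⁻¹ * (r * k) = r * (k⁻¹ * (r * k)) by group,
                show k⁻¹ * (r * k) = r by rw [← c1, inv_mul_cancel_left]]
        rw [e]
        exact mul_mem (mul_mem hkC hkC) hm
      have hxC : x ∈ Subgroup.zpowers d.a := by
        obtain ⟨m, hm⟩ := odd_orderOf d.O_odd hxF.1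
        have : x = (x * x) ^ (m + 1) := by
          rw [← pow_two, ← pow_mul, show 2 * (m + 1) = orderOf x + 1 by omega, pow_succ, pow_orderOf_eq_one, one_mul]
        rw [this]
        exact pow_mem hsq _
      have hx1 : x = 1 := d.fixed_inter_a hh hxC ((d.mem_fixed hh).1 hxF).2
      have hr : r = k⁻¹ := eq_inv_of_mul_eq_one_left (hx.symm.trans hx1)
      have hr1 : r = 1 := d.fixed_inter_a hzh (hr ▸ inv_mem hkC) ((d.mem_fixed hzh).1 hrF).2
      have hpp : p = p' := Subtype.ext (inv_mul_eq_one.1 (hxdef.symm.trans hx1)).symm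
      have hqq : q = q' := Subtype.ext (mul_inv_eq_one.1 (hrdef.symm.trans hr1)).symm
      subst hpp hqq
      exact Prod.ext rfl (Subtype.ext (mul_left_cancel he'))
    · intro y
      obtain ⟨p, hp, q, hq, c, hc, e⟩ := d.core_decomposition y.2
      exact ⟨((⟨p, hp⟩, ⟨q, hq⟩), ⟨c, hc⟩), Subtype.ext e.symm⟩
  rw [← Nat.card_eq_of_bijective f hb, Nat.card_prod, Nat.card_prod, d.card_fixed_eq, Nat.card_zpowers, d.ha3]
  ring

theorem card_O_cases : Nat.card d.O = 3 ∨ Nat.card d.O = 27 ∨ Nat.card d.O = 243 := by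
  rw [d.card_O]
  rcases d.card_fixed (Or.inl rfl) with e | e | e <;> rw [e] <;> norm_num

end Half

end CfsgLib.GTwoTwoLocal
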