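import Mathlib.GroupTheory.QuotientGroup.Basic
import Mathlib.GroupTheory.OrderOfElement
import Mathlib.GroupTheory.Index
import Mathlib.Tactic.Linarith
import Mathlib.Data.Set.Card
import Mathlib.Tactic.IntervalCases
import Mathlib.Data.Nat.Prime.Basic
import Mathlib.Tactic.NormNum.Prime
import Mathlib.Tactic.Group

/-!
# Fixed points of an automorphism of order three on an abelian group of order `81`
-/

set_option autoImplicit false
set_option linter.unusedSectionVars false

namespace CfsgLib.GTwoTwoLocal

variable {A : Type*} [CommGroup A] [Finite A]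

theorem card_ker_comp_le (f g : A →* A) :
    Nat.card (f.comp g).ker ≤ Nat.card f.ker * Nat.card g.ker := by
  let ψ : (f.comp g).ker →* f.ker :=
    { toFun := fun x => ⟨g (x : A), x.2⟩
      map_one' := Subtype.ext (map_one g)
      map_mul' := fun x y => Subtype.ext (map_mul g (x : A) y) }
  rw [← ψ.ker.card_mul_index, Subgroup.index_ker, mul_comm]
  refine Nat.mul_le_mul (Subgroup.card_le_card_group _) ?_
  refine Nat.card_le_card_of_injective
    (fun x : ψ.ker => (⟨((x : (f.comp g).ker) : A), congrArg Subtype.val x.2⟩ : g.ker)) ?_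
  intro x y h
  exact Subtype.ext (Subtype.ext (congrArg (fun u : g.ker => (u : A)) h))

/-- An automorphism of order three has at least nine fixed points. -/
theorem fixed_bound (hA : Nat.card A = 81) (σ : A →* A) (hσ : ∀ x, σ (σ (σ x)) = x)
    (hT : 27 ≤ Nat.card (powMonoidHom 3 : A →* A).ker) :
    9 ≤ Nat.card (σ / MonoidHom.id A).ker := by
  classical
  set f : A →* A := σ / MonoidHom.id A with hf
  have hfx : ∀ x, f x = σ x / x := fun x => rfl
  -- the cubes are fixed
  set c : A →* A := powMonoidHom 3 with hc
  have hr : Nat.card c.range ≤ 3 := by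
    have h := c.ker.card_mul_index
    rw [Subgroup.index_ker, hA] at h
    nlinarith
  have hcube : ∀ x, σ (x ^ 3) = x ^ 3 := by
    intro x
    by_contra hne
    have hx1 : x ^ 3 ≠ 1 := fun e => hne (by rw [e, map_one])
    have hr3 : Nat.card c.range = 3 := by
      have hd : Nat.card c.range ∣ 3 ^ 4 := by
        rw [show (3 : ℕ) ^ 4 = Nat.card A by rw [hA]; norm_num]
        exact Subgroup.card_subgroup_dvd_card _
      obtain ⟨n, hn, e⟩ := (Nat.dvd_prime_pow Nat.prime_three).1 hd
      have h1 : 1 < Nat.card c.range := by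
        have : Nontrivial c.range := ⟨⟨⟨x ^ 3, x, rfl⟩, 1, fun e => hx1 (congrArg Subtype.val e)⟩⟩
        exact Finite.one_lt_card
      rcases n with _ | _ | n
      · rw [e, pow_zero] at h1; omega
      · rw [e, pow_one]
      · rw [e, pow_add] at hr
        have := Nat.one_le_pow n 3 (by norm_num)
        norm_num at hr
    -- three elements: the images of `u` lie among `1, u, u⁻¹`
    set u := x ^ 3 with hu
    have hu3 : u ^ 3 = 1 := by
      have := pow_card_eq_one' (x := (⟨u, x, rfl⟩ : c.range))
      rw [hr3] at this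
      exact congrArg Subtype.val this
    have hne2 : u ≠ u⁻¹ := fun e => hx1 (by
      have h2 : u * u = 1 := mul_eq_one_iff_eq_inv.2 e
      rwa [pow_succ, pow_two, h2, one_mul] at hu3)
    have hall : ∀ y ∈ c.range, y = 1 ∨ y = u ∨ y = u⁻¹ := by
      intro y hy
      by_contra hy'
      simp only [not_or] at hy'
      have hsub : ({1, u, u⁻¹, y} : Finset A) ⊆ (c.range : Set A).toFinite.toFinset := by
        intro w hw
        simp only [Finset.mem_insert, Finset.mem_singleton] at hw
        rw [Set.Finite.mem_toFinset]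
        rcases hw with rfl | rfl | rfl | rfl
        exacts [one_mem _, ⟨x, rfl⟩, inv_mem (⟨x, rfl⟩ : u ∈ c.range), hy]
      have h4 := Finset.card_le_card hsub
      rw [← Nat.card_eq_card_finite_toFinset] at h4
      have h5 : ({1, u, u⁻¹, y} : Finset A).card = 4 := by
        rw [Finset.card_insert_of_notMem, Finset.card_insert_of_notMem, Finset.card_pair]
        · exact Ne.symm hy'.2.2
        · simp [hne2, Ne.symm hy'.2.1]
        · simp only [Finset.mem_insert, Finset.mem_singleton, not_or]
          exact ⟨Ne.symm hx1, fun e => hx1 (inv_eq_one.1 e.symm), Ne.symm hy'.1⟩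
      have : Nat.card (c.range : Set A) = 3 := hr3
      omega
    rcases hall (σ u) ⟨σ x, by rw [hu, map_pow]; rfl⟩ with e | e | e
    · have := hσ u
      rw [e, map_one, map_one] at this
      exact hx1 this.symm
    · exact hne e
    · have := hσ u
      rw [e, map_inv, e, inv_inv, e] at this
      exact hne2 this.symm
  have hf3 : ∀ x, f x ^ 3 = 1 := fun x => by
    rw [hfx, div_pow, ← map_pow, hcube, div_self']
  have hrel : ∀ x, σ x = f x * x := fun x => by rw [hfx, div_mul_cancel]
  have hfff : ∀ x, f (f (f x)) = 1 := by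
    intro x
    have h := hσ x
    rw [hrel x, map_mul, hrel (f x), hrel x, map_mul, map_mul, map_mul] at h
    rw [hrel (f (f x)), hrel (f x), hrel x] at h
    have e : f (f (f x)) * f (f x) * (f (f x) * f x) * (f (f x) * f x * (f x * x)) =
        f (f (f x)) * (f (f x) ^ 3 * f x ^ 3) * x := by
      simp only [pow_succ, pow_zero, one_mul]
      simp only [mul_assoc, mul_comm, mul_left_comm]
    rw [e, hf3, hf3, one_mul, mul_one] at h
    exact mul_eq_right.1 h
  have hk : Nat.card (f.comp (f.comp f)).ker = 81 := by
    rw [show (f.comp (f.comp f)).ker = ⊤ from eq_top_iff.2 fun x _ => hfff x, Subgroup.card_top, hA]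
  have hle : 81 ≤ Nat.card f.ker * (Nat.card f.ker * Nat.card f.ker) :=
    hk ▸ (card_ker_comp_le f (f.comp f)).trans (Nat.mul_le_mul_left _ (card_ker_comp_le f f))
  have hd : Nat.card f.ker ∣ 3 ^ 4 := by
    rw [show (3 : ℕ) ^ 4 = Nat.card A by rw [hA]; norm_num]
    exact Subgroup.card_subgroup_dvd_card _
  obtain ⟨n, hn, e⟩ := (Nat.dvd_prime_pow Nat.prime_three).1 hd
  rw [e] at hle ⊢
  interval_cases n <;> omega

end CfsgLib.GTwoTwoLocal
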