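import Cfsg.Agent.Lib.GTwoTwoLocal.Stabiliser
import Cfsg.Agent.Lib.GTwoTwoLocal.FixedBound
import Mathlib.GroupTheory.Nilpotent

/-!
# The odd core has order `243`
-/

set_option autoImplicit false
set_option linter.unusedSectionVars false
set_option maxRecDepth 100000

namespace CfsgLib.GTwoTwoLocal

open CfsgLib.GL23 (Ct mem_Ct)
open Model

universe u

namespace Half

variable {G : Type u} [Group G] [Finite G] (d : Half G)

theorem isPGroup_S : IsPGroup 3 d.S := by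
  have h := d.card_S
  rcases d.card_O_cases with e | e | e <;> rw [e] at h
  · exact IsPGroup.of_card (n := 2) (by rw [h]; norm_num)
  · exact IsPGroup.of_card (n := 4) (by rw [h]; norm_num)
  · exact IsPGroup.of_card (n := 6) (by rw [h]; norm_num)

/-- A `3`-subgroup of the centraliser containing `S` is `S`. -/
theorem eq_S {T : Subgroup G} (hT : IsPGroup 3 T) (hle : d.S ≤ T) (hTC : T ≤ Ct d.a) : T = d.S := by
  have : Fact (Nat.Prime 3) := ⟨Nat.prime_three⟩
  refine (Subgroup.eq_of_le_of_card_ge hle ?_).symm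
  obtain ⟨n, hn⟩ := IsPGroup.iff_card.1 hT
  have hd := Subgroup.card_dvd_of_le hTC
  rw [d.card_Ct_a, hn] at hd
  have h8 : 3 ^ n ∣ Nat.card d.O * 3 := by
    refine (Nat.Coprime.pow_left n (show Nat.Coprime 3 8 by norm_num)).dvd_of_dvd_mul_right ?_
    rwa [mul_assoc]
  rw [d.card_S, hn]
  exact Nat.le_of_dvd (Nat.mul_pos Nat.card_pos (by norm_num)) h8

/-- A Sylow subgroup of order `729` containing `S`. -/
theorem exists_P : ∃ P : Subgroup G, IsPGroup 3 P ∧ Nat.card P = 729 ∧ d.S ≤ P := by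
  have : Fact (Nat.Prime 3) := ⟨Nat.prime_three⟩
  obtain ⟨P, hP⟩ := d.isPGroup_S.exists_le_sylow
  refine ⟨P, P.2, ?_, hP⟩
  rw [Sylow.card_eq_multiplicity, d.card,
    show (4245696 : ℕ) = 3 ^ 6 * 5824 by norm_num, Nat.factorization_mul (by norm_num) (by norm_num),
    Finsupp.add_apply, Nat.prime_three.factorization_pow, Finsupp.single_eq_same,
    Nat.factorization_eq_zero_of_not_dvd (by norm_num)]
  norm_num

theorem mem_S_of_comm {P : Subgroup G} (hP : IsPGroup 3 P) (hSP : d.S ≤ P) {x : G} (hx : x ∈ P)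
    (hc : Commute x d.a) : x ∈ d.S := by
  have h := d.eq_S (T := P ⊓ Ct d.a) (hP.to_le inf_le_left) (le_inf hSP d.S_le) inf_le_right
  rw [← h]; exact ⟨hx, mem_Ct.2 hc⟩

theorem exists_normalizing {P : Subgroup G} (hP : IsPGroup 3 P) {T : Subgroup G} (hTP : T ≤ P)
    (hne : T ≠ P) : ∃ x ∈ P, x ∉ T ∧ ∀ t ∈ T, x * t * x⁻¹ ∈ T := by
  have : Fact (Nat.Prime 3) := ⟨Nat.prime_three⟩
  let T' := T.subgroupOf P
  have hlt : T' < ⊤ :=
    lt_top_iff_ne_top.2 fun a => hne (le_antisymm hTP (Subgroup.subgroupOf_eq_top.1 a))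
  have : Group.IsNilpotent P := hP.isNilpotent (p := 3)
  obtain ⟨y, hy, hyT⟩ := SetLike.exists_of_lt (Group.normalizerCondition_of_isNilpotent T' hlt)
  exact ⟨y, y.2, fun a => hyT a, fun t ht => (Subgroup.mem_normalizer_iff.1 hy ⟨t, hTP ht⟩).1 ht⟩

theorem odd_of_mem {P : Subgroup G} (hP : Nat.card P = 729) {x : G} (hx : x ∈ P) : Odd (orderOf x) :=
  odd_orderOf (O := P) (by rw [hP]; decide) hx

theorem mem_of_sq {T : Subgroup G} {x : G} (hodd : Odd (orderOf x)) (h : x * x ∈ T) : x ∈ T := by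
  obtain ⟨m, hm⟩ := hodd
  have : x = (x * x) ^ (m + 1) := by
    rw [← pow_two, ← pow_mul, show 2 * (m + 1) = orderOf x + 1 by omega, pow_succ, pow_orderOf_eq_one, one_mul]
  rw [this]; exact pow_mem h _

theorem comm_of_sq {x : G} (hodd : Odd (orderOf x)) {y : G} (h : Commute (x * x) y) : Commute x y :=
  mem_Ct.1 (mem_of_sq hodd (mem_Ct.2 h))

theorem card_three_ne (h : Nat.card d.O = 3) : False := by
  have : Fact (Nat.Prime 3) := ⟨Nat.prime_three⟩
  obtain ⟨P, hP, hPc, hSP⟩ := d.exists_P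
  have hne : d.S ≠ P := fun e => by
    have := d.card_S
    rw [e, hPc, h] at this
    norm_num at this
  obtain ⟨x, hxP, hxS, hxn⟩ := exists_normalizing hP hSP hne
  have hOeq : d.O = Subgroup.zpowers d.a :=
    (Subgroup.eq_of_le_of_card_ge (Subgroup.zpowers_le.2 d.a_mem_O) (by rw [Nat.card_zpowers, d.ha3, h])).symm
  obtain ⟨o, ho, j, hxa⟩ := hxn d.a (d.O_le_S d.a_mem_O)
  rw [hOeq] at ho
  obtain ⟨i, hi⟩ : ∃ i : ℕ, d.a ^ i = o :=
    mem_powers_iff_mem_zpowers.2 ho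
  rw [← hi] at hxa
  have hb := d.fusion_ab hxa
  rw [hb, mul_one] at hxa
  have hodd := odd_of_mem hPc hxP
  refine hxS (d.mem_S_of_comm hP hSP hxP ?_)
  rcases d.a_pow_cases i with e | e | e <;> rw [e] at hxa
  · exact absurd (conj_eq_one_iff.1 hxa) d.a_ne
  · exact mul_inv_eq_iff_eq_mul.1 hxa
  · refine comm_of_sq hodd (mul_inv_eq_iff_eq_mul.1 ?_)
    rw [show x * x * d.a * (x * x)⁻¹ = x * (x * d.a * x⁻¹) * x⁻¹ by group, hxa, ← conj_inv, hxa, inv_inv]

theorem card_Ct_conj (g x : G) : Nat.card (Ct (g * x * g⁻¹)) = Nat.card (Ct x) := by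
  refine Nat.card_congr
    { toFun := fun u => ⟨g⁻¹ * u * g, mem_Ct.2 ?_⟩
      invFun := fun u => ⟨g * u * g⁻¹, mem_Ct.2 ?_⟩
      left_inv := fun u => Subtype.ext (show g * (g⁻¹ * (u : G) * g) * g⁻¹ = u by group)
      right_inv := fun u => Subtype.ext (show g⁻¹ * (g * (u : G) * g⁻¹) * g = u by group) }
  · calc g⁻¹ * u * g * x = g⁻¹ * (u * (g * x * g⁻¹)) * g := by group
      _ = g⁻¹ * ((g * x * g⁻¹) * u) * g := by rw [mem_Ct.1 u.2]
      _ = _ := by group
  · rw [conj_mul, conj_mul, mem_Ct.1 u.2]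

/-- A fixed point of `b` modulo `⟨a⟩`, fixed by a reflection. -/
theorem exists_w (h : Nat.card d.O = 27) : ∃ v w, d.IsRefl v ∧ w ∈ d.O ∧ v * w * v = w ∧
    w ∉ Subgroup.zpowers d.a ∧ w ^ 3 = 1 ∧ d.z * w * d.z = w⁻¹ ∧ Commute d.b w ∧
    d.fixed v = Subgroup.zpowers w := by
  classical
  have : Fact (Nat.Prime 3) := ⟨Nat.prime_three⟩
  have I := d.inverting
  let C : Subgroup d.O := (Subgroup.zpowers d.a).subgroupOf d.O
  have hCcard : Nat.card C = 3 := by
    rw [Nat.card_congr (Subgroup.subgroupOfEquivOfLe I.le).toEquiv, Nat.card_zpowers, d.ha3]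
  let β : d.O → d.O := fun x => ⟨d.b * x * d.b⁻¹, d.O_normal d.b_mem_Ct x.2⟩
  have hcb : ∀ c ∈ Subgroup.zpowers d.a, d.b * c * d.b⁻¹ = c := by
    intro c hc
    obtain ⟨k, rfl⟩ := Subgroup.mem_zpowers_iff.1 hc
    rw [((show Commute d.b d.a from mem_Ct.1 d.b_mem_Ct).zpow_right k).eq, mul_inv_cancel_right]
  have hresp : ∀ x y : d.O, (x : G)⁻¹ * y ∈ Subgroup.zpowers d.a → (β x : G)⁻¹ * β y ∈ Subgroup.zpowers d.a := by
    intro x y hxy
    show (d.b * x * d.b⁻¹)⁻¹ * (d.b * y * d.b⁻¹) ∈ _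
    rw [show (d.b * x * d.b⁻¹)⁻¹ * (d.b * y * d.b⁻¹) = d.b * ((x : G)⁻¹ * y) * d.b⁻¹ by group, hcb _ hxy]
    exact hxy
  let σ : d.O ⧸ C → d.O ⧸ C := Quotient.map' β fun x y hxy => by
    rw [QuotientGroup.leftRel_apply] at hxy ⊢
    exact hresp x y hxy
  have hσm : ∀ x : d.O, σ (QuotientGroup.mk x) = QuotientGroup.mk (β x) := fun x => rfl
  have hσ3 : ∀ q, σ (σ (σ q)) = q := by
    intro q
    obtain ⟨x, rfl⟩ := QuotientGroup.mk_surjective q
    rw [hσm, hσm, hσm]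
    congr 1
    apply Subtype.ext
    show d.b * (d.b * (d.b * x * d.b⁻¹) * d.b⁻¹) * d.b⁻¹ = x
    have hb3 : d.b * d.b * d.b = 1 := by
      have := d.b_cube
      rwa [pow_succ, pow_two] at this
    rw [show d.b * (d.b * (d.b * (x : G) * d.b⁻¹) * d.b⁻¹) * d.b⁻¹ =
      (d.b * d.b * d.b) * x * (d.b * d.b * d.b)⁻¹ by group, hb3]
    group
  let τ : Equiv.Perm (d.O ⧸ C) := ⟨σ, fun q => σ (σ q), fun q => hσ3 q, fun q => hσ3 q⟩
  have := Fintype.ofFinite (d.O ⧸ C)
  have hcard9 : Fintype.card (d.O ⧸ C) = 9 := by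
    rw [← Nat.card_eq_fintype_card, ← Subgroup.index_eq_card]
    have := C.card_mul_index
    rw [hCcard, h] at this
    omega
  have hfix1 : τ (QuotientGroup.mk 1) = QuotientGroup.mk 1 := by
    show σ (QuotientGroup.mk 1) = _
    rw [hσm]
    congr 1
    exact Subtype.ext (by show d.b * 1 * d.b⁻¹ = 1; group)
  obtain ⟨q, hq, hq1⟩ := Equiv.Perm.exists_fixed_point_of_prime' (p := 3) (n := 1)
    (by rw [hcard9]; norm_num) (σ := τ)
    (by ext q; rw [pow_one, pow_succ, pow_two]; exact hσ3 q) hfix1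
  obtain ⟨⟨c, hcO⟩, rfl⟩ := QuotientGroup.mk_surjective q
  have hca : c ∉ Subgroup.zpowers d.a := by
    intro hc
    refine hq1 (QuotientGroup.eq.2 ?_)
    rw [mul_one]
    exact Subgroup.mem_subgroupOf.2 (inv_mem hc)
  have hcstab : d.b ∈ d.stab hcO := by
    refine ⟨d.b_mem_Ct, ?_⟩
    have h' := QuotientGroup.eq.1 (show σ (QuotientGroup.mk ⟨c, hcO⟩) = QuotientGroup.mk ⟨c, hcO⟩ from hq)
    have h'' : (d.b * c * d.b⁻¹)⁻¹ * c ∈ Subgroup.zpowers d.a := h'
    have h3 := inv_mem h''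
    rw [mul_inv_rev, inv_inv] at h3
    obtain ⟨k, hk⟩ := Subgroup.mem_zpowers_iff.1 h3
    refine Subgroup.mem_zpowers_iff.2 ⟨k, ?_⟩
    calc d.a ^ k = c * d.a ^ k * c⁻¹ := by
          rw [((show Commute c d.a from mem_Ct.1 (d.O_le hcO)).zpow_right k).eq, mul_inv_cancel_right]
      _ = _ := by rw [hk]; group
  -- a fixed point of one of the reflections
  have hh : d.IsRefl d.h := Or.inl rfl
  have hzh : d.IsRefl (d.z * d.h) := Or.inr rfl
  have hvC : ∀ {v}, d.IsRefl v → ∀ c ∈ Subgroup.zpowers d.a, v * c * v = c⁻¹ := by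
    intro v hv c hc
    obtain ⟨k, rfl⟩ := Subgroup.mem_zpowers_iff.1 hc
    have h := map_zpow (MulAut.conj v).toMonoidHom d.a k
    simp only [MulEquiv.coe_toMonoidHom, MulAut.conj_apply, d.refl_inv hv, d.refl_a hv] at h
    rw [h, inv_zpow]
  obtain ⟨v, x, hv, hxO, hvx, hxa, hxb⟩ : ∃ v x, d.IsRefl v ∧ ∃ hxO : x ∈ d.O,
      x⁻¹ * (v * x * v) ∈ Subgroup.zpowers d.a ∧ x ∉ Subgroup.zpowers d.a ∧ d.b ∈ d.stab hxO := by
    obtain ⟨t, htdef⟩ : ∃ t, t = d.h * c * d.h := ⟨_, rfl⟩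
    have htO : t ∈ d.O := htdef ▸ d.refl_O hh hcO
    have htb : d.b ∈ d.stab htO := by
      refine ⟨d.b_mem_Ct, ?_⟩
      have hb' := d.refl_b hh
      have h1 := (inv_mem hcstab : d.b⁻¹ ∈ d.stab hcO).2
      have e : d.b * t * d.b⁻¹ * t⁻¹ = d.h * (d.b⁻¹ * c * d.b⁻¹⁻¹ * c⁻¹) * d.h := by
        have hhh : ∀ y, d.h * (d.h * y) = y := fun y => by rw [← mul_assoc, d.hh, one_mul]
        have hb2 : ∀ y, d.h * (d.b⁻¹ * (d.h * y)) = d.b * y := fun y => by
          rw [← hb', mul_assoc, mul_assoc, hhh, hhh]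
        rw [htdef, ← hb']
        simp [mul_assoc, d.h_inv, hhh, hb2]
      rw [e, hvC hh _ h1]
      exact inv_mem h1
    by_cases hct : c * t ∈ Subgroup.zpowers d.a
    · refine ⟨d.z * d.h, c, hzh, hcO, ?_, hca, hcstab⟩
      have e : d.z * d.h * c * (d.z * d.h) = d.z * t * d.z := by
        rw [show d.z * d.h * c * (d.z * d.h) = d.z * (d.h * c * (d.z * d.h)) by group, d.z_h_comm,
          show d.z * (d.h * c * (d.h * d.z)) = d.z * (d.h * c * d.h) * d.z by group, ← htdef]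
      rw [e]
      have hm := I.mem htO
      have e2 : c⁻¹ * (d.z * t * d.z) = c⁻¹ * (d.z * t * d.z * t) * t⁻¹ := by group
      rw [e2, ← I.central _ hm _ (inv_mem hcO), mul_assoc (d.z * t * d.z * t)]
      refine mul_mem hm ?_
      rw [show c⁻¹ * t⁻¹ = (t * c)⁻¹ by group]
      refine inv_mem ?_
      rw [show t * c = c⁻¹ * (c * t) * c by group, ← I.central _ hct _ (inv_mem hcO), inv_mul_cancel_right]
      exact hct
    · refine ⟨d.h, c * t, hh, mul_mem hcO htO, ?_, hct, ?_⟩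
      · have e : d.h * (c * t) * d.h = t * c := by
          rw [htdef, show d.h * (c * (d.h * c * d.h)) * d.h = (d.h * c * d.h) * c * (d.h * d.h) by group,
            d.hh, mul_one]
        rw [e, mul_inv_rev, show t⁻¹ * c⁻¹ * (t * c) = t⁻¹ * c⁻¹ * t * c by group]
        exact I.comm htO hcO
      · refine ⟨d.b_mem_Ct, ?_⟩
        rw [show d.b * (c * t) * d.b⁻¹ * (c * t)⁻¹ =
          (d.b * c * d.b⁻¹ * c⁻¹) * (c * (d.b * t * d.b⁻¹ * t⁻¹) * c⁻¹) by group,
          ← I.central _ htb.2 _ hcO, mul_inv_cancel_right]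
        exact mul_mem hcstab.2 htb.2
  obtain ⟨k, hk, hfix⟩ := I.exists_fixed_in_coset (d.refl_sq hv) (fun c hc => by
    rw [hvC hv c hc]; exact inv_mem hc) hvx
  obtain ⟨w, hwdef⟩ : ∃ w, w = x * k := ⟨_, rfl⟩
  rw [← hwdef] at hfix
  have hwO : w ∈ d.O := hwdef ▸ mul_mem hxO (I.le hk)
  have hwa : w ∉ Subgroup.zpowers d.a := fun hw => hxa (by
    have := mul_mem hw (inv_mem hk)
    rwa [hwdef, mul_inv_cancel_right] at this)
  have hwF : w ∈ d.fixed v := (d.mem_fixed hv).2 ⟨hwO, hfix⟩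
  have hF3 : Nat.card (d.fixed v) = 3 := by
    have h9 := d.card_O
    rw [h] at h9
    have hh3 : Nat.card (d.fixed d.h) = 3 := by
      rcases d.card_fixed hh with e | e | e <;> rw [e] at h9 <;> omega
    rcases hv with rfl | rfl
    · exact hh3
    · rw [d.card_fixed_eq]; exact hh3
  have hw3 : w ^ 3 = 1 := by
    have := pow_card_eq_one' (x := (⟨w, hwF⟩ : d.fixed v))
    rw [hF3] at this
    exact congrArg Subtype.val this
  have hw1 : w ≠ 1 := fun e => hwa (e ▸ one_mem _)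
  have hFeq : d.fixed v = Subgroup.zpowers w := by
    refine (Subgroup.eq_of_le_of_card_ge (Subgroup.zpowers_le.2 hwF) ?_).symm
    rw [hF3, Nat.card_zpowers, orderOf_eq_prime hw3 hw1]
  have hzw : d.z * w * d.z = w⁻¹ := by
    refine eq_inv_of_mul_eq_one_left (d.fixed_inter_a hv (I.mem hwO) ?_)
    have hvz := (d.refl_z hv).eq
    calc v * (d.z * w * d.z * w) * v = (v * d.z) * w * d.z * w * v := by group
      _ = (d.z * v) * w * d.z * (v * v) * w * v := by rw [hvz, d.refl_sq hv]; group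
      _ = d.z * v * w * (d.z * v) * (v * w * v) := by group
      _ = d.z * v * w * (v * d.z) * (v * w * v) := by rw [hvz]
      _ = d.z * (v * w * v) * d.z * (v * w * v) := by group
      _ = d.z * w * d.z * w := by rw [hfix]
  have hwb : d.b * w * d.b⁻¹ * w⁻¹ ∈ Subgroup.zpowers d.a := by
    rw [hwdef, show d.b * (x * k) * d.b⁻¹ * (x * k)⁻¹ =
      d.b * x * d.b⁻¹ * ((d.b * k * d.b⁻¹) * k⁻¹) * x⁻¹ by group, hcb k hk, mul_inv_cancel, mul_one]
    exact hxb.2
  refine ⟨v, w, hv, hwO, hfix, hwa, hw3, hzw, ?_, hFeq⟩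
  obtain ⟨u, hu⟩ : ∃ u, u = d.b * w * d.b⁻¹ * w⁻¹ := ⟨_, rfl⟩
  rw [← hu] at hwb
  have huw : u * w = w * u := I.central u hwb w hwO
  have hbw : d.b * w * d.b⁻¹ = u * w := by rw [hu]; group
  have hzb : d.z * d.b = d.b * d.z := ((d.K_comm_z _).symm).eq
  have huz : d.z * u * d.z = u := I.cent u hwb
  have h2 : d.b * w⁻¹ * d.b⁻¹ = u * w⁻¹ := by
    have e : d.z * (d.b * w * d.b⁻¹) * d.z = d.b * (d.z * w * d.z) * d.b⁻¹ := by
      have hzbi : d.z * d.b⁻¹ = d.b⁻¹ * d.z :=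
        ((show Commute d.z d.b from hzb).inv_right).eq
      calc d.z * (d.b * w * d.b⁻¹) * d.z = (d.z * d.b) * w * (d.b⁻¹ * d.z) := by group
        _ = (d.b * d.z) * w * (d.z * d.b⁻¹) := by rw [hzb, hzbi]
        _ = _ := by group
    rw [hzw, hbw, I.conj_mul_u, huz, hzw] at e
    exact e.symm
  have h3 : u * u = 1 := by
    have h4 : d.b * w⁻¹ * d.b⁻¹ = (u * w)⁻¹ := by rw [← hbw]; group
    rw [h2] at h4
    have h5 : u * w⁻¹ * (u * w) = 1 := by rw [h4, inv_mul_cancel]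
    rwa [show u * w⁻¹ * (u * w) = u * (w⁻¹ * (u * w)) by group, huw, inv_mul_cancel_left] at h5
  have hu1 : u = 1 := eq_one_of_sq_odd h3 (odd_orderOf d.O_odd (I.le hwb))
  rw [hu1, one_mul] at hbw
  exact mul_inv_eq_iff_eq_mul.1 hbw

/-- Coordinates in the group of order `27`. -/
theorem O_stab_eq (h : Nat.card d.O = 27) {w : G} (hwO : w ∈ d.O) (hwa : w ∉ Subgroup.zpowers d.a)
    (hw3 : w ^ 3 = 1) (hbw : Commute d.b w) {o : G} (ho : o ∈ d.O) (hob : d.b ∈ d.stab ho) :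
    ∃ i j : ℕ, o = d.a ^ i * w ^ j := by
  classical
  have : Fact (Nat.Prime 3) := ⟨Nat.prime_three⟩
  have I := d.inverting
  let Φ : Subgroup G :=
    { carrier := {o | ∃ ho : o ∈ d.O, d.b ∈ d.stab ho}
      one_mem' := ⟨one_mem _, d.b_mem_Ct, by simp⟩
      mul_mem' := by
        rintro o o' ⟨ho, hb1⟩ ⟨ho', hb2⟩
        refine ⟨mul_mem ho ho', d.b_mem_Ct, ?_⟩
        rw [show d.b * (o * o') * d.b⁻¹ * (o * o')⁻¹ =
          (d.b * o * d.b⁻¹ * o⁻¹) * (o * (d.b * o' * d.b⁻¹ * o'⁻¹) * o⁻¹) by group,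
          ← I.central _ hb2.2 _ ho, mul_inv_cancel_right]
        exact mul_mem hb1.2 hb2.2
      inv_mem' := by
        rintro o ⟨ho, hb1⟩
        refine ⟨inv_mem ho, d.b_mem_Ct, ?_⟩
        rw [show d.b * o⁻¹ * d.b⁻¹ * o⁻¹⁻¹ = o⁻¹ * (d.b * o * d.b⁻¹ * o⁻¹)⁻¹ * o by group,
          ← I.central _ (inv_mem hb1.2) _ (inv_mem ho), inv_mul_cancel_right]
        exact inv_mem hb1.2 }
  have hΦle : Φ ≤ d.O := fun o ho => ho.1
  have haΦ : d.a ∈ Φ := ⟨d.a_mem_O, d.b_mem_Ct, by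
    rw [(show Commute d.b d.a from mem_Ct.1 d.b_mem_Ct).eq, mul_inv_cancel_right, mul_inv_cancel]
    exact one_mem _⟩
  have hwΦ : w ∈ Φ := ⟨hwO, d.b_mem_Ct, by
    rw [hbw.eq, mul_inv_cancel_right, mul_inv_cancel]; exact one_mem _⟩
  have hlt : Nat.card Φ ≠ 27 := by
    intro e
    have hΦ : Φ = d.O := Subgroup.eq_of_le_of_card_ge hΦle (by rw [h, e])
    obtain ⟨x, hx, hxb⟩ := d.exists_moved (by rw [h]; norm_num)
    obtain ⟨hx', hb⟩ : x ∈ Φ := hΦ.symm ▸ hx
    exact hxb hb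
  have hdvd : Nat.card Φ ∣ 3 ^ 3 := by
    rw [show (3 : ℕ) ^ 3 = Nat.card d.O by rw [h]; norm_num]
    exact Subgroup.card_dvd_of_le hΦle
  have h9 : Nat.card Φ ≤ 9 := by
    obtain ⟨n, hn, e⟩ := (Nat.dvd_prime_pow Nat.prime_three).1 hdvd
    rw [e] at hlt ⊢
    interval_cases n <;> simp_all
  have hw1 : w ≠ 1 := fun e => hwa (e ▸ one_mem _)
  have hordw : orderOf w = 3 := orderOf_eq_prime hw3 hw1
  let f : Fin 3 × Fin 3 → Φ := fun p =>
    ⟨d.a ^ p.1.val * w ^ p.2.val, mul_mem (pow_mem haΦ _) (pow_mem hwΦ _)⟩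
  have hf : Function.Injective f := by
    rintro ⟨i, j⟩ ⟨i', j'⟩ he
    have he' : d.a ^ i.val * w ^ j.val = d.a ^ i'.val * w ^ j'.val := congrArg Subtype.val he
    have hjj : j = j' := by
      by_contra hne
      refine hwa ?_
      have hmem : w ^ ((j.val : ℤ) - j'.val) ∈ Subgroup.zpowers d.a := by
        refine Subgroup.mem_zpowers_iff.2 ⟨(i'.val : ℤ) - i.val, ?_⟩
        rw [zpow_sub, zpow_sub, zpow_natCast, zpow_natCast, zpow_natCast, zpow_natCast]
        rw [show w ^ j.val = (d.a ^ i.val)⁻¹ * (d.a ^ i'.val * w ^ j'.val) by rw [← he', inv_mul_cancel_left]]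
        rw [← (Commute.pow_pow (Commute.refl d.a) i.val i'.val).inv_left.eq]
        group
      have hcop : ((j.val : ℤ) - j'.val) = 1 ∨ ((j.val : ℤ) - j'.val) = -1 ∨ ((j.val : ℤ) - j'.val) = 2 ∨
          ((j.val : ℤ) - j'.val) = -2 := by
        have h1 := j.2; have h2 := j'.2
        have h3 : j.val ≠ j'.val := fun e => hne (Fin.ext e)
        omega
      have hw2 : w ^ (2 : ℤ) = w⁻¹ := by
        rw [show (2 : ℤ) = ((2 : ℕ) : ℤ) from rfl, zpow_natCast]
        exact eq_inv_of_mul_eq_one_left (by rw [← pow_succ, hw3])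
      rcases hcop with e | e | e | e <;> rw [e] at hmem
      · rwa [zpow_one] at hmem
      · rw [zpow_neg, zpow_one] at hmem; simpa using inv_mem hmem
      · rw [hw2] at hmem; simpa using inv_mem hmem
      · rw [zpow_neg, hw2, inv_inv] at hmem; exact hmem
    subst hjj
    have hi := mul_right_cancel he'
    rw [pow_eq_pow_iff_modEq, d.ha3] at hi
    exact Prod.ext (Fin.ext (by
      have h1 := i.2; have h2 := i'.2
      unfold Nat.ModEq at hi
      rw [Nat.mod_eq_of_lt h1, Nat.mod_eq_of_lt h2] at hi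
      exact hi)) rfl
  have hb := Function.Injective.bijective_of_nat_card_le hf (by simpa using h9)
  obtain ⟨⟨i, j⟩, hij⟩ := hb.2 ⟨o, ho, hob⟩
  exact ⟨i, j, (congrArg Subtype.val hij).symm⟩

/-- Elements of `S` commuting with all of `S`. -/
theorem central_eq (h : Nat.card d.O = 27) {w : G} (hwO : w ∈ d.O) (hwa : w ∉ Subgroup.zpowers d.a)
    (hw3 : w ^ 3 = 1) (hbw : Commute d.b w) {s : G} (hs : s ∈ d.S) (hc : ∀ t ∈ d.S, Commute s t) :
    ∃ i j : ℕ, s = d.a ^ i * w ^ j := by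
  have hsO := d.central_mem_O (by rw [h]; norm_num) hs (fun t ht => hc t (d.O_le_S ht))
  refine d.O_stab_eq h hwO hwa hw3 hbw hsO ⟨d.b_mem_Ct, ?_⟩
  rw [← (hc d.b d.b_mem_S).eq, mul_inv_cancel_right, mul_inv_cancel]
  exact one_mem _

/-- The centre of a Sylow subgroup gives `w` a large centraliser. -/
theorem exists_sylow_w (h : Nat.card d.O = 27) {w : G} (hwO : w ∈ d.O) (hwa : w ∉ Subgroup.zpowers d.a)
    (hw3 : w ^ 3 = 1) (hzw : d.z * w * d.z = w⁻¹) (hbw : Commute d.b w) :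
    (∀ t ∈ d.S, Commute w t) ∧ ∃ P : Subgroup G, IsPGroup 3 P ∧ Nat.card P = 729 ∧ d.S ≤ P ∧
      ∀ x ∈ P, Commute x w := by
  classical
  have : Fact (Nat.Prime 3) := ⟨Nat.prime_three⟩
  obtain ⟨P, hP, hPc, hSP⟩ := d.exists_P
  have : Nontrivial P := Finite.one_lt_card_iff_nontrivial.1 (by rw [hPc]; norm_num)
  have := hP.center_nontrivial
  obtain ⟨z₀, hz₀⟩ := exists_ne (1 : Subgroup.center P)
  have hs1 : ((z₀ : P) : G) ≠ 1 := fun e => hz₀ (Subtype.ext (Subtype.ext e))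
  have hsc : ∀ t ∈ P, Commute ((z₀ : P) : G) t := fun t ht =>
    (congrArg Subtype.val (Subgroup.mem_center_iff.1 z₀.2 ⟨t, ht⟩)).symm
  obtain ⟨s, hsdef⟩ : ∃ s, s = ((z₀ : P) : G) := ⟨_, rfl⟩
  rw [← hsdef] at hs1 hsc
  have hsP : s ∈ P := hsdef ▸ (z₀ : P).2
  have hsS : s ∈ d.S := d.mem_S_of_comm hP hSP hsP (hsc d.a (hSP (d.O_le_S d.a_mem_O)))
  obtain ⟨i, j, hij⟩ := d.central_eq h hwO hwa hw3 hbw hsS (fun t ht => hsc t (hSP ht))
  have hw1 : w ≠ 1 := fun e => hwa (e ▸ one_mem _)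
  have hPa : ∀ u : G, (∀ t ∈ P, Commute u t) → ∀ g : G, g * d.a * g⁻¹ ≠ u := by
    intro u hu g hg
    have hle : P ≤ Ct u := fun t ht => mem_Ct.2 (hu t ht).symm
    have := Subgroup.card_dvd_of_le hle
    rw [hPc, ← hg, card_Ct_conj, d.card_Ct_a, h] at this
    norm_num at this
  have hj : w ^ j ≠ 1 := by
    intro e
    rw [e, mul_one] at hij
    rcases d.a_pow_cases i with a | a | a <;> rw [a] at hij
    · exact hs1 hij
    · exact hPa s hsc 1 (by rw [hij]; group)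
    · exact hPa d.a (fun t ht => by
        have := (hsc t ht).inv_left
        rwa [hij, inv_inv] at this) 1 (by group)
  have haS : ∀ t ∈ d.S, Commute d.a t := fun t ht => (mem_Ct.1 (d.S_le ht)).symm
  have hwj : ∀ t ∈ d.S, Commute (w ^ j) t := fun t ht => by
    have e : w ^ j = (d.a ^ i)⁻¹ * s := by rw [hij]; group
    rw [e]
    exact ((haS t ht).pow_left i).inv_left.mul_left (hsc t (hSP ht))
  have hordw : orderOf w = 3 := orderOf_eq_prime hw3 hw1
  have hwS : ∀ t ∈ d.S, Commute w t := by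
    intro t ht
    have hm : j % 3 = 1 ∨ j % 3 = 2 := by
      have : j % 3 ≠ 0 := fun e => hj (by rw [← pow_mod_orderOf, hordw, e, pow_zero])
      omega
    have hh := hwj t ht
    rw [← pow_mod_orderOf, hordw] at hh
    rcases hm with e | e <;> rw [e] at hh
    · rwa [pow_one] at hh
    · have := hh.pow_left 2
      rwa [← pow_mul, show (2 * 2 : ℕ) = 3 + 1 from rfl, pow_succ, hw3, one_mul] at this
  refine ⟨hwS, P, hP, hPc, hSP, ?_⟩
  obtain ⟨w', hw'def⟩ : ∃ w', w' = w ^ j := ⟨_, rfl⟩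
  have hw'3 : w' ^ 3 = 1 := by rw [hw'def, ← pow_mul, mul_comm, pow_mul, hw3, one_pow]
  suffices hi : d.a ^ i = 1 by
    intro x hx
    have hc : Commute x (w ^ j) := by
      have := (hsc x hx).symm
      rwa [hij, hi, one_mul] at this
    have hm : j % 3 = 1 ∨ j % 3 = 2 := by
      have : j % 3 ≠ 0 := fun e => hj (by rw [← pow_mod_orderOf, hordw, e, pow_zero])
      omega
    rw [← pow_mod_orderOf, hordw] at hc
    rcases hm with e | e <;> rw [e] at hc
    · rwa [pow_one] at hc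
    · have := hc.pow_right 2
      rwa [← pow_mul, show (2 * 2 : ℕ) = 3 + 1 from rfl, pow_succ, hw3, one_mul] at this
  by_contra hi
  obtain ⟨a', ha'def⟩ : ∃ a', a' = d.a ^ i := ⟨_, rfl⟩
  rw [← ha'def] at hij hi
  have ha'3 : a' ^ 3 = 1 := by rw [ha'def, ← pow_mul, mul_comm, pow_mul, d.a_cube, one_pow]
  have ha'a : a' = d.a ∨ a' = d.a⁻¹ := by
    rcases d.a_pow_cases i with e | e | e <;> rw [← ha'def] at e
    exacts [absurd e hi, Or.inl e, Or.inr e]
  rw [← hw'def] at hij hwj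
  have ha'S : a' ∈ d.S := ha'def ▸ pow_mem (d.O_le_S d.a_mem_O) i
  have ha'c : ∀ t ∈ d.S, Commute a' t := fun t ht => ha'def ▸ (haS t ht).pow_left i
  have haw : Commute a' w' := (hwj a' ha'S).symm
  have hne : d.S ≠ P := fun e => by
    have := d.card_S
    rw [e, hPc, h] at this
    norm_num at this
  obtain ⟨x, hxP, hxS, hxn⟩ := exists_normalizing hP hSP hne
  have hodd := odd_of_mem hPc hxP
  have hSnorm : ∀ t ∈ d.S, x⁻¹ * t * x ∈ d.S := by
    intro t ht
    have hx2 : ∀ n : ℕ, ∀ t ∈ d.S, x ^ n * t * (x ^ n)⁻¹ ∈ d.S := by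
      intro n
      induction n with
      | zero => intro t ht; simpa using ht
      | succ n ih =>
        intro t ht
        rw [pow_succ', show x * x ^ n * t * (x * x ^ n)⁻¹ = x * (x ^ n * t * (x ^ n)⁻¹) * x⁻¹ by group]
        exact hxn _ (ih t ht)
    have e : x⁻¹ = x ^ (orderOf x - 1) := by
      refine inv_eq_of_mul_eq_one_right ?_
      rw [← pow_succ', Nat.sub_add_cancel (orderOf_pos x), pow_orderOf_eq_one]
    have := hx2 (orderOf x - 1) t ht
    rwa [← e, inv_inv] at this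
  have himg : ∃ p q : ℕ, x * a' * x⁻¹ = a' ^ p * s ^ q := by
    obtain ⟨i₁, j₁, e₁⟩ := d.central_eq h hwO hwa hw3 hbw (hxn a' ha'S) (fun t ht => by
      have := ha'c _ (hSnorm t ht)
      show x * a' * x⁻¹ * t = t * (x * a' * x⁻¹)
      calc x * a' * x⁻¹ * t = x * (a' * (x⁻¹ * t * x)) * x⁻¹ := by group
        _ = x * ((x⁻¹ * t * x) * a') * x⁻¹ := by rw [this.eq]
        _ = _ := by group)
    obtain ⟨p₁, hp₁⟩ : ∃ p₁ : ℕ, d.a ^ i₁ = a' ^ p₁ := by
      rcases ha'a with e | e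
      · exact ⟨i₁, by rw [e]⟩
      · refine ⟨2 * i₁, ?_⟩
        rw [e, pow_mul, show d.a⁻¹ ^ 2 = d.a by
          rw [inv_pow]; exact inv_eq_of_mul_eq_one_right (by rw [← pow_succ, d.a_cube])]
    obtain ⟨q₁, hq₁⟩ : ∃ q₁ : ℕ, w ^ j₁ = w' ^ q₁ := by
      have hm : j % 3 = 1 ∨ j % 3 = 2 := by
        have : j % 3 ≠ 0 := fun e => hj (by rw [← pow_mod_orderOf, hordw, e, pow_zero])
        omega
      refine ⟨j % 3 * j₁, ?_⟩
      rw [hw'def, ← pow_mul, pow_eq_pow_iff_modEq, hordw]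
      rcases hm with e | e <;>
      · unfold Nat.ModEq
        rw [e, ← mul_assoc, Nat.mul_mod, Nat.mul_mod j, e]
        norm_num [Nat.mod_mod]
    refine ⟨p₁ + 2 * q₁, q₁, ?_⟩
    rw [e₁, hp₁, hq₁, hij, haw.mul_pow, pow_add, mul_assoc, ← mul_assoc (a' ^ (2 * q₁)), ← pow_add,
      show 2 * q₁ + q₁ = 3 * q₁ by ring, pow_mul, ha'3, one_pow, one_mul]
  obtain ⟨p, q, hpq⟩ := himg
  have hxs : x * s * x⁻¹ = s := by rw [← (hsc x hxP).eq, mul_inv_cancel_right]
  have hord' : orderOf a' = 3 := orderOf_eq_prime ha'3 hi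
  have hs3 : s ^ 3 = 1 := by rw [hij, haw.mul_pow, ha'3, hw'3, mul_one]
  have hnotP : ∀ u : G, (∀ t ∈ P, Commute u t) → u ≠ a' := by
    intro u hu e
    rcases ha'a with a | a
    · exact hPa u hu 1 (by rw [e, a]; group)
    · exact hPa u⁻¹ (fun t ht => (hu t ht).inv_left) 1 (by rw [e, a, inv_inv]; group)
  rw [← pow_mod_orderOf (x := a'), hord'] at hpq
  have hp3 : p % 3 < 3 := Nat.mod_lt _ (by norm_num)
  have hsa : Commute a' s := by rw [hij]; exact (Commute.refl a').mul_right haw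
  interval_cases hp : p % 3
  · rw [pow_zero, one_mul] at hpq
    refine hnotP (s ^ q) (fun t ht => (hsc t ht).pow_left q) ?_
    calc s ^ q = x⁻¹ * s ^ q * x := by
          rw [mul_assoc, ((hsc x hxP).pow_left q).eq, inv_mul_cancel_left]
      _ = a' := by rw [← hpq]; group
  · rw [pow_one] at hpq
    by_cases hq : s ^ q = 1
    · rw [hq, mul_one] at hpq
      refine hxS (d.mem_S_of_comm hP hSP hxP ?_)
      have hc : Commute x a' := mul_inv_eq_iff_eq_mul.1 hpq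
      rcases ha'a with a | a
      · rwa [a] at hc
      · rw [a] at hc; simpa using hc.inv_right
    have hiter : ∀ k : ℕ, x ^ k * a' * (x ^ k)⁻¹ = a' * s ^ (q * k) := by
      intro k
      induction k with
      | zero => simp
      | succ k ih =>
        rw [pow_succ', show x * x ^ k * a' * (x * x ^ k)⁻¹ = x * (x ^ k * a' * (x ^ k)⁻¹) * x⁻¹ by group, ih,
          ← conj_mul, hpq, ← conj_pow, hxs, mul_assoc, ← pow_add]
        congr 2
        ring
    obtain ⟨k, hk⟩ : ∃ k, s ^ (q * k) = s := by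
      have hs1' : orderOf s = 3 := orderOf_eq_prime hs3 hs1
      have : q % 3 ≠ 0 := fun e => hq (by rw [← pow_mod_orderOf, hs1', e, pow_zero])
      refine ⟨q, ?_⟩
      rw [← pow_mod_orderOf, hs1', Nat.mul_mod]
      have : q % 3 = 1 ∨ q % 3 = 2 := by omega
      rcases this with e | e <;> rw [e] <;> simp
    have h1 := hiter k
    rw [hk] at h1
    obtain ⟨u, hudef⟩ : ∃ u, u = d.z * x ^ k := ⟨_, rfl⟩
    have hza' : d.z * a' = a' * d.z := (ha'def ▸ d.hza.pow_right i : Commute d.z a').eq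
    have hzw' : d.z * w' * d.z = w'⁻¹ := by
      rw [hw'def, ← inv_pow, ← hzw]
      have h := map_pow (MulAut.conj d.z).toMonoidHom w j
      simp only [MulEquiv.coe_toMonoidHom, MulAut.conj_apply, d.z_inv] at h
      exact h
    have h2 : u * a' * u⁻¹ = s⁻¹ := by
      rw [hudef, show d.z * x ^ k * a' * (d.z * x ^ k)⁻¹ = d.z * (x ^ k * a' * (x ^ k)⁻¹) * d.z⁻¹ by group,
        h1, d.z_inv, hij]
      calc d.z * (a' * (a' * w')) * d.z = a' * a' * (d.z * w' * d.z) := by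
            rw [show d.z * (a' * (a' * w')) * d.z = (d.z * a') * a' * w' * d.z by group, hza',
              show a' * d.z * a' * w' * d.z = a' * (d.z * a') * w' * d.z by group, hza']
            group
        _ = a'⁻¹ * w'⁻¹ := by
            rw [hzw']
            congr 1
            exact eq_inv_of_mul_eq_one_left (by rw [← pow_two, ← pow_succ, ha'3])
        _ = (a' * w')⁻¹ := by rw [haw.eq, mul_inv_rev]
    rcases ha'a with a | a
    · rw [a] at h2
      exact hPa s⁻¹ (fun t ht => (hsc t ht).inv_left) u h2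
    · rw [a] at h2
      rw [← conj_inv] at h2
      exact hPa s hsc u (inv_inj.1 h2)
  · refine hxS (d.mem_S_of_comm hP hSP hxP (comm_of_sq hodd ?_))
    have hc : Commute (x * x) a' := by
      refine mul_inv_eq_iff_eq_mul.1 ?_
      calc x * x * a' * (x * x)⁻¹ = x * (x * a' * x⁻¹) * x⁻¹ := by group
        _ = (x * a' * x⁻¹) ^ 2 * s ^ q := by rw [hpq, ← conj_mul, ← conj_pow, ← conj_pow, hxs, hpq]
        _ = a' ^ (2 * 2) * (s ^ q * s ^ q * s ^ q) := by
            rw [hpq, (hsa.pow_pow 2 q).mul_pow, ← pow_mul, pow_two (s ^ q), mul_assoc]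
        _ = a' := by
            rw [show (2 * 2 : ℕ) = 3 + 1 from rfl, pow_succ, ha'3, one_mul, ← pow_add, ← pow_add,
              show q + q + q = 3 * q by ring, pow_mul, hs3, one_pow, mul_one]
    rcases ha'a with a | a
    · rwa [a] at hc
    · rw [a] at hc; simpa using hc.inv_right

end Half

end CfsgLib.GTwoTwoLocal
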