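import Cfsg.Agent.Lib.GTwoTwoLocal.Config

/-!
# The two factors and their product
-/

set_option autoImplicit false
set_option linter.unusedSectionVars false

namespace CfsgLib.GTwoTwoLocal

open Model (tab)
open CfsgLib.GL23 (Ct mem_Ct sq_t t_ne_one)

namespace Cfg

variable {G : Type*} [Group G] [Finite G] (c : Cfg G)

theorem z_sq : c.z * c.z = 1 := sq_t c.hz

theorem z_ne : c.z ≠ 1 := t_ne_one c.hz

theorem mem_ct₁ (a : SL) : c.ι₁ a ∈ Ct c.z := mem_Ct.2 (by rw [← c.neg₂]; exact c.comm a _)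

theorem mem_ct₂ (a : SL) : c.ι₂ a ∈ Ct c.z := mem_Ct.2 (by rw [← c.neg₁]; exact (c.comm _ a).symm)

theorem z_mem_ct : c.z ∈ Ct c.z := mem_Ct.2 rfl

/-- The product map of the two factors. -/
noncomputable def prodHom : SL × SL →* G := c.ι₁.noncommCoprod c.ι₂ c.comm

theorem prodHom_apply (a b : SL) : c.prodHom (a, b) = c.ι₁ a * c.ι₂ b := rfl

theorem inter_eq {a b : SL} (h : c.ι₁ a * c.ι₂ b = 1) :
    (a = 1 ∧ b = 1) ∨ (a = toSL 1 ∧ b = toSL 1) := by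
  have h' : c.ι₁ a = c.ι₂ b⁻¹ := by rw [map_inv]; exact eq_inv_of_mul_eq_one_left h
  rcases c.inter a b⁻¹ h' with rfl | rfl
  · left
    rw [map_one, one_mul, ← map_one c.ι₂] at h
    exact ⟨rfl, c.inj₂ h⟩
  · right
    refine ⟨rfl, inv_injective ?_⟩
    rw [inv_eq_of_mul_eq_one_right neg_facts.1]
    exact (c.inj₂ (by rw [c.neg₂, ← c.neg₁]; exact h')).symm

theorem card_ker : Nat.card c.prodHom.ker = 2 := by
  have hne : (1 : SL × SL) ≠ (toSL 1, toSL 1) := fun h => neg_facts.2 (congrArg Prod.fst h).symm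
  rw [Nat.card_eq_two_iff]
  refine ⟨1, ⟨(toSL 1, toSL 1), ?_⟩, fun h => hne (congrArg Subtype.val h), ?_⟩
  · rw [MonoidHom.mem_ker, prodHom_apply, c.neg₁, c.neg₂, c.z_sq]
  · refine Set.eq_univ_of_forall fun x => ?_
    obtain ⟨⟨a, b⟩, hx⟩ := x
    rcases c.inter_eq hx with ⟨rfl, rfl⟩ | ⟨rfl, rfl⟩
    · exact Or.inl rfl
    · exact Or.inr rfl

/-- The product of the two factors. -/
noncomputable def H₀ : Subgroup G := c.prodHom.range

theorem mem_H₀ {x : G} : x ∈ c.H₀ ↔ ∃ a b, x = c.ι₁ a * c.ι₂ b :=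
  ⟨fun ⟨⟨a, b⟩, h⟩ => ⟨a, b, h.symm⟩, fun ⟨a, b, h⟩ => ⟨(a, b), h.symm⟩⟩

theorem H₀_le : c.H₀ ≤ Ct c.z := by
  intro x hx
  obtain ⟨a, b, rfl⟩ := c.mem_H₀.1 hx
  exact mul_mem (c.mem_ct₁ a) (c.mem_ct₂ b)

theorem card_SL : Nat.card SL = 24 := by
  rw [← Nat.card_fin 24]
  refine (Nat.card_eq_of_bijective (fun n : Fin 24 => toSL n) ⟨?_, ?_⟩).symm
  · intro a b h; exact Fin.ext (toSL_injective a.2 b.2 h)
  · intro g; obtain ⟨n, hn, h⟩ := exists_number g; exact ⟨⟨n, hn⟩, h⟩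

theorem card_H₀ : Nat.card c.H₀ = 288 := by
  have h := c.prodHom.ker.card_mul_index
  rw [Subgroup.index_ker, c.card_ker, Nat.card_prod, card_SL] at h
  unfold H₀
  omega

theorem index_H₀ : (c.H₀.subgroupOf (Ct c.z)).index = 2 := by
  have h := (c.H₀.subgroupOf (Ct c.z)).index_mul_card
  rw [Nat.card_congr (Subgroup.subgroupOfEquivOfLe c.H₀_le).toEquiv, c.card_H₀, c.card_ct] at h
  omega

theorem mul_mem_H₀ {x y : G} (hx : x ∈ Ct c.z) (hy : y ∈ Ct c.z) (hx0 : x ∉ c.H₀) (hy0 : y ∉ c.H₀) :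
    x * y ∈ c.H₀ :=
  Subgroup.mem_subgroupOf.1 ((Subgroup.mul_mem_iff_of_index_two c.index_H₀ (a := ⟨x, hx⟩) (b := ⟨y, hy⟩)).2
    ⟨fun h => absurd (Subgroup.mem_subgroupOf.1 h) hx0, fun h => absurd (Subgroup.mem_subgroupOf.1 h) hy0⟩)

theorem mem_H₀_of_cube {x : G} (hx : x ∈ Ct c.z) (h3 : x ^ 3 = 1) : x ∈ c.H₀ := by
  by_contra h
  have h2 := c.mul_mem_H₀ hx hx h h
  refine h ?_
  have : x = (x * x) * (x * x) := by
    calc x = x ^ 3 * x := by rw [h3, one_mul]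
      _ = (x * x) * (x * x) := by simp only [pow_succ, pow_zero, one_mul, mul_assoc]
  rw [this]
  exact mul_mem h2 h2

/-- Elements of order dividing four. -/
def sl4 : Subgroup SL where
  carrier := {a | a ^ 4 = 1}
  one_mem' := one_pow 4
  mul_mem' := fun ha hb => sl_four_mul ha hb
  inv_mem' := fun {a} ha => by simp only [Set.mem_setOf_eq] at ha ⊢; rw [inv_pow, ha, inv_one]

/-- The product of the two quaternion subgroups. -/
noncomputable def QQ : Subgroup G := (sl4.prod sl4).map c.prodHom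

theorem mem_QQ {x : G} : x ∈ c.QQ ↔ ∃ a b, a ^ 4 = 1 ∧ b ^ 4 = 1 ∧ x = c.ι₁ a * c.ι₂ b :=
  ⟨fun ⟨⟨a, b⟩, ⟨ha, hb⟩, h⟩ => ⟨a, b, ha, hb, h.symm⟩,
    fun ⟨a, b, ha, hb, h⟩ => ⟨(a, b), ⟨ha, hb⟩, h.symm⟩⟩

theorem QQ_le : c.QQ ≤ c.H₀ := Subgroup.map_le_range _ _

theorem card_sl4 : Nat.card sl4 = 8 := by
  have h : Nat.card sl4 = Nat.card {n : Fin 24 // evalPow n 4 = 0} := by
    refine (Nat.card_eq_of_bijective (fun n : {n : Fin 24 // evalPow n 4 = 0} =>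
      (⟨toSL n.1, (evalPow_eq_zero n.1.2 4).1 n.2⟩ : sl4)) ⟨?_, ?_⟩).symm
    · intro a b h; exact Subtype.ext (Fin.ext (toSL_injective a.1.2 b.1.2 (congrArg Subtype.val h)))
    · rintro ⟨g, hg⟩
      obtain ⟨n, hn, rfl⟩ := exists_number g
      exact ⟨⟨⟨n, hn⟩, (evalPow_eq_zero hn 4).2 hg⟩, rfl⟩
  rw [h, Nat.card_eq_fintype_card]
  decide +kernel

theorem card_QQ : Nat.card c.QQ = 32 := by
  have h := (c.prodHom.ker.subgroupOf (sl4.prod sl4)).index_mul_card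
  have hker : c.prodHom.ker ≤ sl4.prod sl4 := by
    rintro ⟨a, b⟩ hx
    rcases c.inter_eq hx with ⟨rfl, rfl⟩ | ⟨rfl, rfl⟩
    · exact one_mem _
    · exact ⟨show (toSL 1) ^ 4 = 1 by rw [pow_succ, pow_succ, pow_two, neg_facts.1, one_mul, neg_facts.1],
        show (toSL 1) ^ 4 = 1 by rw [pow_succ, pow_succ, pow_two, neg_facts.1, one_mul, neg_facts.1]⟩
  rw [Nat.card_congr (Subgroup.subgroupOfEquivOfLe hker).toEquiv, c.card_ker,
    Nat.card_congr (Subgroup.prodEquiv sl4 sl4).toEquiv, Nat.card_prod, card_sl4] at h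
  have h2 : Nat.card c.QQ = (c.prodHom.ker.subgroupOf (sl4.prod sl4)).index := by
    have hk : c.prodHom.ker.subgroupOf (sl4.prod sl4) = (c.prodHom.domRestrict (sl4.prod sl4)).ker := by
      ext x; rfl
    rw [hk, Subgroup.index_ker, MonoidHom.domRestrict_range]
    rfl
  omega

theorem z_mem_QQ : c.z ∈ c.QQ := c.mem_QQ.2 ⟨toSL 1, 1,
  by rw [pow_succ, pow_succ, pow_two, neg_facts.1, one_mul, neg_facts.1], one_pow 4,
  by rw [c.neg₁, map_one, mul_one]⟩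

theorem pow_prod (a b : SL) (n : ℕ) : (c.ι₁ a * c.ι₂ b) ^ n = c.ι₁ (a ^ n) * c.ι₂ (b ^ n) := by
  rw [(c.comm a b).mul_pow, map_pow, map_pow]

theorem four_of_mem_QQ {a b : SL} (h : c.ι₁ a * c.ι₂ b ∈ c.QQ) : a ^ 4 = 1 ∧ b ^ 4 = 1 := by
  obtain ⟨p, q, hp, hq, he⟩ := c.mem_QQ.1 h
  have h2 : c.ι₁ (p⁻¹ * a) * c.ι₂ (b * q⁻¹) = 1 := by
    rw [map_mul, map_mul, map_inv, map_inv, mul_assoc, ← mul_assoc (c.ι₁ a), he]
    group
  have hz : (toSL 1) ^ 4 = 1 := by rw [pow_succ, pow_succ, pow_two, neg_facts.1, one_mul, neg_facts.1]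
  rcases c.inter_eq h2 with ⟨e1, e2⟩ | ⟨e1, e2⟩
  · rw [← inv_mul_eq_one.1 e1, mul_inv_eq_one.1 e2]; exact ⟨hp, hq⟩
  · rw [inv_mul_eq_iff_eq_mul.1 e1, mul_inv_eq_iff_eq_mul.1 e2]
    exact ⟨sl_four_mul hp hz, sl_four_mul hz hq⟩

theorem mem_QQ_of_pow {x : G} (hx : x ∈ c.H₀) (h : x ^ 64 = 1) : x ∈ c.QQ := by
  obtain ⟨a, b, rfl⟩ := c.mem_H₀.1 hx
  rw [c.pow_prod] at h
  have key : ∀ y : SL, (y ^ 64 = 1 ∨ y ^ 64 = toSL 1) → y ^ 4 = 1 := by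
    intro y hy
    refine sl_pow_four ?_
    rw [show 128 = 64 * 2 from rfl, pow_mul, pow_two]
    rcases hy with e | e <;> rw [e]
    exacts [one_mul 1, neg_facts.1]
  rcases c.inter_eq h with ⟨e1, e2⟩ | ⟨e1, e2⟩
  · exact c.mem_QQ.2 ⟨a, b, key a (Or.inl e1), key b (Or.inl e2), rfl⟩
  · exact c.mem_QQ.2 ⟨a, b, key a (Or.inr e1), key b (Or.inr e2), rfl⟩

theorem QQ_normal {x y : G} (hx : x ∈ Ct c.z) (hy : y ∈ c.QQ) : x * y * x⁻¹ ∈ c.QQ := by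
  obtain ⟨a, b, ha, hb, rfl⟩ := c.mem_QQ.1 hy
  obtain ⟨a', ha'⟩ := c.normal₁ x hx a
  obtain ⟨b', hb'⟩ := c.normal₂ x hx b
  refine c.mem_QQ.2 ⟨a', b', c.inj₁ ?_, c.inj₂ ?_, ?_⟩
  · rw [map_pow, map_one, ← ha', conj_pow, ← map_pow, ha, map_one, mul_one, mul_inv_cancel]
  · rw [map_pow, map_one, ← hb', conj_pow, ← map_pow, hb, map_one, mul_one, mul_inv_cancel]
  · rw [← ha', ← hb']; group

/-- There are many involutions in the product of the quaternion groups. -/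
theorem exists_involutions : ∃ f : Fin 9 → G, Function.Injective f ∧
    ∀ i, f i ∈ c.QQ ∧ f i * f i = 1 := by
  have hnum : ∀ x ∈ ([2, 14, 22] : List ℕ), x < 24 ∧ tab x x = 1 := by decide +kernel
  let q : Fin 3 → ℕ := ![2, 14, 22]
  have hq : ∀ i, q i < 24 ∧ tab (q i) (q i) = 1 := fun i => hnum _ (by fin_cases i <;> simp [q])
  have hdist : ∀ i j : Fin 3, i = j ∨ ((q i ≠ q j) ∧ tab 1 (q i) ≠ q j) := by decide +kernel
  have hsq : ∀ i, toSL (q i) * toSL (q i) = toSL 1 := fun i => by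
    rw [← toSL_tab (hq i).1 (hq i).1, (hq i).2]
  refine ⟨fun k => c.ι₁ (toSL (q ((finProdFinEquiv : Fin 3 × Fin 3 ≃ Fin 9).symm k).1)) * c.ι₂ (toSL (q ((finProdFinEquiv : Fin 3 × Fin 3 ≃ Fin 9).symm k).2)),
    ?_, fun k => ⟨c.mem_QQ.2 ⟨_, _, ?_, ?_, rfl⟩, ?_⟩⟩
  · intro k l hkl
    apply (finProdFinEquiv : Fin 3 × Fin 3 ≃ Fin 9).symm.injective
    simp only at hkl
    generalize (finProdFinEquiv : Fin 3 × Fin 3 ≃ Fin 9).symm k = p,
      (finProdFinEquiv : Fin 3 × Fin 3 ≃ Fin 9).symm l = r at hkl ⊢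
    have h2 : c.ι₁ ((toSL (q r.1))⁻¹ * toSL (q p.1)) * c.ι₂ (toSL (q p.2) * (toSL (q r.2))⁻¹) = 1 := by
      rw [map_mul, map_mul, map_inv, map_inv, mul_assoc, ← mul_assoc (c.ι₁ (toSL (q p.1))), hkl]
      group
    have heq : ∀ i j : Fin 3, (toSL (q i) = toSL (q j) ∨ toSL 1 * toSL (q i) = toSL (q j)) → i = j := by
      intro i j h
      rcases hdist i j with e | ⟨e1, e2⟩
      · exact e
      rcases h with h | h
      · exact absurd (toSL_injective (hq i).1 (hq j).1 h) e1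
      · rw [← toSL_tab (by norm_num) (hq i).1] at h
        exact absurd (toSL_injective (tab_lt (by norm_num) (hq i).1) (hq j).1 h) e2
    rcases c.inter_eq h2 with ⟨e1, e2⟩ | ⟨e1, e2⟩
    · exact Prod.ext (heq _ _ (Or.inl (inv_mul_eq_one.1 e1).symm)) (heq _ _ (Or.inl (mul_inv_eq_one.1 e2)))
    · exact Prod.ext (heq _ _ (Or.inr (by rw [neg_comm, ← inv_mul_eq_iff_eq_mul.1 e1]))).symm
        (heq _ _ (Or.inr (mul_inv_eq_iff_eq_mul.1 e2).symm)).symm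
  · rw [pow_succ, pow_succ, pow_two, hsq, mul_assoc, hsq, neg_facts.1]
  · rw [pow_succ, pow_succ, pow_two, hsq, mul_assoc, hsq, neg_facts.1]
  · simp only
    rw [(c.comm _ _).symm.mul_mul_mul_comm, ← map_mul, ← map_mul, hsq, hsq, c.neg₁, c.neg₂, c.z_sq]

end Cfg

end CfsgLib.GTwoTwoLocal
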