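import Cfsg.Agent.Lib.GTwoTwoLocal.Outer
import Cfsg.Agent.Lib.GTwoTwoLocal.Coded

/-!
# The centraliser is the model
-/

set_option autoImplicit false
set_option linter.unusedSectionVars false
set_option maxRecDepth 100000

namespace CfsgLib.GTwoTwoLocal

open Model
open CfsgLib.GL23 (Ct mem_Ct)

/-- The number of an element. -/
noncomputable def num (g : SL) : ℕ := (exists_number g).choose

theorem num_lt (g : SL) : num g < 24 := (exists_number g).choose_spec.1

theorem toSL_num (g : SL) : toSL (num g) = g := (exists_number g).choose_spec.2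

theorem num_toSL {n : ℕ} (h : n < 24) : num (toSL n) = n :=
  toSL_injective (num_lt _) h (toSL_num _)

theorem toSL_evalW {u v : ℕ} (hu : u < 24) (hv : v < 24) (w : List Bool) :
    evalW u v w < 24 ∧ toSL (evalW u v w) = w.foldl (fun g b => g * if b then toSL v else toSL u) 1 := by
  suffices h : ∀ (w : List Bool) (a : ℕ), a < 24 →
      w.foldl (fun a b => tab a (if b then v else u)) a < 24 ∧
      toSL (w.foldl (fun a b => tab a (if b then v else u)) a) =
        w.foldl (fun g b => g * if b then toSL v else toSL u) (toSL a) by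
    simpa [evalW, toSL_zero] using h w 0 (by norm_num)
  intro w
  induction w with
  | nil => intro a ha; exact ⟨ha, rfl⟩
  | cons b w ih =>
    intro a ha
    have hb : (if b then v else u) < 24 := by split <;> assumption
    obtain ⟨i1, i2⟩ := ih (tab a (if b then v else u)) (tab_lt ha hb)
    refine ⟨i1, ?_⟩
    rw [List.foldl_cons, List.foldl_cons, i2, toSL_tab ha hb]
    cases b <;> rfl

theorem word_spec {x : ℕ} (hx : x < 24) : evalW 12 8 (wordL.getD x []) = x := by
  have h := List.all_eq_true.1 word_ok x (List.mem_range.2 hx)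
  simpa using h

theorem hom_num (f : SL →* SL) {x : ℕ} (hx : x < 24) :
    num (f (toSL x)) = evalW (num (f (toSL 12))) (num (f (toSL 8))) (wordL.getD x []) := by
  apply toSL_injective (num_lt _) (toSL_evalW (num_lt _) (num_lt _) _).1
  rw [toSL_num, (toSL_evalW (num_lt _) (num_lt _) _).2, toSL_num, toSL_num]
  conv_lhs => rw [← word_spec hx, (toSL_evalW (by norm_num) (by norm_num) _).2]
  generalize wordL.getD x [] = w
  suffices h : ∀ (w : List Bool) (g : SL), f (w.foldl (fun g b => g * if b then toSL 8 else toSL 12) g) =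
      w.foldl (fun g b => g * if b then f (toSL 8) else f (toSL 12)) (f g) by
    simpa using h w 1
  intro w
  induction w with
  | nil => intro g; rfl
  | cons b w ih =>
    intro g
    rw [List.foldl_cons, List.foldl_cons, ih, map_mul]
    cases b <;> rfl

theorem conjM_gen : ∀ w : Fin 48, ∀ x : Fin 24, conjM w x < 24 ∧
    conjM w (tab x 12) = tab (conjM w x) (conjM w 12) ∧
    conjM w (tab x 8) = tab (conjM w x) (conjM w 8) ∧ conjM w 0 = 0 ∧ conjM w 1 = 1 ∧
    conjM (invM w) (conjM w x) = x ∧ invM w < 48 := by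
  decide +kernel

theorem conjM_mul {w x y : ℕ} (hw : w < 48) (hx : x < 24) (hy : y < 24) :
    conjM w (tab x y) = tab (conjM w x) (conjM w y) := by
  have key : ∀ (v : List Bool) (a : ℕ), a < 24 →
      conjM w (tab a (evalW 12 8 v)) = tab (conjM w a) (conjM w (evalW 12 8 v)) := by
    intro v
    induction v using List.reverseRecOn with
    | nil =>
      intro a ha
      have h0 : ∀ b : Fin 24, tab b 0 = b := by decide +kernel
      show conjM w (tab a 0) = tab (conjM w a) (conjM w 0)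
      rw [(conjM_gen ⟨w, hw⟩ ⟨a, ha⟩).2.2.2.1, h0 ⟨a, ha⟩, h0 ⟨_, (conjM_gen ⟨w, hw⟩ ⟨a, ha⟩).1⟩]
    | append_singleton v b ih =>
      intro a ha
      obtain ⟨hv, -⟩ := toSL_evalW (u := 12) (v := 8) (by norm_num) (by norm_num) v
      have he : evalW 12 8 (v ++ [b]) = tab (evalW 12 8 v) (if b then 8 else 12) := by
        simp [evalW, List.foldl_append]
      have hb : (if b then (8 : ℕ) else 12) < 24 := by split <;> norm_num
      have hgen : ∀ c < 24, conjM w (tab c (if b then 8 else 12)) =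
          tab (conjM w c) (conjM w (if b then 8 else 12)) := by
        intro c hc
        cases b
        · exact (conjM_gen ⟨w, hw⟩ ⟨c, hc⟩).2.1
        · exact (conjM_gen ⟨w, hw⟩ ⟨c, hc⟩).2.2.1
      have hcl : ∀ c < 24, conjM w c < 24 := fun c hc => (conjM_gen ⟨w, hw⟩ ⟨c, hc⟩).1
      have assoc : ∀ p q r : ℕ, p < 24 → q < 24 → r < 24 → tab p (tab q r) = tab (tab p q) r := by
        intro p q r hp hq hr
        apply toSL_injective (tab_lt hp (tab_lt hq hr)) (tab_lt (tab_lt hp hq) hr)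
        rw [toSL_tab hp (tab_lt hq hr), toSL_tab hq hr, toSL_tab (tab_lt hp hq) hr, toSL_tab hp hq, mul_assoc]
      rw [he, assoc a _ _ ha hv hb, hgen _ (tab_lt ha hv), ih a ha, hgen _ hv,
        assoc _ _ _ (hcl a ha) (hcl _ hv) (hcl _ hb)]
  rw [← word_spec hy]
  exact key _ x hx

/-- Conjugation by a numbered matrix. -/
noncomputable def conjHom (w : Fin 48) : SL →* SL :=
  MonoidHom.mk' (fun g => toSL (conjM w (num g))) fun a b => by
    have hn : num (a * b) = tab (num a) (num b) := by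
      apply toSL_injective (num_lt _) (tab_lt (num_lt _) (num_lt _))
      rw [toSL_num, toSL_tab (num_lt _) (num_lt _), toSL_num, toSL_num]
    rw [hn, conjM_mul w.2 (num_lt _) (num_lt _),
      toSL_tab (conjM_gen w ⟨_, num_lt a⟩).1 (conjM_gen w ⟨_, num_lt b⟩).1]

theorem conjHom_apply (w : Fin 48) (g : SL) : conjHom w g = toSL (conjM w (num g)) := rfl

theorem conjHom_injective (w : Fin 48) : Function.Injective (conjHom w) := by
  intro a b h
  have ha := conjM_gen w ⟨_, num_lt a⟩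
  have hb := conjM_gen w ⟨_, num_lt b⟩
  have h' : conjM w (num a) = conjM w (num b) := toSL_injective ha.1 hb.1 h
  have h'' := congrArg (fun n => toSL (conjM (invM w) n)) h'
  simp only at ha hb h''
  rwa [ha.2.2.2.2.2.1, hb.2.2.2.2.2.1, toSL_num, toSL_num] at h''

theorem conjHom_neg (w : Fin 48) : conjHom w (toSL 1) = toSL 1 := by
  rw [conjHom_apply, num_toSL (by norm_num), (conjM_gen w 0).2.2.2.2.1]

/-- An involutive automorphism that is not inner is conjugate to conjugation by the reflection. -/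
theorem exists_conjugator (f : SL →* SL) (hff : ∀ g, f (f g) = g)
    (hni : ∀ a : SL, ∃ u, f u ≠ a * u * a⁻¹) :
    ∃ w : Fin 48, ∀ x < 24, f (conjHom w (toSL x)) = conjHom w (toSL (conjM dNum x)) := by
  set u := num (f (toSL 12)) with hu
  set v := num (f (toSL 8)) with hv
  have hα : ∀ x < 24, evalW u v (wordL.getD x []) = num (f (toSL x)) := fun x hx => (hom_num f hx).symm
  have h := List.all_eq_true.1 (List.all_eq_true.1 no_bad_pair u (List.mem_range.2 (num_lt _))) v
    (List.mem_range.2 (num_lt _))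
  simp only [badPair, Bool.not_eq_true', Bool.and_eq_false_iff] at h
  rcases h with (h | h) | h
  · exfalso
    rw [List.all_eq_false] at h
    obtain ⟨x, hx, hx'⟩ := h
    rw [List.mem_range] at hx
    refine hx' ?_
    simp only [Bool.and_eq_true, beq_iff_eq]
    refine ⟨⟨?_, ?_⟩, ?_⟩
    · rw [hα _ (tab_lt hx (by norm_num)), hα x hx]
      apply toSL_injective (num_lt _) (tab_lt (num_lt _) (num_lt _))
      rw [toSL_num, toSL_tab hx (by norm_num), map_mul, toSL_tab (num_lt _) (num_lt _)]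
      simp only [hu, toSL_num]
    · rw [hα _ (tab_lt hx (by norm_num)), hα x hx]
      apply toSL_injective (num_lt _) (tab_lt (num_lt _) (num_lt _))
      rw [toSL_num, toSL_tab hx (by norm_num), map_mul, toSL_tab (num_lt _) (num_lt _)]
      simp only [hv, toSL_num]
    · rw [hα x hx, hα _ (num_lt _), toSL_num, hff, num_toSL hx]
  · exfalso
    simp only [Bool.not_eq_false', List.any_eq_true, List.all_eq_true, List.mem_range, beq_iff_eq] at h
    obtain ⟨a, ha, hall⟩ := h
    obtain ⟨g, hg⟩ := hni (toSL a)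
    refine hg ?_
    obtain ⟨x, hx, rfl⟩ := exists_number g
    obtain ⟨hc, he⟩ := (num_facts ⟨a, ha⟩).2.2.2.2.2.2 ⟨x, hx⟩
    rw [eq_mul_inv_iff_mul_eq, ← toSL_tab ha hx, ← toSL_num (f (toSL x)),
      ← toSL_tab (num_lt _) ha, ← hα x hx, hall x hx]
    exact congrArg toSL he
  · simp only [Bool.not_eq_false', List.any_eq_true, List.all_eq_true, List.mem_range, beq_iff_eq] at h
    obtain ⟨w, hw, hall⟩ := h
    refine ⟨⟨w, hw⟩, fun x hx => ?_⟩
    have hd : conjM dNum x < 24 := (conjM_gen ⟨dNum, by decide⟩ ⟨x, hx⟩).1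
    rw [conjHom_apply, conjHom_apply, num_toSL hx, num_toSL hd, ← toSL_num (f _),
      ← hα _ (conjM_gen ⟨w, hw⟩ ⟨x, hx⟩).1]
    exact congrArg toSL (hall x hx)

/-- The part in `SL(2, 3)` of a matrix number. -/
def sPart (A : ℕ) : ℕ := if odd2 A then tab A dNum else A

theorem sPart_facts : ∀ A : Fin 48, sPart A < 24 ∧ sPart (negM A) = tab 1 (sPart A) ∧
    negM A < 48 ∧ odd2 (negM A) = odd2 A ∧
    (∀ C : Fin 48, sPart (tab A C) = tab (sPart A) (if odd2 A then conjM dNum (sPart C) else sPart C)) ∧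
    (∀ a : Fin 24, sPart a = a ∧ odd2 a = false ∧ sPart (tab a dNum) = a ∧ odd2 (tab a dNum) = true ∧
      tab a dNum < 48) := by
  decide +kernel

namespace Cfg

variable {G : Type*} [Group G] [Finite G] (c : Cfg G)

/-- An element of the centraliser normalised to act as the reflection. -/
def Refl (h : G) : Prop :=
  h ∈ Ct c.z ∧ h ∉ c.H₀ ∧ h * h = 1 ∧
    ∀ x < 24, h * c.ι₁ (toSL x) * h⁻¹ = c.ι₁ (toSL (conjM dNum x)) ∧
      h * c.ι₂ (toSL x) * h⁻¹ = c.ι₂ (toSL (conjM dNum x))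

theorem exists_normalised : ∃ c' : Cfg G, c'.z = c.z ∧ ∃ h, c'.Refl h := by
  classical
  obtain ⟨h, hN, hH, h2, -⟩ := c.exists_outer
  obtain ⟨ni₁, ni₂⟩ := c.not_inner hN hH
  have hinv : h⁻¹ = h := inv_eq_of_mul_eq_one_right h2
  have aut : ∀ (ι : SL →* G), Function.Injective ι → (∀ a, ∃ a', h * ι a * h⁻¹ = ι a') →
      (∀ a : SL, ∃ u, h * ι u * h⁻¹ ≠ ι (a * u * a⁻¹)) →
      ∃ w : Fin 48, ∀ x < 24, h * ι (conjHom w (toSL x)) * h⁻¹ = ι (conjHom w (toSL (conjM dNum x))) := by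
    intro ι hι hn hni
    choose f hf using hn
    let F : SL →* SL := MonoidHom.mk' f fun a b => hι (by rw [map_mul, ← hf, ← hf, ← hf, map_mul, conj_mul])
    obtain ⟨w, hw⟩ := exists_conjugator F
      (fun g => hι (by
        show ι (f (f g)) = ι g
        rw [← hf, ← hf, hinv, ← mul_assoc, ← mul_assoc, h2, one_mul, mul_assoc, h2, mul_one]))
      (fun a => by
        obtain ⟨u, hu⟩ := hni a
        exact ⟨u, fun e => hu (by rw [hf, show f u = a * u * a⁻¹ from e])⟩)
    exact ⟨w, fun x hx => by rw [hf]; exact congrArg ι (hw x hx)⟩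
  obtain ⟨w₁, hw₁⟩ := aut c.ι₁ c.inj₁ (c.normal₁ h hN.2) ni₁
  obtain ⟨w₂, hw₂⟩ := aut c.ι₂ c.inj₂ (c.normal₂ h hN.2) ni₂
  have surj : ∀ w, Function.Surjective (conjHom w) := fun w => by
    have : Finite SL := Nat.finite_of_card_ne_zero (by rw [card_SL]; norm_num)
    exact Finite.injective_iff_surjective.1 (conjHom_injective w)
  let c' : Cfg G :=
    { c with
      ι₁ := c.ι₁.comp (conjHom w₁)
      ι₂ := c.ι₂.comp (conjHom w₂)
      inj₁ := c.inj₁.comp (conjHom_injective w₁)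
      inj₂ := c.inj₂.comp (conjHom_injective w₂)
      neg₁ := by rw [MonoidHom.comp_apply, conjHom_neg]; exact c.neg₁
      neg₂ := by rw [MonoidHom.comp_apply, conjHom_neg]; exact c.neg₂
      comm := fun a b => c.comm _ _
      inter := fun a b hab => by
        rcases c.inter _ _ hab with e | e
        · exact Or.inl (conjHom_injective w₁ (e.trans (map_one _).symm))
        · exact Or.inr (conjHom_injective w₁ (e.trans (conjHom_neg w₁).symm))
      normal₁ := fun x hx a => by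
        obtain ⟨a', ha'⟩ := c.normal₁ x hx (conjHom w₁ a)
        obtain ⟨b, hb⟩ := surj w₁ a'
        exact ⟨b, by rw [MonoidHom.comp_apply, MonoidHom.comp_apply, hb]; exact ha'⟩
      normal₂ := fun x hx a => by
        obtain ⟨a', ha'⟩ := c.normal₂ x hx (conjHom w₂ a)
        obtain ⟨b, hb⟩ := surj w₂ a'
        exact ⟨b, by rw [MonoidHom.comp_apply, MonoidHom.comp_apply, hb]; exact ha'⟩ }
  refine ⟨c', rfl, h, hN.2, ?_, h2, fun x hx => ⟨hw₁ x hx, hw₂ x hx⟩⟩
  intro hh
  obtain ⟨a, b, hab⟩ := c'.mem_H₀.1 hh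
  exact hH (c.mem_H₀.2 ⟨conjHom w₁ a, conjHom w₂ b, hab⟩)

/-- The element with given matrices. -/
noncomputable def psi (h : G) (A B : ℕ) : G :=
  c.ι₁ (toSL (sPart A)) * c.ι₂ (toSL (sPart B)) * (if odd2 A then h else 1)

theorem psi_mul {h : G} (hh : c.Refl h) {A B C D : ℕ} (hA : A < 48) (hB : B < 48) (hC : C < 48)
    (hD : D < 48) (hAB : odd2 A = odd2 B) :
    c.psi h (tab A C) (tab B D) = c.psi h A B * c.psi h C D := by
  obtain ⟨hAlt, -, -, -, hAt, -⟩ := sPart_facts ⟨A, hA⟩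
  obtain ⟨hBlt, -, -, -, hBt, -⟩ := sPart_facts ⟨B, hB⟩
  have hClt := (sPart_facts ⟨C, hC⟩).1
  have hDlt := (sPart_facts ⟨D, hD⟩).1
  have hodd : odd2 (tab A C) = (odd2 A != odd2 C) := by
    have h := allBelow_spec (allBelow_spec tab_ok A hA) C hC
    simp only [Bool.and_eq_true, beq_iff_eq] at h
    exact h.1.1.2
  have hcd : ∀ x < 24, conjM dNum x < 24 := fun x hx => (conjM_gen ⟨dNum, by decide⟩ ⟨x, hx⟩).1
  unfold psi
  rw [hodd, hAt ⟨C, hC⟩, hBt ⟨D, hD⟩, ← hAB]
  simp only at hAlt hBlt hClt hDlt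
  have hmid : ∀ p q r s : G, Commute q r → p * r * (q * s) = p * q * (r * s) := fun p q r s hc =>
    Commute.mul_mul_mul_comm hc.symm p s
  rcases Bool.eq_false_or_eq_true (odd2 A) with e | e <;> simp only [e, if_true, Bool.false_eq_true, if_false]
  · rw [toSL_tab hAlt (hcd _ hClt), toSL_tab hBlt (hcd _ hDlt), map_mul, map_mul]
    obtain ⟨h1, -⟩ := hh.2.2.2 _ hClt
    obtain ⟨-, h2⟩ := hh.2.2.2 _ hDlt
    rw [← h1, ← h2]
    have hc : Commute (h * c.ι₁ (toSL (sPart C)) * h⁻¹) (c.ι₂ (toSL (sPart B))) := by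
      rw [h1]; exact c.comm _ _
    rw [hmid _ _ _ _ hc.symm]
    have hq : ∀ y, h * (h * y) = y := fun y => by rw [← mul_assoc, hh.2.2.1, one_mul]
    rcases Bool.eq_false_or_eq_true (odd2 C) with e' | e' <;>
      simp [e', mul_assoc, inv_eq_of_mul_eq_one_right hh.2.2.1, hh.2.2.1, hq]
  · rw [toSL_tab hAlt hClt, toSL_tab hBlt hDlt, map_mul, map_mul]
    rw [hmid _ _ _ _ (c.comm (toSL (sPart C)) (toSL (sPart B))).symm]
    rcases Bool.eq_false_or_eq_true (odd2 C) with e' | e' <;> simp [e', mul_assoc]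

theorem psi_neg (h : G) {A B : ℕ} (hA : A < 48) (hB : B < 48) :
    c.psi h (negM A) (negM B) = c.psi h A B := by
  obtain ⟨hAlt, hAn, -, hAo, -, -⟩ := sPart_facts ⟨A, hA⟩
  obtain ⟨hBlt, hBn, -, -, -, -⟩ := sPart_facts ⟨B, hB⟩
  unfold psi
  simp only at hAlt hBlt hAn hBn hAo
  rw [hAn, hBn, hAo, toSL_tab (by norm_num) hAlt, toSL_tab (by norm_num) hBlt, map_mul, map_mul,
    c.neg₁, c.neg₂]
  have hz : c.z * c.ι₁ (toSL (sPart A)) = c.ι₁ (toSL (sPart A)) * c.z := by
    rw [← c.neg₂]; exact (c.comm _ _).symm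
  rw [hz, mul_assoc (c.ι₁ (toSL (sPart A))) c.z, ← mul_assoc c.z c.z, c.z_sq, one_mul]

theorem psi_norm (h : G) {A B : ℕ} (hA : A < 48) (hB : B < 48) (hAB : odd2 A = odd2 B) :
    c.psi h (fstM (norm A B)) (sndM (norm A B)) = c.psi h A B ∧ norm A B < 576 := by
  have hn := allBelow_spec (allBelow_spec norm_ok A hA) B hB
  simp only [hAB, bne_self_eq_false, Bool.false_or, Bool.and_eq_true, Bool.or_eq_true, beq_iff_eq,
    Nat.blt_eq] at hn
  refine ⟨?_, hn.1.1⟩
  rcases hn.2 with ⟨e1, e2⟩ | ⟨e1, e2⟩ <;> rw [e1, e2]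
  exact c.psi_neg h hA hB

/-- The element of a code. -/
noncomputable def elt (h : G) (x : ℕ) : G := c.psi h (fstM x) (sndM x)

theorem code_parts {x : ℕ} (hx : x < 576) : fstM x < 48 ∧ sndM x < 48 ∧ odd2 (fstM x) = odd2 (sndM x) := by
  have h := allBelow_spec code_ok x hx
  simp only [Bool.and_eq_true, Nat.blt_eq, beq_iff_eq] at h
  exact ⟨h.1.1.1, h.1.1.2, h.1.2⟩

theorem elt_mul {h : G} (hh : c.Refl h) {x y : ℕ} (hx : x < 576) (hy : y < 576) :
    c.elt h (mulC x y) = c.elt h x * c.elt h y ∧ mulC x y < 576 := by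
  obtain ⟨a1, a2, a3⟩ := code_parts hx
  obtain ⟨b1, b2, b3⟩ := code_parts hy
  have t1 := allBelow_spec (allBelow_spec tab_ok _ a1) _ b1
  have t2 := allBelow_spec (allBelow_spec tab_ok _ a2) _ b2
  simp only [Bool.and_eq_true, Nat.blt_eq, beq_iff_eq] at t1 t2
  obtain ⟨e, e'⟩ := c.psi_norm h t1.1.1.1 t2.1.1.1 (by rw [t1.1.1.2, t2.1.1.2, a3, b3])
  exact ⟨e.trans (c.psi_mul hh a1 a2 b1 b2 a3), e'⟩

theorem elt_mem {h : G} (hh : c.Refl h) (x : ℕ) : c.elt h x ∈ Ct c.z := by
  unfold elt psi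
  refine mul_mem (mul_mem (c.mem_ct₁ _) (c.mem_ct₂ _)) ?_
  split
  exacts [hh.1, one_mem _]

theorem elt_surjective {h : G} (hh : c.Refl h) {u : G} (hu : u ∈ Ct c.z) :
    ∃ x < 576, c.elt h x = u := by
  have key : ∀ (a b : ℕ), a < 24 → b < 24 → (∃ x < 576, c.elt h x = c.ι₁ (toSL a) * c.ι₂ (toSL b)) ∧
      ∃ x < 576, c.elt h x = c.ι₁ (toSL a) * c.ι₂ (toSL b) * h := by
    intro a b ha hb
    obtain ⟨-, -, -, -, -, fs⟩ := sPart_facts 0
    obtain ⟨a1, a2, a3, a4, a5⟩ := fs ⟨a, ha⟩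
    obtain ⟨b1, b2, b3, b4, b5⟩ := fs ⟨b, hb⟩
    simp only at a1 a2 a3 a4 a5 b1 b2 b3 b4 b5
    constructor
    · obtain ⟨e, e'⟩ := c.psi_norm h (A := a) (B := b) (by omega) (by omega) (a2.trans b2.symm)
      refine ⟨_, e', e.trans ?_⟩
      simp [psi, a1, a2, b1]
    · obtain ⟨e, e'⟩ := c.psi_norm h a5 b5 (a4.trans b4.symm)
      refine ⟨_, e', e.trans ?_⟩
      simp [psi, a3, a4, b3]
  by_cases hu0 : u ∈ c.H₀
  · obtain ⟨a, b, rfl⟩ := c.mem_H₀.1 hu0
    obtain ⟨a', ha, rfl⟩ := exists_number a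
    obtain ⟨b', hb, rfl⟩ := exists_number b
    exact (key a' b' ha hb).1
  · obtain ⟨a, b, hab⟩ := c.mem_H₀.1 (c.mul_mem_H₀ hu hh.1 hu0 hh.2.1)
    obtain ⟨a', ha, rfl⟩ := exists_number a
    obtain ⟨b', hb, rfl⟩ := exists_number b
    obtain ⟨x, hx, hx'⟩ := (key a' b' ha hb).2
    exact ⟨x, hx, by rw [hx', ← hab, mul_assoc, hh.2.2.1, mul_one]⟩

/-- The coordinates. -/
theorem exists_coded {h : G} (hh : c.Refl h) :
    ∃ e : Coded (Ct c.z), ∀ u : Ct c.z, c.elt h (e.code u) = (u : G) := by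
  classical
  let f : Fin 576 → Ct c.z := fun x => ⟨c.elt h x, c.elt_mem hh x⟩
  have hs : Function.Surjective f := fun u => by
    obtain ⟨x, hx, hx'⟩ := c.elt_surjective hh u.2
    exact ⟨⟨x, hx⟩, Subtype.ext hx'⟩
  have hb : Function.Bijective f :=
    Function.Surjective.bijective_of_nat_card_le hs (by rw [Nat.card_fin, c.card_ct])
  let E := Equiv.ofBijective f hb
  have hE : ∀ u, f (E.symm u) = u := fun u => E.apply_symm_apply u
  refine ⟨{ code := fun u => (E.symm u).val
            lt := fun u => (E.symm u).2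
            inj := fun u v huv => E.symm.injective (Fin.ext huv)
            surj := fun n hn => ⟨E ⟨n, hn⟩, by simp⟩
            mul := fun u v => ?_ }, fun u => congrArg Subtype.val (hE u)⟩
  obtain ⟨e, e'⟩ := c.elt_mul hh (E.symm u).2 (E.symm v).2
  have : E.symm (u * v) = ⟨_, e'⟩ := hb.1 (by
    rw [hE]
    apply Subtype.ext
    show (u : G) * v = c.elt h (mulC (E.symm u) (E.symm v))
    rw [e, show c.elt h (E.symm u) = u from congrArg Subtype.val (hE u),
      show c.elt h (E.symm v) = v from congrArg Subtype.val (hE v)])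
  exact congrArg Fin.val this

end Cfg

end CfsgLib.GTwoTwoLocal
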