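import Cfsg.Agent.Lib.GTwoTwoLocal.Invol
import Cfsg.Agent.Lib.GTwoTwoLocal.Normalise
import Cfsg.Agent.Lib.Involutions.BrauerSuzuki
import Cfsg.Agent.Lib.PCore.Basic

/-!
# The centraliser of an element of order three of one factor
-/

set_option autoImplicit false
set_option linter.unusedSectionVars false
set_option maxRecDepth 100000

namespace CfsgLib.GTwoTwoLocal

open CfsgLib.GL23 (Ct mem_Ct sq_t t_ne_one)
open Model

universe u

/-- What is needed of one factor: `a` has order three in one factor, `K` is the other factor. -/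
structure Half (G : Type u) [Group G] where
  z : G
  h : G
  a : G
  K : SL →* G
  hz : orderOf z = 2
  hh : h * h = 1
  hzh : Commute h z
  ha3 : orderOf a = 3
  hza : Commute z a
  ha : h * a * h⁻¹ = a⁻¹
  inj : Function.Injective K
  neg : K (toSL 1) = z
  comm : ∀ x, Commute a (K x)
  hK : ∀ x < 24, h * K (toSL x) * h⁻¹ = K (toSL (conjM dNum x))
  inter : ∀ x (i : ℕ), K x = a ^ i → x = 1
  cent : ∀ g, Commute g z → Commute g a → ∃ (i : ℕ) (y : SL), g = a ^ i * K y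
  card_ct : Nat.card (Ct z) = 576
  fus : ∀ x ∈ Ct z, ∀ i j : ℕ, x * a * x⁻¹ = a ^ i * K (toSL 12) ^ j → K (toSL 12) ^ j = 1
  card : Nat.card G = 4245696
  one : ∀ t : G, t * t = 1 → t ≠ 1 → IsConj z t

theorem sl_odd_facts : ∀ y : Fin 24, tab y (tab y y) = 0 → (y : ℕ) ≠ 0 → ∃ w : Fin 24,
    conjM w y < 24 ∧ tab y (conjM w y) < 24 ∧
    tab (tab y (conjM w y)) (tab (tab y (conjM w y)) (tab y (conjM w y))) ≠ 0 := by
  decide +kernel

namespace Half

variable {G : Type u} [Group G] [Finite G] (d : Half G)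

/-- The element of order three of the other factor. -/
def b : G := d.K (toSL 12)

theorem z_sq : d.z * d.z = 1 := sq_t d.hz

theorem z_ne : d.z ≠ 1 := t_ne_one d.hz

theorem h_inv : d.h⁻¹ = d.h := inv_eq_of_mul_eq_one_right d.hh

theorem z_inv : d.z⁻¹ = d.z := inv_eq_of_mul_eq_one_right d.z_sq

theorem a_cube : d.a ^ 3 = 1 := by rw [← d.ha3]; exact pow_orderOf_eq_one _

theorem a_ne : d.a ≠ 1 := fun h => by
  have := d.ha3
  rw [h, orderOf_one] at this
  norm_num at this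

theorem a_mem_Ct : d.a ∈ Ct d.a := mem_Ct.2 rfl

theorem z_mem_Ct : d.z ∈ Ct d.a := mem_Ct.2 d.hza

theorem K_mem_Ct (x : SL) : d.K x ∈ Ct d.a := mem_Ct.2 (d.comm x).symm

theorem K_comm_z (x : SL) : Commute (d.K x) d.z := by
  rw [← d.neg, Commute, SemiconjBy, ← map_mul, ← map_mul, neg_comm]

theorem a_pow_cases (i : ℕ) : d.a ^ i = 1 ∨ d.a ^ i = d.a ∨ d.a ^ i = d.a⁻¹ := by
  rw [← pow_mod_orderOf, d.ha3]
  have : i % 3 < 3 := Nat.mod_lt _ (by norm_num)
  interval_cases i % 3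
  · exact Or.inl (pow_zero _)
  · exact Or.inr (Or.inl (pow_one _))
  · right; right
    refine eq_inv_of_mul_eq_one_left ?_
    rw [← pow_succ]; exact d.a_cube

/-- An element of `⟨a⟩ × K` with square one. -/
theorem involution_eq {g : G} (hgz : Commute g d.z) (hga : Commute g d.a) (h2 : g * g = 1) :
    g = 1 ∨ g = d.z := by
  obtain ⟨i, y, rfl⟩ := d.cent g hgz hga
  have hc : Commute (d.a ^ i) (d.K y) := (d.comm y).pow_left i
  rw [← pow_two, hc.mul_pow, ← map_pow, ← pow_mul] at h2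
  have h2' : d.K (y ^ 2) = d.a ^ (i * 2 * 2) := by
    rw [eq_inv_of_mul_eq_one_right h2]
    refine inv_eq_of_mul_eq_one_right ?_
    rw [← pow_add, show i * 2 + i * 2 * 2 = 3 * (i * 2) by ring, pow_mul, d.a_cube, one_pow]
  have hy := d.inter _ _ h2'
  rw [hy, map_one, mul_one] at h2
  have hi : d.a ^ i = 1 := by
    calc d.a ^ i = d.a ^ i * d.a ^ (i * 2) := by rw [h2, mul_one]
      _ = 1 := by rw [← pow_add, show i + i * 2 = 3 * i by ring, pow_mul, d.a_cube, one_pow]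
  rw [hi, one_mul]
  rcases sl_sq (show y * y = 1 by rw [← pow_two]; exact hy) with e | e <;> rw [e]
  · exact Or.inl (map_one _)
  · exact Or.inr d.neg

theorem exists_sylow_cent : ∀ T : Sylow 2 (Ct d.a), ∃ c : Ct d.a, ∀ t ∈ (T : Subgroup (Ct d.a)),
    t * t = 1 → t = 1 ∨ t = c := by
  intro T
  have : Fact (Nat.Prime 2) := ⟨Nat.prime_two⟩
  let zz : Ct d.a := ⟨d.z, d.z_mem_Ct⟩
  have hzz : IsPGroup 2 (Subgroup.zpowers zz) := IsPGroup.of_card (n := 1) (by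
    rw [Nat.card_zpowers, pow_one, ← Subgroup.orderOf_coe, d.hz])
  obtain ⟨T', hT'⟩ := hzz.exists_le_sylow
  have hzT : zz ∈ (T' : Subgroup (Ct d.a)) := hT' (Subgroup.mem_zpowers _)
  have hnt : Nontrivial (T' : Subgroup (Ct d.a)) :=
    ⟨⟨⟨zz, hzT⟩, 1, fun h => d.z_ne (congrArg (fun u : (T' : Subgroup (Ct d.a)) => ((u : Ct d.a) : G)) h)⟩⟩
  have := T'.2.center_nontrivial
  obtain ⟨j, hj⟩ := IsPGroup.iff_card.1 (T'.2.to_subgroup (Subgroup.center (T' : Subgroup (Ct d.a))))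
  have hj0 : j ≠ 0 := fun h => by
    rw [h, pow_zero] at hj
    have := Finite.one_lt_card (α := Subgroup.center (T' : Subgroup (Ct d.a)))
    omega
  obtain ⟨e, he⟩ := exists_prime_orderOf_dvd_card' (G := Subgroup.center (T' : Subgroup (Ct d.a))) 2
    (hj ▸ dvd_pow_self 2 hj0)
  have hec : ∀ t ∈ (T' : Subgroup (Ct d.a)), Commute ((e : (T' : Subgroup (Ct d.a))) : Ct d.a) t :=
    fun t ht => (congrArg Subtype.val (Subgroup.mem_center_iff.1 e.2 ⟨t, ht⟩)).symm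
  have he2 : ((e : (T' : Subgroup (Ct d.a))) : G) * ((e : (T' : Subgroup (Ct d.a))) : G) = 1 := by
    have := pow_orderOf_eq_one e
    rw [he, pow_two] at this
    exact congrArg (fun u : Subgroup.center (T' : Subgroup (Ct d.a)) =>
      ((u : (T' : Subgroup (Ct d.a))) : G)) this
  have he1 : ((e : (T' : Subgroup (Ct d.a))) : G) ≠ 1 := fun h => by
    have : e = 1 := Subtype.ext (Subtype.ext (Subtype.ext h))
    rw [this, orderOf_one] at he
    norm_num at he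
  have hez : ((e : (T' : Subgroup (Ct d.a))) : G) = d.z :=
    (d.involution_eq (congrArg Subtype.val (hec zz hzT)) (mem_Ct.1 (e : Ct d.a).2) he2).resolve_left he1
  have huniq : ∀ t ∈ (T' : Subgroup (Ct d.a)), t * t = 1 → t = 1 ∨ t = zz := by
    intro t ht h2
    have hc : Commute (t : G) d.z := by rw [← hez]; exact (congrArg Subtype.val (hec t ht)).symm
    rcases d.involution_eq hc (mem_Ct.1 t.2) (congrArg Subtype.val h2) with a | a
    exacts [Or.inl (Subtype.ext a), Or.inr (Subtype.ext a)]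
  obtain ⟨g, hg⟩ := MulAction.exists_smul_eq (Ct d.a) T T'
  refine ⟨g⁻¹ * zz * g, fun t ht h2 => ?_⟩
  have hmem : g * t * g⁻¹ ∈ (T' : Subgroup (Ct d.a)) := by rw [← hg]; exact ⟨t, ht, rfl⟩
  rcases huniq _ hmem (by rw [conj_mul, h2, mul_one, mul_inv_cancel]) with a | a
  · exact Or.inl (conj_eq_one_iff.1 a)
  · right; rw [← a]; group

theorem isolated : Cfsg.IsIsolatedInvolution (⟨d.z, d.z_mem_Ct⟩ : Ct d.a) := by
  refine ⟨by rw [← Subgroup.orderOf_coe]; exact d.hz, fun g hc => Subtype.ext ?_⟩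
  have hc' : Commute (g * (⟨d.z, d.z_mem_Ct⟩ : Ct d.a) * g⁻¹ : G) d.z := (congrArg Subtype.val hc).symm
  refine (d.involution_eq hc' (mem_Ct.1 (g * ⟨d.z, d.z_mem_Ct⟩ * g⁻¹ : Ct d.a).2) ?_).resolve_left ?_
  · simp only [Subgroup.coe_inv]
    rw [conj_mul, d.z_sq, mul_one, mul_inv_cancel]
  · exact fun a => d.z_ne (conj_eq_one_iff.1 a)

/-- All involutions of the centraliser are conjugate there. -/
theorem conj_of_involution {t : G} (ht : Commute t d.a) (h2 : t * t = 1) (h1 : t ≠ 1) :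
    ∃ g, Commute g d.a ∧ g * t * g⁻¹ = d.z := by
  have : Fact (Nat.Prime 2) := ⟨Nat.prime_two⟩
  let t' : Ct d.a := ⟨t, mem_Ct.2 ht⟩
  let zz : Ct d.a := ⟨d.z, d.z_mem_Ct⟩
  have hP : ∀ {v : Ct d.a}, v * v = 1 → v ≠ 1 → IsPGroup 2 (Subgroup.zpowers v) := fun {v} a b =>
    IsPGroup.of_card (n := 1) (by
      rw [Nat.card_zpowers, pow_one]; exact orderOf_eq_prime (by rw [pow_two, a]) b)
  have tne : t' ≠ 1 := fun a => h1 (congrArg Subtype.val a)
  have zne : zz ≠ 1 := fun a => d.z_ne (congrArg Subtype.val a)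
  obtain ⟨T, hT⟩ := (hP (v := t') (Subtype.ext h2) tne).exists_le_sylow
  obtain ⟨T', hT'⟩ := (hP (v := zz) (Subtype.ext d.z_sq) zne).exists_le_sylow
  obtain ⟨g, hg⟩ := MulAction.exists_smul_eq (Ct d.a) T T'
  obtain ⟨e, he⟩ := d.exists_sylow_cent T'
  have hz' := (he zz (hT' (Subgroup.mem_zpowers _)) (Subtype.ext d.z_sq)).resolve_left zne
  have hmem : g * t' * g⁻¹ ∈ (T' : Subgroup (Ct d.a)) := by
    rw [← hg]; exact ⟨t', hT (Subgroup.mem_zpowers _), rfl⟩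
  have hw := (he _ hmem (by rw [conj_mul, show t' * t' = 1 from Subtype.ext h2, mul_one, mul_inv_cancel])
    ).resolve_left (fun a => tne (conj_eq_one_iff.1 a))
  exact ⟨g, mem_Ct.1 g.2, congrArg Subtype.val (hw.trans hz'.symm)⟩

/-- Fusion of `a` is controlled by the centraliser of `z`. -/
theorem fusion {g y : G} (hy : Commute d.z y) (hg : g * d.a * g⁻¹ = y) :
    ∃ x ∈ Ct d.z, x * d.a * x⁻¹ = y := by
  have ha' : d.a = g⁻¹ * y * g := by rw [← hg]; group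
  have ht : Commute (g⁻¹ * d.z * g) d.a := by
    show g⁻¹ * d.z * g * d.a = d.a * (g⁻¹ * d.z * g)
    rw [ha']
    calc g⁻¹ * d.z * g * (g⁻¹ * y * g) = g⁻¹ * (d.z * y) * g := by group
      _ = g⁻¹ * (y * d.z) * g := by rw [hy.eq]
      _ = _ := by group
  obtain ⟨k, hk, hkz⟩ := d.conj_of_involution ht
    (by rw [show g⁻¹ * d.z * g * (g⁻¹ * d.z * g) = g⁻¹ * (d.z * d.z) * g by group, d.z_sq]; group)
    (fun e => d.z_ne (by
      calc d.z = g * (g⁻¹ * d.z * g) * g⁻¹ := by group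
        _ = 1 := by rw [e]; group))
  refine ⟨g * k⁻¹, mem_Ct.2 (mul_inv_eq_iff_eq_mul.1 ?_), ?_⟩
  · calc g * k⁻¹ * d.z * (g * k⁻¹)⁻¹ = g * k⁻¹ * (k * (g⁻¹ * d.z * g) * k⁻¹) * (g * k⁻¹)⁻¹ := by rw [hkz]
      _ = d.z := by group
  · calc g * k⁻¹ * d.a * (g * k⁻¹)⁻¹ = g * (k⁻¹ * d.a * k) * g⁻¹ := by group
      _ = y := by rw [hk.inv_left.eq, inv_mul_cancel_right, hg]

/-- `a` is conjugate to no element of `⟨a, b⟩` outside `⟨a⟩`. -/
theorem fusion_ab {g : G} {i j : ℕ} (hg : g * d.a * g⁻¹ = d.a ^ i * d.b ^ j) : d.b ^ j = 1 := by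
  have hy : Commute d.z (d.a ^ i * d.b ^ j) :=
    (d.hza.pow_right i).mul_right (((d.K_comm_z _).symm).pow_right j)
  obtain ⟨x, hx, hx'⟩ := d.fusion hy hg
  exact d.fus x hx i j hx'

/-- The odd core of the centraliser. -/
noncomputable def O : Subgroup G := (Cfsg.pPrimeCore 2 (Ct d.a)).map (Ct d.a).subtype

theorem O_le : d.O ≤ Ct d.a := Subgroup.map_subtype_le _

theorem O_odd : Odd (Nat.card d.O) := by
  have : Fact (Nat.Prime 2) := ⟨Nat.prime_two⟩
  rw [O, Subgroup.card_subtype, ← Nat.not_even_iff_odd, even_iff_two_dvd]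
  exact CfsgLib.PCore.not_dvd_card_pPrimeCore

theorem mem_O {x : G} : x ∈ d.O ↔ ∃ hx : x ∈ Ct d.a, (⟨x, hx⟩ : Ct d.a) ∈ Cfsg.pPrimeCore 2 (Ct d.a) :=
  ⟨fun ⟨y, hy, e⟩ => ⟨e ▸ y.2, by
    have : (⟨x, e ▸ y.2⟩ : Ct d.a) = y := Subtype.ext e.symm
    rw [this]; exact hy⟩, fun ⟨hx, h⟩ => ⟨⟨x, hx⟩, h, rfl⟩⟩

theorem O_normal {g x : G} (hg : g ∈ Ct d.a) (hx : x ∈ d.O) : g * x * g⁻¹ ∈ d.O := by
  obtain ⟨hx', h⟩ := d.mem_O.1 hx
  have hn : (Cfsg.pPrimeCore 2 (Ct d.a)).Normal := inferInstance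
  exact d.mem_O.2 ⟨mul_mem (mul_mem hg hx') (inv_mem hg), hn.conj_mem _ h ⟨g, hg⟩⟩

theorem a_mem_O : d.a ∈ d.O := by
  have : Fact (Nat.Prime 2) := ⟨Nat.prime_two⟩
  let aa : Ct d.a := ⟨d.a, d.a_mem_Ct⟩
  have hc : ∀ g : Ct d.a, Commute g aa := fun g => Subtype.ext (mem_Ct.1 g.2)
  have hn : (Subgroup.zpowers aa).Normal := ⟨fun x hx g => by
    obtain ⟨k, rfl⟩ := Subgroup.mem_zpowers_iff.1 hx
    rw [((hc g).zpow_right k).eq, mul_inv_cancel_right]
    exact hx⟩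
  have hle := CfsgLib.PCore.le_pPrimeCore_of_not_dvd (p := 2) hn (by
    rw [Nat.card_zpowers, ← Subgroup.orderOf_coe, d.ha3]; norm_num)
  exact d.mem_O.2 ⟨d.a_mem_Ct, hle (Subgroup.mem_zpowers aa)⟩

theorem K_inter_O {x : SL} (hx : d.K x ∈ d.O) : x = 1 := by
  obtain ⟨n, hn, rfl⟩ := exists_number x
  have hcube : ∀ y : SL, d.K y ∈ d.O → y * (y * y) = 1 := by
    intro y hy
    have hodd := odd_orderOf d.O_odd hy
    rw [orderOf_injective d.K d.inj] at hodd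
    have h24 : orderOf y ∣ 24 := by rw [← Cfg.card_SL]; exact orderOf_dvd_natCard y
    have h3 : orderOf y ∣ 3 := by
      rw [show (24 : ℕ) = 8 * 3 from rfl] at h24
      refine Nat.Coprime.dvd_of_dvd_mul_left ?_ h24
      exact Nat.Coprime.pow_right 3 (Nat.coprime_two_right.2 hodd)
    have := orderOf_dvd_iff_pow_eq_one.1 h3
    rw [pow_succ', pow_two] at this
    exact this
  have h3 : tab n (tab n n) = 0 := by
    apply toSL_injective (tab_lt hn (tab_lt hn hn)) (by norm_num)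
    rw [toSL_tab hn (tab_lt hn hn), toSL_tab hn hn, toSL_zero]
    exact hcube _ hx
  by_contra hne
  have hn0 : n ≠ 0 := fun h => hne (by rw [h, toSL_zero])
  obtain ⟨w, hw, hp, hbad⟩ := sl_odd_facts ⟨n, hn⟩ h3 hn0
  obtain ⟨hw', hwe⟩ := (num_facts w).2.2.2.2.2.2 ⟨n, hn⟩
  have hconj : toSL (conjM w n) = toSL w * toSL n * (toSL w)⁻¹ := by
    rw [eq_mul_inv_iff_mul_eq, ← toSL_tab hw' w.2, ← toSL_tab w.2 hn]
    exact congrArg toSL hwe
  have hmem : d.K (toSL (tab n (conjM w n))) ∈ d.O := by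
    rw [toSL_tab hn hw', map_mul, hconj, map_mul, map_mul, map_inv]
    exact mul_mem hx (d.O_normal (d.K_mem_Ct _) hx)
  refine hbad (toSL_injective (tab_lt hp (tab_lt hp hp)) (by norm_num) ?_)
  rw [toSL_tab hp (tab_lt hp hp), toSL_tab hp hp, toSL_zero]
  exact hcube _ hmem

theorem fix_z {x : G} (hx : x ∈ d.O) (hz : d.z * x * d.z = x) : x ∈ Subgroup.zpowers d.a := by
  have hc : Commute x d.z := by
    show x * d.z = d.z * x
    conv_rhs => rw [← hz]
    rw [← mul_assoc, ← mul_assoc, d.z_sq, one_mul]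
  obtain ⟨i, y, rfl⟩ := d.cent x hc (mem_Ct.1 (d.O_le hx))
  have hy : d.K y ∈ d.O := by
    have := mul_mem (inv_mem (pow_mem d.a_mem_O i)) hx
    rwa [inv_mul_cancel_left] at this
  rw [d.K_inter_O hy, map_one, mul_one]
  exact pow_mem (Subgroup.mem_zpowers _) i

theorem inverting : Inverting d.O (Subgroup.zpowers d.a) d.z where
  odd := d.O_odd
  sq := d.z_sq
  norm x hx := by
    have := d.O_normal d.z_mem_Ct hx
    rwa [d.z_inv] at this
  le := Subgroup.zpowers_le.2 d.a_mem_O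
  central c hc x hx := by
    obtain ⟨k, rfl⟩ := Subgroup.mem_zpowers_iff.1 hc
    exact (Commute.zpow_left (mem_Ct.1 (d.O_le hx)).symm k).eq
  fix x hx hz := d.fix_z hx hz
  cent c hc := by
    obtain ⟨k, rfl⟩ := Subgroup.mem_zpowers_iff.1 hc
    rw [(d.hza.zpow_right k).eq, mul_assoc, d.z_sq, mul_one]

/-- The centraliser is the core times the other factor. -/
theorem decomposition {g : G} (hg : g ∈ Ct d.a) : ∃ o ∈ d.O, ∃ y, g = o * d.K y := by
  have : Fact (Nat.Prime 2) := ⟨Nat.prime_two⟩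
  have hstar := CfsgLib.Involutions.zstar (Ct d.a) _ d.isolated ⟨g, hg⟩
  have hw : g * d.z * g⁻¹ * d.z ∈ d.O := by
    have h := d.mem_O.2 ⟨_, hstar⟩
    simpa [d.z_inv] using h
  obtain ⟨w, hwdef⟩ : ∃ w, w = g * d.z * g⁻¹ * d.z := ⟨_, rfl⟩
  rw [← hwdef] at hw
  have hwinv : d.z * w * d.z = w⁻¹ := by
    refine eq_inv_of_mul_eq_one_left ?_
    rw [hwdef]
    have hzz : ∀ y, d.z * (d.z * y) = y := fun y => by rw [← mul_assoc, d.z_sq, one_mul]
    simp [mul_assoc, d.z_sq, hzz]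
  obtain ⟨m, hm⟩ := odd_orderOf d.O_odd hw
  have hr : w ^ (m + 1) * w ^ (m + 1) = w := by
    rw [← pow_add, show m + 1 + (m + 1) = orderOf w + 1 by omega, pow_succ, pow_orderOf_eq_one, one_mul]
  have hpow : ∀ n : ℕ, d.z * w ^ n * d.z = (w ^ n)⁻¹ := fun n => by
    induction n with
    | zero => simp [d.z_sq]
    | succ n ih => rw [pow_succ, d.inverting.conj_mul_u, ih, hwinv, ← mul_inv_rev, ← pow_succ', ← pow_succ]
  obtain ⟨r, hrdef⟩ : ∃ r, r = w ^ (m + 1) := ⟨_, rfl⟩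
  have hrO : r ∈ d.O := hrdef ▸ pow_mem hw _
  rw [← hrdef] at hr
  have hzr : d.z * r⁻¹ * d.z = r := by
    rw [d.inverting.conj_inv_u, hrdef, hpow, inv_inv]
  have hcz : Commute (r⁻¹ * g) d.z := by
    refine mul_inv_eq_iff_eq_mul.1 ?_
    calc r⁻¹ * g * d.z * (r⁻¹ * g)⁻¹ = r⁻¹ * (g * d.z * g⁻¹ * d.z) * (d.z * r) := by
          rw [show r⁻¹ * (g * d.z * g⁻¹ * d.z) * (d.z * r) = r⁻¹ * (g * d.z * g⁻¹) * (d.z * d.z) * r by group,
            d.z_sq]
          group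
      _ = r⁻¹ * (r * r) * (d.z * r) := by rw [← hwdef, hr]
      _ = r * (d.z * r) := by rw [inv_mul_cancel_left]
      _ = (d.z * r⁻¹ * d.z) * (d.z * r) := by rw [hzr]
      _ = d.z := by
          rw [show d.z * r⁻¹ * d.z * (d.z * r) = d.z * r⁻¹ * (d.z * d.z) * r by group, d.z_sq]
          group
  obtain ⟨i, y, hy⟩ := d.cent (r⁻¹ * g) hcz (mem_Ct.1 (mul_mem (inv_mem (d.O_le hrO)) hg))
  refine ⟨r * d.a ^ i, mul_mem hrO (pow_mem d.a_mem_O i), y, ?_⟩
  rw [mul_assoc, ← hy, mul_inv_cancel_left]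

theorem card_Ct_a : Nat.card (Ct d.a) = Nat.card d.O * 24 := by
  let f : d.O × SL → Ct d.a := fun p => ⟨p.1 * d.K p.2, mul_mem (d.O_le p.1.2) (d.K_mem_Ct p.2)⟩
  have hf : Function.Bijective f := by
    constructor
    · rintro ⟨o, x⟩ ⟨o', x'⟩ he
      have he' : (o : G) * d.K x = (o' : G) * d.K x' := congrArg Subtype.val he
      have hm : d.K (x * x'⁻¹) ∈ d.O := by
        rw [map_mul, map_inv, show d.K x = (o : G)⁻¹ * ((o' : G) * d.K x') by rw [← he']; group]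
        rw [mul_assoc, mul_assoc (o' : G), mul_inv_cancel, mul_one]
        exact mul_mem (inv_mem o.2) o'.2
      have := mul_inv_eq_one.1 (d.K_inter_O hm)
      subst this
      exact Prod.ext (Subtype.ext (mul_right_cancel he')) rfl
    · intro g
      obtain ⟨o, ho, y, hy⟩ := d.decomposition g.2
      exact ⟨(⟨o, ho⟩, y), Subtype.ext hy.symm⟩
  rw [← Nat.card_eq_of_bijective f hf, Nat.card_prod, Cfg.card_SL]

end Half

end CfsgLib.GTwoTwoLocal
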