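import Cfsg.Agent.Lib.GTwoTwoLocal.Coeff
import Cfsg.Agent.Lib.GTwoTwoLocal.Arith

/-!
# The order of the group
-/

set_option autoImplicit false
set_option maxRecDepth 100000
set_option linter.unusedSectionVars false

namespace CfsgLib.GTwoTwoLocal

open Cfsg CfsgLib.Characters Model
open Search (gram trc qL ordL colOf dot valCol target support)
open CfsgLib.GL23 (Ct tC mem_Ct sq_t t_ne_one)
open scoped ComplexConjugate

theorem dot_colOf {ι : Type*} (m : ℕ → ι → ℤ) (p : ι × ℤ) : ∀ (q : List ℤ),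
    q.length = 11 → dot q (colOf m 11 p) = p.2 * ∑ a ∈ Finset.range 11, q.getD a 0 * m a p.1 := by
  intro q hq
  match q, hq with
  | [q0, q1, q2, q3, q4, q5, q6, q7, q8, q9, q10], _ =>
    simp only [colOf, show List.range 11 = [0, 1, 2, 3, 4, 5, 6, 7, 8, 9, 10] from rfl, List.map_cons,
      List.map_nil, dot, Finset.sum_range_succ, Finset.sum_range_zero, List.getD_cons_succ,
      List.getD_cons_zero]
    ring

theorem qL_length : allBelow 11 (fun i => (qL.getD i []).length == 11) = true := by decide +kernel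

variable {G : Type*} [Group G] [Fintype G] {z : G} (e : Coded ↥(Ct z))

/-- The degree of an irreducible character. -/
noncomputable def deg (χ : IrrCharacter G) : ℕ := Classical.choose (irr_degree_dvd_card χ)

theorem deg_spec (χ : IrrCharacter G) :
    (χ : G → ℂ) 1 = deg χ ∧ 0 < deg χ ∧ deg χ ∣ Nat.card G :=
  Classical.choose_spec (irr_degree_dvd_card χ)

theorem deg_sq_le (χ : IrrCharacter G) : deg χ * deg χ ≤ Nat.card G := by
  classical
  have h := column_orth (G := G) 1 1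
  rw [if_pos (IsConj.refl 1)] at h
  have hc : Nat.card (Subgroup.centralizer ({1} : Set G)) = Nat.card G := by
    rw [show Subgroup.centralizer ({1} : Set G) = ⊤ from eq_top_iff.2 fun g _ =>
      Subgroup.mem_centralizer_singleton_iff.2 (by simp), Subgroup.card_top]
  rw [hc] at h
  simp only [fun χ : IrrCharacter G => (deg_spec χ).1, map_natCast] at h
  have h' : ∑ χ : IrrCharacter G, deg χ * deg χ = Nat.card G := by exact_mod_cast h
  rw [← h']
  exact Finset.single_le_sum (f := fun χ => deg χ * deg χ) (fun χ _ => Nat.zero_le _) (Finset.mem_univ χ)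

theorem deg_principal : deg (principalIrr G) = 1 := by
  have h := (deg_spec (principalIrr G)).1
  rw [principalIrr_apply] at h
  exact_mod_cast h.symm

/-- A signed character with the values of a column of the target. -/
structure Constituent (i : ℕ) where
  χ : IrrCharacter G
  s : ℤ
  hs : s = 1 ∨ s = -1
  coef : ∀ a < 11, s * newCoeff e a χ = (target.getD i []).getD a 0
  vals : ∀ k < 11, conj (classVal e (χ : G → ℂ) k) = ((s * valCol (target.getD i []) k : ℤ) : ℂ)

variable (hz : orderOf z = 2) (hone : ∀ a : G, a * a = 1 → a ≠ 1 → IsConj z a)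

include hz hone in
/-- The three constituents. -/
theorem exists_constituents :
    ∃ c₀ : Constituent e 0, ∃ c₁ : Constituent e 1, ∃ c₂ : Constituent e 2,
      c₀.χ ≠ principalIrr G ∧ c₁.χ ≠ principalIrr G ∧ c₂.χ ≠ principalIrr G ∧
      c₀.χ ≠ c₁.χ ∧ c₀.χ ≠ c₂.χ ∧ c₁.χ ≠ c₂.χ ∧
      ∀ χ, χ ≠ principalIrr G → χ ≠ c₀.χ → χ ≠ c₁.χ → χ ≠ c₂.χ → newCoeff e 1 χ = 0 := by
  classical
  obtain ⟨S, ⟨⟨l, hnd, hnm, hsg, rfl, hz0⟩⟩, hsup⟩ :=
    Search.realised_final (m := newCoeff e) (P := principalIrr G)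
      (fun a b ha hb => newCoeff_gram e hz hone ha hb) (fun a ha => newCoeff_principal e hz hone ha)
  rw [support, List.filter_map] at hsup
  set L := l.filter ((fun c => c.getD 1 0 != 0) ∘ colOf (newCoeff e) 11) with hL
  have hlen : L.length = 3 := by
    have := congrArg List.length hsup
    rwa [List.length_map] at this
  obtain ⟨p₀, p₁, p₂, hp⟩ := List.length_eq_three.1 hlen
  rw [hp, List.map_cons, List.map_cons, List.map_cons, List.map_nil] at hsup
  have hsubl : L.Sublist l := hL ▸ List.filter_sublist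
  have hndL := hnd.sublist (hsubl.map Prod.fst)
  rw [hp] at hndL
  simp only [List.map_cons, List.map_nil, List.nodup_cons, List.mem_cons, List.not_mem_nil,
    or_false, not_or] at hndL
  have hmem : ∀ p ∈ L, p ∈ l := fun p hp' => hsubl.subset hp'
  have mk : ∀ (i : ℕ) (p : IrrCharacter G × ℤ), p ∈ L → target.getD i [] = colOf (newCoeff e) 11 p →
      ∃ c : Constituent e i, c.χ = p.1 := by
    intro i p hpL hti
    refine ⟨⟨p.1, p.2, hsg p (hmem p hpL), ?_, ?_⟩, rfl⟩
    · intro a ha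
      rw [hti, colOf, List.getD_eq_getElem _ _ (by simpa using ha)]
      simp
    · intro k hk
      rw [conj_classVal e hz hone hk]
      have hq := beq_iff_eq.1 (allBelow_spec qL_length k hk)
      have hss : p.2 * p.2 = 1 := by rcases hsg p (hmem p hpL) with e' | e' <;> rw [e'] <;> rfl
      rw [valCol, hti, dot_colOf _ _ _ hq, ← mul_assoc, hss, one_mul]
      push_cast
      rfl
  have htar : ∀ i, target.getD i [] = [colOf (newCoeff e) 11 p₀, colOf (newCoeff e) 11 p₁,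
      colOf (newCoeff e) 11 p₂].getD i [] := fun i => by rw [hsup]
  obtain ⟨c₀, hc₀⟩ := mk 0 p₀ (by rw [hp]; simp) (htar 0)
  obtain ⟨c₁, hc₁⟩ := mk 1 p₁ (by rw [hp]; simp) (htar 1)
  obtain ⟨c₂, hc₂⟩ := mk 2 p₂ (by rw [hp]; simp) (htar 2)
  have hne : ∀ p ∈ L, p.1 ≠ principalIrr G := fun p hpL h =>
    hnm (h ▸ List.mem_map.2 ⟨p, hmem p hpL, rfl⟩)
  refine ⟨c₀, c₁, c₂, ?_, ?_, ?_, ?_, ?_, ?_, ?_⟩
  · rw [hc₀]; exact hne p₀ (by rw [hp]; simp)
  · rw [hc₁]; exact hne p₁ (by rw [hp]; simp)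
  · rw [hc₂]; exact hne p₂ (by rw [hp]; simp)
  · rw [hc₀, hc₁]; exact hndL.1.1
  · rw [hc₀, hc₂]; exact hndL.1.2
  · rw [hc₁, hc₂]; exact hndL.2.1
  · intro χ hP h0 h1 h2
    by_cases hin : χ ∈ l.map Prod.fst
    · obtain ⟨q, hq, rfl⟩ := List.mem_map.1 hin
      by_contra hne0
      have hqL : q ∈ L := by
        rw [hL, List.mem_filter]
        refine ⟨hq, ?_⟩
        have hqs : q.2 ≠ 0 := by rcases hsg q hq with e' | e' <;> omega
        simp [colOf, show List.range 11 = [0, 1, 2, 3, 4, 5, 6, 7, 8, 9, 10] from rfl, hne0, hqs]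
      rw [hp] at hqL
      simp only [List.mem_cons, List.not_mem_nil, or_false] at hqL
      rcases hqL with rfl | rfl | rfl
      exacts [h0 hc₀.symm, h1 hc₁.symm, h2 hc₂.symm]
    · exact hz0 χ hP hin 1 (by norm_num)

include hz hone in
/-- Degree congruences and bounds. -/
theorem constituent_bounds {i : ℕ} (hi : i < 3) (c : Constituent e i) :
    ∀ n ∈ [20, 21, 22], ∃ m : ℕ, c.s * (9 * (c.s * (deg c.χ : ℤ)) + tSum i n) = 576 * (m : ℤ) := by
  intro n hn
  have hn23 : n < 23 := by simp only [List.mem_cons, List.not_mem_nil, or_false] at hn; omega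
  obtain ⟨m, hm⟩ := inner_mon e c.χ hn23
  refine ⟨m, ?_⟩
  obtain ⟨f12, f13, f14, f15⟩ := classVal_fused e hz hone (irr_classFun c.χ)
  have hfused := beq_iff_eq.1 (allBelow_spec target_fused i hi)
  have hsupp := allBelow_spec mon_support.1 (n - 20) (by simp only [List.mem_cons, List.not_mem_nil, or_false] at hn; omega)
  rw [show 20 + (n - 20) = n by simp only [List.mem_cons, List.not_mem_nil, or_false] at hn; omega] at hsupp
  simp only [Bool.and_eq_true, beq_iff_eq] at hsupp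
  obtain ⟨⟨⟨⟨a11, a16⟩, a17⟩, a18⟩, a19⟩ := hsupp
  have hterm : ∀ k < 20, (size k : ℂ) * ((valF n k : ℂ) * conj (classVal e (c.χ : G → ℂ) k)) =
      (((size k : ℤ) * if k = 11 then 9 * (deg c.χ : ℤ) else c.s * (valF n k * tVal i k) : ℤ) : ℂ) := by
    intro k hk
    have h14 : ∀ j, (classVal e (c.χ : G → ℂ) j = classVal e (c.χ : G → ℂ) 3 ∨
        classVal e (c.χ : G → ℂ) j = classVal e (c.χ : G → ℂ) 8) →
        conj (classVal e (c.χ : G → ℂ) j) = ((c.s * valCol (target.getD i []) 3 : ℤ) : ℂ) := by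
      intro j hj
      rcases hj with h | h <;> rw [h]
      · exact c.vals 3 (by norm_num)
      · rw [c.vals 8 (by norm_num), hfused]
    split_ifs with h11
    · subst h11
      rw [classVal_one e (irr_classFun c.χ), (deg_spec c.χ).1, a11, map_natCast]
      push_cast; ring
    by_cases hlt : k < 11
    · rw [c.vals k hlt, tVal, if_pos hlt]; push_cast; ring
    interval_cases k
    · exact absurd rfl h11
    · rw [f12, c.vals 10 (by norm_num), tVal, if_neg (by norm_num)]; simp; left; ring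
    · rw [f13, c.vals 10 (by norm_num), tVal, if_neg (by norm_num)]; simp; left; ring
    · rw [h14 14 f14, tVal, if_neg (by norm_num)]; simp; left; ring
    · rw [h14 15 f15, tVal, if_neg (by norm_num)]; simp; left; ring
    · rw [a16]; simp
    · rw [a17]; simp
    · rw [a18]; simp
    · rw [a19]; simp
  rw [Finset.sum_congr rfl fun k hk => hterm k (Finset.mem_range.1 hk), ← Int.cast_sum] at hm
  have hm' : ∑ k ∈ Finset.range 20, (size k : ℤ) *
      (if k = 11 then 9 * (deg c.χ : ℤ) else c.s * (valF n k * tVal i k)) = 576 * (m : ℤ) := by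
    exact_mod_cast hm
  rw [← hm', tSum, Coded.csum_eq, mul_add, Finset.mul_sum]
  have hs2 : c.s * c.s = 1 := by rcases c.hs with h | h <;> rw [h] <;> rfl
  rw [← Finset.add_sum_erase _ _ (Finset.mem_range.2 (show 11 < 20 by norm_num)),
    ← Finset.add_sum_erase _ _ (Finset.mem_range.2 (show 11 < 20 by norm_num))]
  simp only [beq_self_eq_true, if_true, mul_zero, zero_add, size_eleven, Nat.cast_one, one_mul]
  congr 1
  · linear_combination 9 * (deg c.χ : ℤ) * hs2
  · refine Finset.sum_congr rfl fun k hk => ?_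
    have hk11 := (Finset.mem_erase.1 hk).1
    rw [if_neg hk11, if_neg (by simpa using hk11)]
    ring

include hz hone in
/-- The order of the group, and a character of degree `91` with known values. -/
theorem order_and_char {N : ℕ} (hN : Nat.card G = 576 * N) (hodd : N % 2 = 1) (h7 : 7 ∣ N) :
    Nat.card G = 4245696 ∧ ∃ χ : IrrCharacter G, (χ : G → ℂ) 1 = 91 ∧
      ∀ k < 11, classVal e (χ : G → ℂ) k = ((valCol (target.getD 0 []) k : ℤ) : ℂ) := by
  classical
  obtain ⟨c₀, c₁, c₂, n0, n1, n2, d01, d02, d12, hrest⟩ := exists_constituents e hz hone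
  have t0 := c₀.coef 1 (by norm_num)
  have t1 := c₁.coef 1 (by norm_num)
  have t2 := c₂.coef 1 (by norm_num)
  simp only [target, List.getD_cons_succ, List.getD_cons_zero] at t0 t1 t2
  have hP1 := newCoeff_principal e hz hone (show 1 < 11 by norm_num)
  have sgn : ∀ {i : ℕ} (c : Constituent e i) {r : ℤ}, c.s * newCoeff e 1 c.χ = r →
      newCoeff e 1 c.χ = c.s * r := by
    intro i c r h; rcases c.hs with hs | hs <;> rw [hs] at h ⊢ <;> omega
  have expand : ∀ w : IrrCharacter G → ℂ, ∑ χ, (newCoeff e 1 χ : ℂ) * w χ =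
      w (principalIrr G) + ((c₀.s * -1 : ℤ) : ℂ) * w c₀.χ + ((c₁.s * 1 : ℤ) : ℂ) * w c₁.χ +
        ((c₂.s * 1 : ℤ) : ℂ) * w c₂.χ := by
    intro w
    rw [← Finset.sum_subset (Finset.subset_univ {principalIrr G, c₀.χ, c₁.χ, c₂.χ}) fun χ _ hχ => by
        simp only [Finset.mem_insert, Finset.mem_singleton, not_or] at hχ
        rw [hrest χ hχ.1 hχ.2.1 hχ.2.2.1 hχ.2.2.2, Int.cast_zero, zero_mul],
      Finset.sum_insert (by simp [n0.symm, n1.symm, n2.symm]), Finset.sum_insert (by simp [d01, d02]),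
      Finset.sum_pair d12, hP1, sgn c₀ t0, sgn c₁ t1, sgn c₂ t2]
    simp [trc, Search.trcL]
    ring
  have ord1 : ordL.getD 1 0 = 4 := rfl
  have hnc : ∀ χ, newCoeff e 1 χ = coeff e 4 χ := fun χ => by rw [newCoeff, ord1]; rfl
  have hTh : ∀ x, Theta e 4 x = ∑ χ : IrrCharacter G, (newCoeff e 1 χ : ℂ) * (χ : G → ℂ) x := fun x => by
    rw [Theta_eq_sum e (by norm_num)]
    exact Finset.sum_congr rfl fun χ _ => by rw [hnc]
  -- the degree relation
  have hd := hTh 1
  rw [Theta_one e (by norm_num), expand (fun χ => (χ : G → ℂ) 1)] at hd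
  simp only [(deg_spec _).1, deg_principal] at hd
  have hd' : (1 : ℤ) + c₀.s * -1 * deg c₀.χ + c₁.s * 1 * deg c₁.χ + c₂.s * 1 * deg c₂.χ = 0 := by
    exact_mod_cast hd.symm
  -- the class multiplication relation
  have hp := sum_pairs e hz hone (show 4 < 11 by norm_num)
  have hps : csum (fun k => thF 4 k * (invTbl.getD k 0 : ℤ)) 11 = 576 * 8 := by
    rw [← product_sum]
    refine congrArg (fun f => csum f 11) (funext fun k => ?_)
    rw [newTh, ord1]; rfl
  rw [hps] at hp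
  have hval : ∀ χ : IrrCharacter G, ∑ a ∈ Finset.univ.filter (IsConj z),
      ∑ b ∈ Finset.univ.filter (IsConj z), (χ : G → ℂ) (a * b) =
      ((Nat.card {x : G // IsConj z x} : ℂ)) ^ 2 * ((χ : G → ℂ) z ^ 2 / (χ : G → ℂ) 1) := fun χ =>
    CfsgLib.GL23.sum_class_product χ z
  simp only [hTh] at hp
  rw [Finset.sum_congr rfl (fun a _ => Finset.sum_comm), Finset.sum_comm] at hp
  simp only [← Finset.mul_sum, hval] at hp
  have hk : (Nat.card {x : G // IsConj z x} : ℂ) = (N : ℂ) := by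
    have h := card_isConj_mul_card_centralizer (G := G) z
    rw [show Nat.card (Subgroup.centralizer ({z} : Set G)) = 576 from e.card_eq, hN] at h
    have : Nat.card {x : G // IsConj z x} = N := Nat.eq_of_mul_eq_mul_right (by norm_num : 0 < 576) (by linarith)
    rw [this]
  rw [hk, expand (fun χ => (N : ℂ) ^ 2 * ((χ : G → ℂ) z ^ 2 / (χ : G → ℂ) 1)), hN] at hp
  have hzc : e.cl (tC z) = 10 := by rw [Coded.cl, code_tC e hz, cls_one]
  have vz : ∀ {i : ℕ} (c : Constituent e i),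
      (c.χ : G → ℂ) z = ((c.s * valCol (target.getD i []) 10 : ℤ) : ℂ) := by
    intro i c
    have h := congrArg conj (c.vals 10 (by norm_num))
    rw [Complex.conj_conj, map_intCast] at h
    rw [← h, ← hzc]
    exact classVal_cl e (irr_classFun c.χ) (tC z)
  have tv : valCol (target.getD 0 []) 10 = -5 ∧ valCol (target.getD 1 []) 10 = -9 ∧
      valCol (target.getD 2 []) 10 = 3 := by decide +kernel
  simp only [(deg_spec _).1, deg_principal, vz, tv.1, tv.2.1, tv.2.2, principalIrr_apply] at hp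
  -- bounds and congruences
  have sums := target_sums
  simp only [show List.range 3 = [0, 1, 2] from rfl, List.map_cons, List.map_nil, List.cons.injEq,
    and_true] at sums
  obtain ⟨⟨s00, s01, s02⟩, ⟨s10, s11, s12⟩, ⟨s20, s21, s22⟩⟩ := sums
  have B0 := constituent_bounds e hz hone (show 0 < 3 by norm_num) c₀
  have B1 := constituent_bounds e hz hone (show 1 < 3 by norm_num) c₁
  have B2 := constituent_bounds e hz hone (show 2 < 3 by norm_num) c₂
  simp only [List.mem_cons, List.not_mem_nil, or_false, forall_eq_or_imp, forall_eq,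
    s00, s01, s02, s10, s11, s12, s20, s21, s22] at B0 B1 B2
  obtain ⟨⟨u00, h00⟩, ⟨u01, h01⟩, -⟩ := B0
  obtain ⟨⟨u10, h10⟩, ⟨u11, h11⟩, -⟩ := B1
  obtain ⟨⟨u20, h20⟩, ⟨u21, h21⟩, -⟩ := B2
  obtain ⟨-, p0, q0⟩ := deg_spec c₀.χ
  obtain ⟨-, p1, q1⟩ := deg_spec c₁.χ
  obtain ⟨-, p2, q2⟩ := deg_spec c₂.χ
  obtain ⟨a, ha⟩ : ∃ a : ℤ, a = c₁.s * deg c₁.χ := ⟨_, rfl⟩
  obtain ⟨b, hb⟩ : ∃ b : ℤ, b = -(c₀.s * deg c₀.χ) := ⟨_, rfl⟩
  obtain ⟨c, hc⟩ : ∃ c : ℤ, c = c₂.s * deg c₂.χ := ⟨_, rfl⟩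
  have rb : c₀.s * (9 * -b + 909) = 576 * (u00 : ℤ) ∧ c₀.s * (9 * -b + -819) = 576 * (u01 : ℤ) := by
    rw [hb, neg_neg]; exact ⟨h00, h01⟩
  have ra : c₁.s * (9 * a + 1377) = 576 * (u10 : ℤ) ∧ c₁.s * (9 * a + -1503) = 576 * (u11 : ℤ) := by
    rw [ha]; exact ⟨h10, h11⟩
  have rc : c₂.s * (9 * c + -459) = 576 * (u20 : ℤ) ∧ c₂.s * (9 * c + 693) = 576 * (u21 : ℤ) := by
    rw [hc]; exact ⟨h20, h21⟩
  have hb64 : b % 64 = 37 ∧ (b ≤ -91 ∨ 101 ≤ b) := by
    rcases c₀.hs with h | h <;> rw [h] at rb <;> omega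
  have ha64 : a % 64 = 39 ∧ (a ≤ -153 ∨ 167 ≤ a) := by
    rcases c₁.hs with h | h <;> rw [h] at ra <;> omega
  have hc64 : c ≤ -77 ∨ 51 ≤ c := by
    rcases c₂.hs with h | h <;> rw [h] at rc <;> omega
  have hsum : c = -1 - a - b := by rw [ha, hb, hc]; linarith
  have dv : ∀ {d : ℕ} {s : ℤ}, (s = 1 ∨ s = -1) → d ∣ Nat.card G → s * (d : ℤ) ∣ 576 * (N : ℤ) := by
    intro d s hs hd
    rw [hN] at hd
    have hd' : (d : ℤ) ∣ 576 * (N : ℤ) := by exact_mod_cast Int.natCast_dvd_natCast.2 hd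
    rcases hs with rfl | rfl
    · rwa [one_mul]
    · rw [neg_one_mul, neg_dvd]; exact hd'
  have sq : ∀ {χ : IrrCharacter G} {s : ℤ}, (s = 1 ∨ s = -1) →
      s * (deg χ : ℤ) * (s * deg χ) ≤ 576 * (N : ℤ) := by
    intro χ s hs
    have h : ((deg χ * deg χ : ℕ) : ℤ) ≤ ((576 * N : ℕ) : ℤ) := Int.ofNat_le.2 (hN ▸ deg_sq_le χ)
    push_cast at h
    rcases hs with rfl | rfl <;> simpa using h
  have hinv : ∀ {s : ℤ} {d : ℕ}, (s = 1 ∨ s = -1) → ((s : ℂ) / (d : ℂ)) = 1 / ((s * d : ℤ) : ℂ) := by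
    intro s d hs; rcases hs with rfl | rfl <;> push_cast <;> simp [neg_div, div_neg]
  have heq : (N : ℚ) * (1 + 81 / (a : ℚ) + 25 / (b : ℚ) + 9 / (c : ℚ)) = 4608 := by
    have hN0 : (N : ℂ) ≠ 0 := by
      intro h; have : N = 0 := by exact_mod_cast h
      omega
    have hC : (N : ℂ) * (1 + 81 / (a : ℂ) + 25 / (b : ℂ) + 9 / (c : ℂ)) = 4608 := by
      have e0 : ((c₀.s * -1 : ℤ) : ℂ) * (((c₀.s * -5 : ℤ) : ℂ) ^ 2 / (deg c₀.χ : ℂ)) = 25 / (b : ℂ) := by
        rw [hb]; rcases c₀.hs with h | h <;> rw [h] <;> push_cast <;> simp [neg_div, div_neg] <;> ring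
      have e1 : ((c₁.s * 1 : ℤ) : ℂ) * (((c₁.s * -9 : ℤ) : ℂ) ^ 2 / (deg c₁.χ : ℂ)) = 81 / (a : ℂ) := by
        rw [ha]; rcases c₁.hs with h | h <;> rw [h] <;> push_cast <;> simp [neg_div, div_neg] <;> ring
      have e2 : ((c₂.s * 1 : ℤ) : ℂ) * (((c₂.s * 3 : ℤ) : ℂ) ^ 2 / (deg c₂.χ : ℂ)) = 9 / (c : ℂ) := by
        rw [hc]; rcases c₂.hs with h | h <;> rw [h] <;> push_cast <;> simp [neg_div, div_neg] <;> ring
      rw [← e0, ← e1, ← e2]
      refine mul_left_cancel₀ (mul_ne_zero (show (576 : ℂ) ≠ 0 by norm_num) hN0) ?_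
      push_cast at hp ⊢
      linear_combination hp
    apply Rat.cast_injective (α := ℂ)
    push_cast
    exact hC
  obtain ⟨hN7, -, hb91⟩ := Arith.index_eq hodd h7 ha64.1 hb64.1 hsum ha64.2 hb64.2 hc64
    (ha ▸ dv c₁.hs q1) (by rw [hb, neg_dvd]; exact dv c₀.hs q0)
    (hc ▸ dv c₂.hs q2) (ha ▸ sq c₁.hs) (by rw [hb, neg_mul_neg]; exact sq c₀.hs) heq
  refine ⟨by rw [hN, hN7], c₀.χ, ?_, ?_⟩
  · rw [(deg_spec c₀.χ).1]
    have : (deg c₀.χ : ℤ) = 91 := by rcases c₀.hs with h | h <;> rw [h] at hb <;> omega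
    exact_mod_cast this
  · intro k hk
    have hs1 : c₀.s = 1 := by
      rcases c₀.hs with h | h
      · exact h
      · rw [h] at hb; omega
    have h := congrArg conj (c₀.vals k hk)
    rwa [Complex.conj_conj, map_intCast, hs1, one_mul] at h

end CfsgLib.GTwoTwoLocal
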