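import Cfsg.Agent.Lib.GTwoTwoLocal.Normalise
import Cfsg.Agent.Lib.GTwoTwoLocal.Order
import Mathlib.GroupTheory.Nilpotent

/-!
# One class of involutions, and the order of the group
-/

set_option autoImplicit false
set_option linter.unusedSectionVars false
set_option maxRecDepth 100000

namespace CfsgLib.GTwoTwoLocal

open Model Cfsg
open Search (valCol target)
open CfsgLib.GL23 (Ct tC mem_Ct sq_t t_ne_one)

/-- The chosen subgroup of order `64`. -/
def sylL : List ℕ := (List.range 576).filter fun x => lab 20 x != 0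

theorem syl_facts : sylL.length = 64 ∧
    (sylL.all fun x => sylL.all fun y => sylL.contains (mulC x y)) = true ∧
    (sylL.all fun x => x == 0 || x == 1 || sylL.any fun y => mulC x y != mulC y x) = true ∧
    sylL.contains 0 = true := by
  decide +kernel

theorem inv_class : allBelow 576 (fun x => !(mulC x x == 0) || x == 0 || x == 1 ||
    (if odd2 (fstM x) then cls x == 12 else cls x == 13)) = true := by
  decide +kernel

namespace Cfg

variable {G : Type*} [Group G] [Finite G] (c : Cfg G)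

variable {c} in
theorem elt_mem_H₀ {h : G} (hh : c.Refl h) {x : ℕ} :
    c.elt h x ∈ c.H₀ ↔ odd2 (fstM x) = false := by
  unfold elt psi
  have hm : c.ι₁ (toSL (sPart (fstM x))) * c.ι₂ (toSL (sPart (sndM x))) ∈ c.H₀ := c.mem_H₀.2 ⟨_, _, rfl⟩
  cases odd2 (fstM x)
  · simp [hm]
  · simp only [if_true, Bool.true_eq_false, iff_false]
    intro a
    refine hh.2.1 ?_
    have := mul_mem (inv_mem hm) a
    rwa [inv_mul_cancel_left] at this

variable {h : G} (hh : c.Refl h) (e : Coded (Ct c.z)) (he : ∀ u : Ct c.z, c.elt h (e.code u) = (u : G))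

include hh he in
/-- The class of an involution other than `z`. -/
theorem cl_involution {u : Ct c.z} (h2 : u * u = 1) (h1 : u ≠ 1) (hz : (u : G) ≠ c.z) :
    ((u : G) ∈ c.H₀ → e.cl u = 13) ∧ ((u : G) ∉ c.H₀ → e.cl u = 12) := by
  have : Fintype G := Fintype.ofFinite G
  have hf := allBelow_spec inv_class _ (e.lt u)
  simp only [Bool.or_eq_true, Bool.not_eq_true', beq_iff_eq, beq_eq_false_iff_ne] at hf
  have hiff : (u : G) ∈ c.H₀ ↔ odd2 (fstM (e.code u)) = false := by rw [← he u, elt_mem_H₀ hh]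
  rcases hf with ((a | a) | a) | a
  · exact absurd (e.code_sq.2 h2) a
  · exact absurd (e.code_eq_zero.1 a) h1
  · exfalso
    refine hz ?_
    rw [← code_tC e c.hz] at a
    exact congrArg Subtype.val (e.inj a)
  · constructor <;> intro hu <;> rw [hiff] at hu
    · rw [hu] at a; simp only [Coded.cl]; simpa using a
    · rw [Bool.not_eq_false] at hu
      rw [hu] at a; simp only [Coded.cl]; simpa using a

include hh he in
theorem conj_z_of_involution {u : G} (hu : u ∈ Ct c.z) (h2 : u * u = 1) (h1 : u ≠ 1) : IsConj c.z u := by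
  classical
  by_cases huz : u = c.z
  · rw [huz]
  obtain ⟨d, hdM, hd7⟩ := c.exists_seven
  obtain ⟨e₀, e₁, hi⟩ := c.exists_indep
  have hE : IsConj c.z e₀ := by
    obtain ⟨n, hn⟩ := c.transitive hdM hd7 hi.1 hi.2.2.1
    exact (isConj_iff.2 ⟨_, hn⟩).symm
  have key : ∀ v : G, v ∈ Ct c.z → v * v = 1 → v ≠ 1 → v ≠ c.z → v ∈ c.H₀ → IsConj c.z v := by
    intro v hv v2 v1 vz vH
    have e1 := (c.cl_involution hh e he (u := ⟨v, hv⟩) (Subtype.ext v2)
      (fun a => v1 (congrArg Subtype.val a)) vz).1 vH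
    have e2 := (c.cl_involution hh e he (u := ⟨e₀, (c.E_le_N hi.1).2⟩) (Subtype.ext (c.sq_E _ hi.1))
      (fun a => hi.2.2.1 (congrArg Subtype.val a)) hi.2.2.2.1).1 (c.QQ_le (c.QQ_eq.symm ▸ c.E_le_P₀ hi.1))
    obtain ⟨w, hw⟩ := isConj_iff.1 (e.isConj_of_cl (e2.trans e1.symm))
    exact hE.trans (isConj_iff.2 ⟨w, congrArg Subtype.val hw⟩)
  by_cases huH : u ∈ c.H₀
  · exact key u hu h2 h1 huz huH
  obtain ⟨k, hkN, hkH, hk2, q, hq, hq2, hqE, hkq⟩ := c.exists_outer
  have hk1 : k ≠ 1 := fun a => hkH (a ▸ one_mem _)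
  have hkz : k ≠ c.z := fun a => hkH (a ▸ c.QQ_le c.z_mem_QQ)
  have e1 := (c.cl_involution hh e he (u := ⟨u, hu⟩) (Subtype.ext h2)
      (fun a => h1 (congrArg Subtype.val a)) huz).2 huH
  have e2 := (c.cl_involution hh e he (u := ⟨k, hkN.2⟩) (Subtype.ext hk2)
      (fun a => hk1 (congrArg Subtype.val a)) hkz).2 hkH
  obtain ⟨w, hw⟩ := isConj_iff.1 (e.isConj_of_cl (e2.trans e1.symm))
  have hzq : IsConj c.z q := key q (c.H₀_le (c.QQ_le hq)) hq2
    (fun a => hqE (a ▸ one_mem _)) (fun a => hqE (a ▸ c.z_mem)) (c.QQ_le hq)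
  exact (hzq.trans hkq.symm).trans (isConj_iff.2 ⟨w, congrArg Subtype.val hw⟩)

include e in
theorem exists_sylow : ∃ S : Sylow 2 G, (S : Subgroup G) ≤ Ct c.z ∧ Nat.card S = 64 := by
  classical
  obtain ⟨hlen, hmul, hcen, h0⟩ := syl_facts
  simp only [List.all_eq_true, Bool.or_eq_true, List.any_eq_true, List.contains_iff_mem, bne_iff_ne,
    beq_iff_eq] at hmul hcen h0
  have hmem : ∀ x : G, (∃ hx : x ∈ Ct c.z, e.code ⟨x, hx⟩ ∈ sylL) → ∀ n : ℕ,
      ∃ hx : x ^ n ∈ Ct c.z, e.code ⟨x ^ n, hx⟩ ∈ sylL := by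
    rintro x ⟨hx, hxS⟩ n
    refine ⟨pow_mem hx n, ?_⟩
    induction n with
    | zero =>
      rw [show (⟨x ^ 0, pow_mem hx 0⟩ : Ct c.z) = 1 from Subtype.ext (pow_zero x), e.code_one]
      exact h0
    | succ n ih =>
      rw [show (⟨x ^ (n + 1), pow_mem hx (n + 1)⟩ : Ct c.z) = ⟨x ^ n, pow_mem hx n⟩ * ⟨x, hx⟩ from
        Subtype.ext (pow_succ x n), e.mul]
      exact hmul _ ih _ hxS
  let T : Subgroup G :=
    { carrier := {x | ∃ hx : x ∈ Ct c.z, e.code ⟨x, hx⟩ ∈ sylL}
      one_mem' := ⟨one_mem _, by rw [show (⟨1, one_mem _⟩ : Ct c.z) = 1 from rfl, e.code_one]; exact h0⟩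
      mul_mem' := by
        rintro a b ⟨ha, ha'⟩ ⟨hb, hb'⟩
        refine ⟨mul_mem ha hb, ?_⟩
        rw [show (⟨a * b, mul_mem ha hb⟩ : Ct c.z) = ⟨a, ha⟩ * ⟨b, hb⟩ from rfl, e.mul]
        exact hmul _ ha' _ hb'
      inv_mem' := by
        intro a ha
        have h1 : a⁻¹ = a ^ (orderOf a - 1) := by
          refine inv_eq_of_mul_eq_one_right ?_
          rw [← pow_succ', Nat.sub_add_cancel (orderOf_pos a), pow_orderOf_eq_one]
        rw [Set.mem_setOf_eq, h1]
        exact hmem a ha _ }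
  have hTle : T ≤ Ct c.z := fun x hx => hx.1
  have hTcard : Nat.card T = 64 := by
    have hlt : ∀ n : {n // n ∈ sylL}, n.1 < 576 := fun n => List.mem_range.1 (List.mem_filter.1 n.2).1
    choose pre hpre using fun n : {n // n ∈ sylL} => e.surj n.1 (hlt n)
    have hb : Function.Bijective (fun n : {n // n ∈ sylL} => (⟨(pre n : G), (pre n).2, by
        rw [Subtype.coe_eta, hpre]; exact n.2⟩ : T)) := by
      constructor
      · intro a b hab
        apply Subtype.ext
        rw [← hpre a, ← hpre b]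
        exact congrArg e.code (Subtype.ext (congrArg (fun u : T => (u : G)) hab))
      · rintro ⟨x, hx, hxS⟩
        exact ⟨⟨_, hxS⟩, Subtype.ext (show (pre ⟨_, hxS⟩ : G) = x from
          congrArg Subtype.val (e.inj (hpre ⟨_, hxS⟩)))⟩
    rw [← Nat.card_eq_of_bijective _ hb, ← hlen, Nat.card_eq_fintype_card,
      Fintype.card_of_subtype sylL.toFinset (fun x => by simp),
      List.toFinset_card_of_nodup (show sylL.Nodup from List.nodup_range.filter _)]
  have : Fact (Nat.Prime 2) := ⟨Nat.prime_two⟩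
  have hTp : IsPGroup 2 T := IsPGroup.of_card (n := 6) (by rw [hTcard]; norm_num)
  obtain ⟨S, hS⟩ := hTp.exists_le_sylow
  refine ⟨S, ?_⟩
  have hmax : ∀ U : Subgroup G, U ≤ Ct c.z → IsPGroup 2 U → Nat.card U ≤ 64 := by
    intro U hU hp
    obtain ⟨n, hn⟩ := IsPGroup.iff_card.1 hp
    have := Subgroup.card_dvd_of_le hU
    rw [c.card_ct, hn] at this
    rw [hn]
    by_contra hlt
    have hn7 : 7 ≤ n := by
      by_contra a
      exact hlt (Nat.pow_le_pow_right (by norm_num) (by omega : n ≤ 6))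
    have := (pow_dvd_pow 2 hn7).trans this
    norm_num at this
  suffices hST : (S : Subgroup G) = T from ⟨hST ▸ hTle, by rw [← hTcard, ← hST]⟩
  by_contra hne
  let T' := T.subgroupOf (S : Subgroup G)
  have hT' : T' < ⊤ := lt_top_iff_ne_top.2 fun a => hne (le_antisymm (Subgroup.subgroupOf_eq_top.1 a) hS)
  have : Group.IsNilpotent (S : Subgroup G) := S.2.isNilpotent (p := 2)
  obtain ⟨y, hy, hyT⟩ := SetLike.exists_of_lt (Group.normalizerCondition_of_isNilpotent T' hT')
  have hyn : ∀ x ∈ T, (y : G) * x * (y : G)⁻¹ ∈ T := fun x hx => by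
    have := (Subgroup.mem_normalizer_iff.1 hy ⟨x, hS hx⟩).1 hx
    exact this
  have hzT : c.z ∈ T := by
    refine ⟨c.z_mem_ct, ?_⟩
    have : Fintype G := Fintype.ofFinite G
    rw [show (⟨c.z, c.z_mem_ct⟩ : Ct c.z) = tC c.z from rfl, code_tC e c.hz]
    have : sylL.contains 1 = true := by decide +kernel
    simpa using this
  have hyC : (y : G) ∈ Ct c.z := by
    obtain ⟨hw, hwS⟩ := hyn c.z hzT
    rcases hcen _ hwS with (a | a) | ⟨b, hb, hb'⟩
    · exfalso
      exact c.z_ne (conj_eq_one_iff.1 (congrArg Subtype.val (e.code_eq_zero.1 a)))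
    · have : Fintype G := Fintype.ofFinite G
      rw [← code_tC e c.hz] at a
      exact mem_Ct.2 (mul_inv_eq_iff_eq_mul.1 (congrArg Subtype.val (e.inj a)))
    · exfalso
      obtain ⟨⟨b', hb2⟩, rfl⟩ := e.surj b (List.mem_range.1 (List.mem_filter.1 hb).1)
      refine hb' ?_
      rw [← e.mul, ← e.mul]
      refine congrArg e.code (Subtype.ext ?_)
      show (y : G) * c.z * (y : G)⁻¹ * b' = b' * ((y : G) * c.z * (y : G)⁻¹)
      have hb'' : (y : G)⁻¹ * b' * y ∈ T := by
        have h2 := (Subgroup.mem_normalizer_iff.1 (inv_mem hy) ⟨b', hS ⟨hb2, hb⟩⟩).1 ⟨hb2, hb⟩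
        simpa [T', Subgroup.mem_subgroupOf] using h2
      have h3 := mem_Ct.1 (hTle hb'')
      calc (y : G) * c.z * (y : G)⁻¹ * b' = (y : G) * (c.z * ((y : G)⁻¹ * b' * y)) * (y : G)⁻¹ := by group
        _ = (y : G) * ((y : G)⁻¹ * b' * y * c.z) * (y : G)⁻¹ := by rw [h3]
        _ = _ := by group
  have hU : T ⊔ Subgroup.zpowers (y : G) ≤ Ct c.z := sup_le hTle (Subgroup.zpowers_le.2 hyC)
  have hUS : T ⊔ Subgroup.zpowers (y : G) ≤ S := sup_le hS (Subgroup.zpowers_le.2 y.2)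
  have h64 := hmax _ hU (S.2.to_le hUS)
  have heq : T = T ⊔ Subgroup.zpowers (y : G) :=
    Subgroup.eq_of_le_of_card_ge le_sup_left (by rw [hTcard]; exact h64)
  exact hyT (Subgroup.mem_subgroupOf.2 (heq ▸ Subgroup.mem_sup_right (Subgroup.mem_zpowers _)))

include hh he in
theorem one_class {t : G} (h2 : t * t = 1) (h1 : t ≠ 1) : IsConj c.z t := by
  obtain ⟨S, hS, -⟩ := c.exists_sylow e
  have : Fact (Nat.Prime 2) := ⟨Nat.prime_two⟩
  have hP : IsPGroup 2 (Subgroup.zpowers t) := IsPGroup.of_card (n := 1) (by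
    rw [Nat.card_zpowers, pow_one]
    exact orderOf_eq_prime (by rw [pow_two, h2]) h1)
  obtain ⟨S', hS'⟩ := hP.exists_le_sylow
  obtain ⟨g, hg⟩ := MulAction.exists_smul_eq G S' S
  have hmem : g * t * g⁻¹ ∈ (S : Subgroup G) := by
    rw [← hg]
    exact ⟨t, hS' (Subgroup.mem_zpowers t), rfl⟩
  refine (c.conj_z_of_involution hh e he (hS hmem) ?_ ?_).trans (isConj_iff.2 ⟨g⁻¹, by group⟩)
  · rw [conj_mul, h2, mul_one, mul_inv_cancel]
  · rw [Ne, conj_eq_one_iff]; exact h1

include hh he in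
theorem card_and_char [Fintype G] :
    Nat.card G = 4245696 ∧ ∃ χ : IrrCharacter G, (χ : G → ℂ) 1 = 91 ∧
      ∀ k < 11, classVal e (χ : G → ℂ) k = ((valCol (target.getD 0 []) k : ℤ) : ℂ) := by
  obtain ⟨S, -, hS64⟩ := c.exists_sylow e
  have : Fact (Nat.Prime 2) := ⟨Nat.prime_two⟩
  obtain ⟨N, hN⟩ : 576 ∣ Nat.card G := c.card_ct ▸ Subgroup.card_subgroup_dvd_card (Ct c.z)
  have hodd : N % 2 = 1 := by
    by_contra hev
    have h128 : 2 ^ 7 ∣ Nat.card G := by rw [hN]; exact ⟨9 * (N / 2), by omega⟩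
    obtain ⟨U, hU⟩ := Sylow.exists_subgroup_card_pow_prime 2 h128
    obtain ⟨S', hS'⟩ := (IsPGroup.of_card hU).exists_le_sylow
    have := Subgroup.card_dvd_of_le hS'
    rw [hU, Sylow.card_eq_multiplicity, ← Sylow.card_eq_multiplicity S, hS64] at this
    norm_num at this
  have h7 : 7 ∣ N := by
    have := c.seven_dvd
    rw [hN] at this
    omega
  exact order_and_char e c.hz (fun a ha ha1 => c.one_class hh e he ha ha1) hN hodd h7

end Cfg

end CfsgLib.GTwoTwoLocal
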