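import Cfsg.Agent.Lib.GTwoTwoLocal.ModelSL
import Cfsg.Agent.Lib.GL23.Transfer
import Mathlib.Algebra.Group.Conj

/-!
# The three-local data produced from the two-local hypothesis

This is the interface between the computation of the centralisers of the two classes of elements of
order three (file `Cube`) and the construction of the two parabolics (file `ThreeLocal`).
-/

set_option autoImplicit false

namespace CfsgLib.GTwoTwoLocal

open CfsgLib.GL23 (Ct)

variable {G : Type*} [Group G]

/-- The structure `3^5 : SL(2,3)` of the centraliser of an element of order three. -/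
structure Cube (z a : G) (O : Subgroup G) (K : SL →* G) : Prop where
  ord : orderOf a = 3
  za : Commute z a
  card : Nat.card O = 243
  cardC : Nat.card (Ct a) = 243 * 24
  le : O ≤ Ct a
  norm : ∀ x ∈ Ct a, ∀ u ∈ O, x * u * x⁻¹ ∈ O
  inv : ∀ u ∈ O, z * u * z⁻¹ * u ∈ Subgroup.zpowers a
  a_mem : a ∈ O
  inj : Function.Injective K
  neg : K (toSL 1) = z
  comm : ∀ x, Commute a (K x)
  inter : ∀ x, K x ∈ O → x = 1

/-- The data from which the parabolics are built: `a` and `b` are elements of order three of the two
factors of the centraliser of `z`, and `h` is an involution inverting both. -/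
structure Three (G : Type*) [Group G] where
  z : G
  a : G
  b : G
  h : G
  O : Subgroup G
  P : Subgroup G
  K : SL →* G
  L : SL →* G
  card : Nat.card G = 4245696
  hz : orderOf z = 2
  cube₁ : Cube z a O K
  cube₂ : Cube z b P L
  b_mem : ∃ x, K x = b
  a_mem : ∃ x, L x = a
  card_ct : Nat.card (Ct z) = 576
  one_class : ∀ t : G, orderOf t = 2 → IsConj t z
  hh : h * h = 1
  hz' : Commute h z
  ha : h * a * h⁻¹ = a⁻¹
  hb : h * b * h⁻¹ = b⁻¹
  not_conj : ¬ IsConj a b ∧ ¬ IsConj a b⁻¹

end CfsgLib.GTwoTwoLocal
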