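import Cfsg.Agent.Lib.GTwoTwoLocal.CoreEq
import Cfsg.Agent.Lib.GTwoTwoLocal.OneClass
import Cfsg.Agent.Lib.GTwoTwoLocal.ThreeDefs

/-!
# The three-local data from the two-local configuration
-/

set_option autoImplicit false
set_option linter.unusedSectionVars false
set_option maxRecDepth 100000

namespace CfsgLib.GTwoTwoLocal

open CfsgLib.GL23 (Ct mem_Ct)
open Model

universe u

theorem twelve_facts : evalPow 12 3 = 0 ∧ conjM dNum 12 = tab 12 12 ∧
    (∀ x : Fin 24, tab x (tab 12 12) ≠ tab 12 x) ∧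
    (∀ x : Fin 24, tab x 12 = tab 12 x →
      ∃ (i : Fin 3) (s : Fin 2), (x : ℕ) = tab (evalPow 12 i) s) := by
  decide +kernel

theorem t12_cube : toSL 12 ^ 3 = 1 :=
  (evalPow_eq_zero (by norm_num) 3).1 twelve_facts.1

theorem t12_ne : toSL 12 ≠ 1 := by
  rw [← toSL_zero]
  exact fun h => absurd (toSL_injective (by norm_num) (by norm_num) h) (by norm_num)

theorem t12_inv : toSL (conjM dNum 12) = (toSL 12)⁻¹ := by
  rw [twelve_facts.2.1, toSL_tab (by norm_num) (by norm_num)]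
  refine eq_inv_of_mul_eq_one_left ?_
  rw [← pow_two, ← pow_succ]
  exact t12_cube

/-- A power of the element of order three is never the central involution. -/
theorem t12_pow_ne_neg (i : ℕ) : toSL 12 ^ i ≠ toSL 1 := by
  intro h
  have h3 : (toSL 12 ^ i) ^ 3 = 1 := by rw [← pow_mul, mul_comm, pow_mul, t12_cube, one_pow]
  rw [h, pow_succ, pow_two, neg_facts.1, one_mul] at h3
  exact neg_facts.2 h3

namespace Cfg

variable {G : Type u} [Group G] [Finite G] (c : Cfg G)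

/-- The configuration with the two factors interchanged. -/
def swap : Cfg G :=
  { c with
    ι₁ := c.ι₂
    ι₂ := c.ι₁
    inj₁ := c.inj₂
    inj₂ := c.inj₁
    neg₁ := c.neg₂
    neg₂ := c.neg₁
    comm := fun a b => (c.comm b a).symm
    inter := fun a b hab => by
      rcases c.inter b a hab.symm with e | e
      · exact Or.inl (c.inj₂ (by rw [map_one, hab, e, map_one]))
      · exact Or.inr (c.inj₂ (by rw [c.neg₂, hab, e, c.neg₁]))
    normal₁ := c.normal₂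
    normal₂ := c.normal₁ }

theorem swap_z : c.swap.z = c.z := rfl

theorem swap_refl {h : G} (hh : c.Refl h) : c.swap.Refl h :=
  ⟨hh.1, fun a => by
    obtain ⟨p, q, e⟩ := c.swap.mem_H₀.1 a
    exact hh.2.1 (c.mem_H₀.2 ⟨q, p, e.trans (c.comm q p).eq.symm⟩),
    hh.2.2.1, fun x hx => ⟨(hh.2.2.2 x hx).2, (hh.2.2.2 x hx).1⟩⟩

theorem ι₁_pow_ne {x : SL} {i : ℕ} (h : c.ι₂ x = c.ι₁ (toSL 12) ^ i) :
    toSL 12 ^ i = 1 ∧ x = 1 := by
  rw [← map_pow] at h
  rcases c.inter _ _ h.symm with e | e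
  · refine ⟨e, c.inj₂ ?_⟩
    rw [h, e, map_one, map_one]
  · exact absurd e (t12_pow_ne_neg i)

theorem cent_factor {h : G} (hh : c.Refl h) {g : G} (hgz : Commute g c.z)
    (hga : Commute g (c.ι₁ (toSL 12))) :
    ∃ (i : ℕ) (y : SL), g = c.ι₁ (toSL 12) ^ i * c.ι₂ y := by
  have hg : g ∈ Ct c.z := mem_Ct.2 hgz.eq
  by_cases hg0 : g ∈ c.H₀
  · obtain ⟨p, q, rfl⟩ := c.mem_H₀.1 hg0
    have hc : Commute (c.ι₁ p) (c.ι₁ (toSL 12)) := by
      have h2 := hga.mul_left ((c.comm (toSL 12) q).symm.inv_left)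
      rwa [mul_inv_cancel_right] at h2
    obtain ⟨x, hx, rfl⟩ := exists_number p
    have he : toSL (tab x 12) = toSL (tab 12 x) := by
      rw [toSL_tab hx (by norm_num), toSL_tab (by norm_num) hx]
      exact c.inj₁ (by rw [map_mul, map_mul]; exact hc.eq)
    obtain ⟨i, s, hxs⟩ := twelve_facts.2.2.2 ⟨x, hx⟩
      (toSL_injective (tab_lt hx (by norm_num)) (tab_lt (by norm_num) hx) he)
    simp only at hxs
    obtain ⟨hl, hp⟩ := toSL_evalPow (a := 12) (by norm_num) i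
    have hs24 : (s : ℕ) < 24 := lt_of_lt_of_le s.2 (by norm_num)
    rw [hxs, toSL_tab hl hs24, hp, map_mul, map_pow]
    fin_cases s
    · exact ⟨i, q, by simp [toSL_zero]⟩
    · refine ⟨i, toSL 1 * q, ?_⟩
      show c.ι₁ (toSL 12) ^ (i : ℕ) * c.ι₁ (toSL 1) * c.ι₂ q = _
      rw [c.neg₁, map_mul, c.neg₂, mul_assoc]
  · exfalso
    obtain ⟨p, q, hpq⟩ := c.mem_H₀.1 (c.mul_mem_H₀ hg hh.1 hg0 hh.2.1)
    have hinv : h⁻¹ = h := inv_eq_of_mul_eq_one_right hh.2.2.1
    have hg' : g = c.ι₁ p * c.ι₂ q * h := by rw [← hpq, mul_assoc, hh.2.2.1, mul_one]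
    have h1 := (hh.2.2.2 12 (by norm_num)).1
    rw [t12_inv] at h1
    have e : g * c.ι₁ (toSL 12) * g⁻¹ = c.ι₁ p * c.ι₁ (toSL 12)⁻¹ * (c.ι₁ p)⁻¹ := by
      rw [hg', ← h1]
      have hc : Commute (c.ι₂ q) (h * c.ι₁ (toSL 12) * h⁻¹) := by
        rw [h1]; exact (c.comm _ _).symm
      have hq : c.ι₂ q * (h * c.ι₁ (toSL 12) * h⁻¹) * (c.ι₂ q)⁻¹ = h * c.ι₁ (toSL 12) * h⁻¹ := by
        rw [hc.eq, mul_inv_cancel_right]
      calc c.ι₁ p * c.ι₂ q * h * c.ι₁ (toSL 12) * (c.ι₁ p * c.ι₂ q * h)⁻¹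
          = c.ι₁ p * (c.ι₂ q * (h * c.ι₁ (toSL 12) * h⁻¹) * (c.ι₂ q)⁻¹) * (c.ι₁ p)⁻¹ := by group
        _ = _ := by rw [hq]
    rw [hga.eq, mul_inv_cancel_right, ← map_inv, ← map_mul, ← map_mul] at e
    obtain ⟨x, hx, rfl⟩ := exists_number p
    have e' : toSL 12 * toSL x = toSL x * (toSL 12)⁻¹ := by
      nth_rw 1 [c.inj₁ e]; group
    rw [← t12_inv, twelve_facts.2.1, ← toSL_tab (by norm_num) hx,
      ← toSL_tab hx (tab_lt (by norm_num) (by norm_num))] at e'
    exact twelve_facts.2.2.1 ⟨x, hx⟩ (toSL_injective (tab_lt hx (tab_lt (by norm_num) (by norm_num)))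
      (tab_lt (by norm_num) hx) e'.symm)

/-- The data of one factor. -/
def half {h : G} (hh : c.Refl h) (hcard : Nat.card G = 4245696)
    (hone : ∀ t : G, t * t = 1 → t ≠ 1 → IsConj c.z t) : Half G where
  z := c.z
  h := h
  a := c.ι₁ (toSL 12)
  K := c.ι₂
  hz := c.hz
  hh := hh.2.2.1
  hzh := (show Commute h c.z from mem_Ct.1 hh.1)
  ha3 := by
    have : Fact (Nat.Prime 3) := ⟨Nat.prime_three⟩
    rw [orderOf_injective c.ι₁ c.inj₁]
    exact orderOf_eq_prime t12_cube t12_ne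
  hza := (show Commute (c.ι₁ (toSL 12)) c.z from mem_Ct.1 (c.mem_ct₁ _)).symm
  ha := by rw [(hh.2.2.2 12 (by norm_num)).1, t12_inv, map_inv]
  inj := c.inj₂
  neg := c.neg₂
  comm x := c.comm _ x
  hK x hx := (hh.2.2.2 x hx).2
  inter x i h' := (c.ι₁_pow_ne h').2
  cent g hz' ha' := c.cent_factor hh hz' ha'
  card_ct := c.card_ct
  fus x hx i j e := by
    obtain ⟨a', ha'⟩ := c.normal₁ x hx (toSL 12)
    rw [ha', ← map_pow, ← map_pow] at e
    have h' : c.ι₁ ((toSL 12 ^ i)⁻¹ * a') = c.ι₂ (toSL 12 ^ j) := by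
      rw [map_mul, map_inv, e, inv_mul_cancel_left]
    rcases c.inter _ _ h' with e' | e' <;> rw [e'] at h'
    · rw [← map_pow, ← h', map_one]
    · rw [c.neg₁, ← c.neg₂] at h'
      exact absurd (c.inj₂ h').symm (t12_pow_ne_neg j)
  card := hcard
  one := hone

end Cfg

variable {G : Type u} [Group G] [Finite G]

namespace Half

variable (d : Half G)

/-- The centraliser of the element of order three is a cube. -/
theorem cube : Cube d.z d.a d.O d.K where
  ord := d.ha3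
  za := d.hza
  card := d.card_O_eq
  cardC := by rw [d.card_Ct_a, d.card_O_eq]
  le := d.O_le
  norm _ hx _ hu := d.O_normal hx hu
  inv u hu := by rw [d.z_inv]; exact d.inverting.mem hu
  a_mem := d.a_mem_O
  inj := d.inj
  neg := d.neg
  comm := d.comm
  inter _ hx := d.K_inter_O hx

end Half

/-- The three-local data. -/
theorem exists_three (c₀ : Cfg G) : Nonempty (Three G) := by
  obtain ⟨c, -, h, hh⟩ := c₀.exists_normalised
  obtain ⟨e, he⟩ := c.exists_coded hh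
  let _ := Fintype.ofFinite G
  have hcard := (c.card_and_char hh e he).1
  have hone : ∀ t : G, t * t = 1 → t ≠ 1 → IsConj c.z t := fun t h2 h1 => c.one_class hh e he h2 h1
  let d₁ := c.half hh hcard hone
  let d₂ := c.swap.half (c.swap_refl hh) hcard hone
  have hconj : ∀ i : ℕ, IsConj d₁.a (d₁.b ^ i) → d₁.b ^ i = 1 := by
    intro i hi
    obtain ⟨g, hg⟩ := isConj_iff.1 hi
    exact d₁.fusion_ab (g := g) (i := 0) (j := i) (by rw [pow_zero, one_mul]; exact hg)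
  have hbne : d₁.b ≠ 1 := fun e' => d₂.a_ne e'
  refine ⟨{ z := c.z, a := d₁.a, b := d₂.a, h := h, O := d₁.O, P := d₂.O, K := c.ι₂, L := c.ι₁
            card := hcard, hz := c.hz, cube₁ := d₁.cube, cube₂ := d₂.cube
            b_mem := ⟨toSL 12, rfl⟩, a_mem := ⟨toSL 12, rfl⟩, card_ct := c.card_ct
            one_class := fun t ht => (hone t (CfsgLib.GL23.sq_t ht) (CfsgLib.GL23.t_ne_one ht)).symm
            hh := hh.2.2.1, hz' := mem_Ct.1 hh.1, ha := d₁.ha, hb := d₂.ha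
            not_conj := ⟨fun hi => hbne ?_, fun hi => hbne ?_⟩ }⟩
  · have := hconj 1 (by rw [pow_one]; exact hi)
    rwa [pow_one] at this
  · have hb3 : d₁.b ^ 3 = 1 := d₂.a_cube
    have hb2 : d₁.b ^ 2 = (d₂.a)⁻¹ := eq_inv_of_mul_eq_one_left
      (show d₁.b ^ 2 * d₁.b = 1 by rw [← pow_succ]; exact hb3)
    have := hconj 2 (hb2 ▸ hi)
    rwa [pow_succ, this, one_mul] at hb3

end CfsgLib.GTwoTwoLocal
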