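import Cfsg.Agent.Lib.GTwoTwoLocal.Coded
import Cfsg.Agent.Lib.Characters.Artin
import Cfsg.Agent.Lib.Characters.Generalized
import Cfsg.Agent.Lib.GL23.Model
import Mathlib.Tactic.LinearCombination

/-!
# Monomial characters and exceptional functions of the centraliser model
-/

set_option autoImplicit false
set_option maxRecDepth 100000

namespace CfsgLib.GTwoTwoLocal

open Model Cfsg CfsgLib.Characters
open CfsgLib.GL23 (z8 z8_pow z8_four)

namespace Coded

variable {C : Type*} [Group C] (e : Coded C)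

theorem chain_mem {n : ℕ} (hn : n < 23) {x : C} (hx : lab n (e.code x) ≠ 0) :
    e.code x ∈ 0 :: (chainL.getD n []).map Prod.fst := by
  obtain ⟨h0, -, -, hm, hc, -⟩ := subTest_parts hn
  have hnd : ∀ (l : List ℕ), (∀ a ∈ l, a < 576 ∧ lab n a ≠ 0) →
      l.toFinset ⊆ (Finset.range 576).filter fun a => (lab n a != 0) = true := by
    intro l hl a ha
    have := hl a (List.mem_toFinset.1 ha)
    exact Finset.mem_filter.2 ⟨Finset.mem_range.2 this.1, by simpa using this.2⟩
  have hsub := hnd _ fun a ha => ⟨(hm a ha).1, (hm a ha).2.1⟩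
  have hnodup : ((0 :: (chainL.getD n []).map Prod.fst).Nodup) := by
    have h := (by decide +kernel : allBelow 23 (fun n =>
      decide ((0 :: (chainL.getD n []).map Prod.fst).Nodup)) = true)
    exact decide_eq_true_iff.1 (allBelow_spec h n hn)
  have heq := Finset.eq_of_subset_of_card_le hsub (by
    rw [List.toFinset_card_of_nodup hnodup, ← countBelow_eq, hc]; simp)
  rw [← List.mem_toFinset, heq]
  exact Finset.mem_filter.2 ⟨Finset.mem_range.2 (e.lt x), by simpa using hx⟩

theorem lab_mul {n : ℕ} (hn : n < 23) {x y : C} (hx : lab n (e.code x) ≠ 0)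
    (hy : lab n (e.code y) ≠ 0) :
    lab n (e.code (x * y)) = (lab n (e.code x) - 1 + (lab n (e.code y) - 1)) % 8 + 1 := by
  obtain ⟨h0, hg, hc, hm, -, hh⟩ := subTest_parts hn
  let P : C → Prop := fun y => lab n (e.code y) ≠ 0 ∧ ∀ x : C, lab n (e.code x) ≠ 0 →
    lab n (e.code (x * y)) = (lab n (e.code x) - 1 + (lab n (e.code y) - 1)) % 8 + 1
  have h1 : P 1 := by
    refine ⟨by rw [e.code_one, h0]; omega, fun x hx => ?_⟩
    rw [mul_one, e.code_one, h0]
    have := (hm _ (e.chain_mem hn hx)).2.2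
    omega
  rcases List.mem_cons.1 (e.chain_mem hn hy) with h | h
  · rw [e.code_eq_zero.1 h]; exact h1.2 x hx
  · refine (e.chain_induction P ?_ (fun g h => (hg g h).1) _ [0] hc ?_ ?_ _ h y rfl).2 x hx
    · intro u g hu hgm
      have hug : lab n (e.code (u * g)) = (lab n (e.code u) - 1 + (lab n (e.code g) - 1)) % 8 + 1 := by
        rw [e.mul]; exact hh _ hgm _ (e.chain_mem hn hu.1)
      refine ⟨by rw [hug]; omega, fun x hx => ?_⟩
      have hxu := hu.2 x hx
      have hxu0 : lab n (e.code (x * u)) ≠ 0 := by rw [hxu]; omega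
      rw [← mul_assoc, e.mul, hh _ hgm _ (e.chain_mem hn hxu0), hxu, hug]
      omega
    · intro a ha z hz
      rw [List.mem_singleton.1 ha] at hz
      rw [e.code_eq_zero.1 hz]; exact h1
    · intro a ha
      rw [List.mem_singleton.1 ha]; norm_num

/-- The monomial subgroup with a given number. -/
def subgp [Finite C] {n : ℕ} (hn : n < 23) : Subgroup C where
  carrier := {x | lab n (e.code x) ≠ 0}
  one_mem' := by show lab n (e.code 1) ≠ 0; rw [e.code_one, (subTest_parts hn).1]; omega
  mul_mem' := fun {a b} ha hb => by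
    show lab n (e.code (a * b)) ≠ 0
    rw [e.lab_mul hn ha hb]; omega
  inv_mem' := fun {a} ha => by
    have hpow : ∀ k : ℕ, lab n (e.code (a ^ k)) ≠ 0 := by
      intro k
      induction k with
      | zero => rw [pow_zero, e.code_one, (subTest_parts hn).1]; omega
      | succ k ih => rw [pow_succ, e.lab_mul hn ih ha]; omega
    show lab n (e.code a⁻¹) ≠ 0
    rw [inv_eq_of_mul_eq_one_right (b := a ^ (orderOf a - 1)) (by
      rw [← pow_succ', Nat.sub_add_cancel (orderOf_pos a), pow_orderOf_eq_one])]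
    exact hpow _

variable [Fintype C]

/-- The linear character. -/
noncomputable def linChar {n : ℕ} (hn : n < 23) : e.subgp hn →* ℂ where
  toFun x := z8 ^ (lab n (e.code x.1) - 1)
  map_one' := by rw [OneMemClass.coe_one, e.code_one, (subTest_parts hn).1]; simp
  map_mul' a b := by
    rw [Subgroup.coe_mul, e.lab_mul hn a.2 b.2, Nat.add_sub_cancel, ← pow_eq_pow_mod _ z8_pow,
      pow_add]

/-- The monomial character. -/
noncomputable def monChar {n : ℕ} (hn : n < 23) : C → ℂ :=
  indFun (e.subgp hn) (fun x => e.linChar hn x)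

theorem isCharacter_monChar {n : ℕ} (hn : n < 23) : IsCharacter C (e.monChar hn) :=
  CfsgLib.Induction.isCharacter_indFun _ (CfsgLib.Induction.isCharacter_monoidHom (e.linChar hn))

theorem sum_labCount (n k : ℕ) (h8 : ∀ y : C, lab n (e.code y) < 9) :
    ∑ y ∈ Finset.univ.filter (fun y : C => e.cl y = k),
        (if lab n (e.code y) ≠ 0 then z8 ^ (lab n (e.code y) - 1) else 0) =
      ∑ j ∈ Finset.range 8, (labCount n k j : ℂ) * z8 ^ j := by
  have h1 : ∀ y : C, (if lab n (e.code y) ≠ 0 then z8 ^ (lab n (e.code y) - 1) else 0) =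
      ∑ j ∈ Finset.range 8, if lab n (e.code y) = j + 1 then z8 ^ j else 0 := by
    intro y
    by_cases h : lab n (e.code y) ≠ 0
    · have hy := h8 y
      rw [if_pos h, Finset.sum_eq_single (lab n (e.code y) - 1)
        (fun j _ hj => if_neg (by omega))
        (fun hj => absurd (Finset.mem_range.2 (by omega)) hj), if_pos (by omega)]
    · rw [if_neg h, Finset.sum_eq_zero]
      intro j _
      exact if_neg (by omega)
  rw [Finset.sum_congr rfl fun y _ => h1 y, Finset.sum_comm]
  refine Finset.sum_congr rfl fun j _ => ?_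
  rw [← Finset.sum_filter, Finset.filter_filter, Finset.sum_const, nsmul_eq_mul]
  congr 2
  rw [labCount, ← e.card_filter_code]
  refine congrArg Finset.card (Finset.filter_congr fun y _ => ?_)
  simp [cl]

include e in
theorem card_subgp {n : ℕ} (hn : n < 23) :
    Nat.card (e.subgp hn) = countBelow 576 (fun x => lab n x != 0) := by
  classical
  rw [← e.card_filter_code, Nat.card_eq_fintype_card, Fintype.card_subtype]
  refine congrArg Finset.card (Finset.filter_congr fun x _ => ?_)
  show lab n (e.code x) ≠ 0 ↔ _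
  simp

theorem monChar_apply {n : ℕ} (hn : n < 23) (x : C) : e.monChar hn x = (valF n (e.cl x) : ℂ) := by
  classical
  have hk := e.cl_lt x
  set k := e.cl x with hkd
  have hv := allBelow_spec (allBelow_spec vals_ok n hn) k hk
  simp only [Bool.and_eq_true, beq_iff_eq] at hv
  obtain ⟨⟨⟨v1, v2⟩, v3⟩, v4⟩ := hv
  have h8 : ∀ y : C, lab n (e.code y) < 9 := by
    intro y
    by_cases h : lab n (e.code y) = 0
    · omega
    · exact ((subTest_parts hn).2.2.2.1 _ (e.chain_mem hn h)).2.2
  have hcf := isClassFunction_of_isGeneralizedCharacter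
    (isGeneralizedCharacter_of_isCharacter (e.isCharacter_monChar hn))
  set Ki := Finset.univ.filter fun y : C => e.cl y = k with hKi
  have h1 : ∑ y ∈ Ki, e.monChar hn y = (size k : ℂ) * e.monChar hn x := by
    rw [Finset.sum_congr rfl (g := fun _ => e.monChar hn x) (fun y hy => by
        obtain ⟨g, hg⟩ := isConj_iff.1 (e.isConj_of_cl
          (show e.cl x = e.cl y from hkd.symm.trans (Finset.mem_filter.1 hy).2.symm))
        rw [← hg]; exact hcf x g),
      Finset.sum_const, e.card_class hk, nsmul_eq_mul]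
  set ext0 := extendByZero (e.subgp hn) (fun h => e.linChar hn h)
  have h2 : ∀ g : C, ∑ y ∈ Ki, ext0 (g⁻¹ * y * g) = ∑ y ∈ Ki, ext0 y := by
    intro g
    refine Finset.sum_bij' (fun y _ => g⁻¹ * y * g) (fun y _ => g * y * g⁻¹) ?_ ?_ ?_ ?_ (fun _ _ => rfl)
    · intro y hy
      refine Finset.mem_filter.2 ⟨Finset.mem_univ _, ?_⟩
      rw [show g⁻¹ * y * g = g⁻¹ * y * g⁻¹⁻¹ by group, e.cl_conj]
      exact (Finset.mem_filter.1 hy).2
    · intro y hy
      refine Finset.mem_filter.2 ⟨Finset.mem_univ _, ?_⟩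
      rw [e.cl_conj]; exact (Finset.mem_filter.1 hy).2
    · intro y _; group
    · intro y _; group
  have h3 : ∑ y ∈ Ki, ext0 y = ∑ j ∈ Finset.range 8, (labCount n k j : ℂ) * z8 ^ j := by
    rw [← e.sum_labCount n k h8]
    refine Finset.sum_congr rfl fun y _ => ?_
    by_cases hy : lab n (e.code y) ≠ 0
    · rw [if_pos hy]
      simp only [ext0, CfsgLib.Induction.extendByZero_mem (e.subgp hn) _ (show y ∈ e.subgp hn from hy)]
      rfl
    · rw [if_neg hy]
      simp only [ext0, CfsgLib.Induction.extendByZero_notMem (e.subgp hn) _ (show y ∉ e.subgp hn from hy)]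
  have hc0 : (Nat.card (e.subgp hn) : ℂ) ≠ 0 := Nat.cast_ne_zero.2 Nat.card_pos.ne'
  have h4 : ∑ y ∈ Ki, e.monChar hn y =
      (Nat.card (e.subgp hn) : ℂ)⁻¹ * (576 * ∑ y ∈ Ki, ext0 y) := by
    simp only [monChar, CfsgLib.Induction.indFun_apply, ← Finset.mul_sum]
    congr 1
    rw [Finset.sum_comm, Finset.sum_congr rfl fun g _ => h2 g, Finset.sum_const, Finset.card_univ,
      ← Nat.card_eq_fintype_card, e.card_eq, nsmul_eq_mul]
    norm_num
  rw [h1, h3] at h4
  have hsz : (size k : ℂ) ≠ 0 := by
    have h := allBelow_spec size_ok k hk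
    simp only [Bool.and_eq_true, Nat.blt_eq] at h
    exact Nat.cast_ne_zero.2 h.2.ne'
  refine mul_left_cancel₀ hsz ?_
  rw [h4]
  have v4' : (valF n k : ℂ) * ((size k : ℂ) * (Nat.card (e.subgp hn) : ℂ)) =
      576 * ((labCount n k 0 : ℂ) - labCount n k 4) := by
    rw [e.card_subgp hn]; exact_mod_cast v4
  have hsum : ∑ j ∈ Finset.range 8, (labCount n k j : ℂ) * z8 ^ j =
      (labCount n k 0 : ℂ) - labCount n k 4 := by
    simp only [Finset.sum_range_succ, Finset.sum_range_zero, ← v1, ← v2, ← v3]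
    linear_combination ((labCount n k 4 : ℂ) + labCount n k 1 * z8 + labCount n k 2 * z8 ^ 2 +
      labCount n k 3 * z8 ^ 3) * z8_four
  rw [hsum]
  field_simp
  linear_combination -v4'

/-- The exceptional functions. -/
noncomputable def theta (j : ℕ) : C → ℂ := fun x => (thF j (e.cl x) : ℂ)

omit [Fintype C] in
theorem theta_conj (j : ℕ) (g x : C) : e.theta j (g * x * g⁻¹) = e.theta j x := by
  simp only [theta, e.cl_conj]

theorem foldl_eq_sum (f : ℕ → ℤ) : ∀ n, (List.range n).foldl (fun s i => s + f i) 0 =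
    ∑ i ∈ Finset.range n, f i
  | 0 => rfl
  | n + 1 => by rw [List.range_succ, List.foldl_append, foldl_eq_sum f n, Finset.sum_range_succ]; rfl

omit [Fintype C] in
theorem thF_spec {j k : ℕ} (hj : j < 11) (hk : k < 20) :
    ∑ n ∈ Finset.range 20, coefF j n * valF n k = thF j k ∧ (11 ≤ k → thF j k = 0) := by
  have h := allBelow_spec (allBelow_spec th_ok j hj) k hk
  simp only [Bool.and_eq_true, Bool.or_eq_true, beq_iff_eq, Nat.blt_eq] at h
  rw [foldl_eq_sum] at h
  exact ⟨h.1, fun h11 => h.2.resolve_left (by omega)⟩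

omit [Fintype C] in
theorem theta_eq_zero {j : ℕ} (hj : j < 11) {x : C} (hx : 11 ≤ e.cl x) : e.theta j x = 0 := by
  rw [theta, (thF_spec hj (e.cl_lt x)).2 hx, Int.cast_zero]

theorem isGeneralized_theta {j : ℕ} (hj : j < 11) : IsGeneralizedCharacter C (e.theta j) := by
  have key : e.theta j = ∑ n : Fin 20, (coefF j n : ℂ) • e.monChar (n := n) (lt_trans n.2 (by norm_num)) := by
    funext x
    simp only [Finset.sum_apply, Pi.smul_apply, smul_eq_mul, e.monChar_apply]
    rw [theta, ← (thF_spec hj (e.cl_lt x)).1, Int.cast_sum,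
      Finset.sum_range]
    push_cast
    rfl
  rw [key]
  exact isGeneralizedCharacter_sum _ fun n _ => isGeneralizedCharacter_intCast_smul
    (isGeneralizedCharacter_of_isCharacter (e.isCharacter_monChar _)) _

end Coded

end CfsgLib.GTwoTwoLocal
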