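import Mathlib.GroupTheory.Perm.Cycle.Type
import Mathlib.GroupTheory.QuotientGroup.Basic
import Mathlib.GroupTheory.PGroup
import Mathlib.Tactic.Group

/-!
# An involution acting on a group of odd order
-/

set_option autoImplicit false
set_option linter.unusedSectionVars false

namespace CfsgLib.GTwoTwoLocal

variable {G : Type*} [Group G] [Finite G]

theorem eq_one_of_sq_odd {x : G} (h2 : x * x = 1) (hodd : Odd (orderOf x)) : x = 1 := by
  obtain ⟨m, hm⟩ := hodd
  have h := pow_orderOf_eq_one x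
  rwa [hm, pow_succ, pow_mul, pow_two, h2, one_pow, one_mul] at h

theorem odd_orderOf {O : Subgroup G} (hO : Odd (Nat.card O)) {x : G} (hx : x ∈ O) : Odd (orderOf x) :=
  hO.of_dvd_nat (Subgroup.orderOf_dvd_natCard O hx)

/-- An involution of a set of odd size fixes a point. -/
theorem exists_fixed {α : Type*} [Finite α] (hodd : Odd (Nat.card α)) (f : α → α)
    (hf : Function.Involutive f) : ∃ x, f x = x := by
  have := Fintype.ofFinite α
  have : Fact (Nat.Prime 2) := ⟨Nat.prime_two⟩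
  refine Equiv.Perm.exists_fixed_point_of_prime (p := 2) (n := 1) ?_ (σ := hf.toPerm f) ?_
  · rw [← Nat.card_eq_fintype_card]
    exact fun h => Nat.not_even_iff_odd.2 hodd (even_iff_two_dvd.2 h)
  · ext x; simp [pow_two, hf x]

/-- The hypotheses: `u` acts on `O` with fixed points the central subgroup `C`. -/
structure Inverting (O C : Subgroup G) (u : G) : Prop where
  odd : Odd (Nat.card O)
  sq : u * u = 1
  norm : ∀ x ∈ O, u * x * u ∈ O
  le : C ≤ O
  central : ∀ c ∈ C, ∀ x ∈ O, c * x = x * c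
  fix : ∀ x ∈ O, u * x * u = x → x ∈ C
  cent : ∀ c ∈ C, u * c * u = c

namespace Inverting

variable {O C : Subgroup G} {u : G} (I : Inverting O C u)
include I

theorem inv_u : u⁻¹ = u := inv_eq_of_mul_eq_one_right I.sq

theorem conj_mul_u (x y : G) : u * (x * y) * u = (u * x * u) * (u * y * u) := by
  have := I.sq
  calc u * (x * y) * u = u * x * (u * u) * y * u := by rw [I.sq]; group
    _ = _ := by group

theorem conj_inv_u (x : G) : u * x⁻¹ * u = (u * x * u)⁻¹ := by
  rw [mul_inv_rev, mul_inv_rev, I.inv_u, mul_assoc]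

theorem conj_conj (x : G) : u * (u * x * u) * u = x := by
  calc u * (u * x * u) * u = (u * u) * x * (u * u) := by group
    _ = x := by rw [I.sq]; group

/-- Each coset of the fixed points contains an inverted element. -/
theorem exists_inverted {x : G} (hx : x ∈ O) :
    ∃ i ∈ O, u * i * u = i⁻¹ ∧ i⁻¹ * x ∈ C := by
  classical
  let C' : Subgroup O := C.subgroupOf O
  let φ : O → O := fun y => ⟨(y : G)⁻¹ * (u * y * u), mul_mem (inv_mem y.2) (I.norm y y.2)⟩
  have hφinv : ∀ y : O, u * (φ y : G) * u = (φ y : G)⁻¹ := fun y => by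
    show u * ((y : G)⁻¹ * (u * y * u)) * u = ((y : G)⁻¹ * (u * y * u))⁻¹
    rw [I.conj_mul_u, I.conj_inv_u, I.conj_conj]; group
  have key : ∀ y y' : O, (φ y : G)⁻¹ * (φ y' : G) ∈ C → (y : G)⁻¹ * (y' : G) ∈ C := by
    intro y y' h
    have hPmem := (φ y).2
    have hP := hφinv y
    have h1 := hφinv y'
    obtain ⟨P, hPdef⟩ : ∃ P, P = (φ y : G) := ⟨_, rfl⟩
    obtain ⟨P', hP'def⟩ : ∃ P', P' = (φ y' : G) := ⟨_, rfl⟩
    rw [← hPdef] at hP h hPmem
    rw [← hP'def] at h1 h
    obtain ⟨c, hcdef⟩ : ∃ c, c = P⁻¹ * P' := ⟨_, rfl⟩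
    rw [← hcdef] at h
    have hc : P' = P * c := by rw [hcdef]; group
    rw [hc, I.conj_mul_u, hP, I.cent c h, mul_inv_rev] at h1
    have hcomm : P⁻¹ * c = c * P⁻¹ := (I.central c h _ (inv_mem hPmem)).symm
    rw [hcomm, mul_left_inj] at h1
    have hc1 : c = 1 := eq_one_of_sq_odd (mul_eq_one_iff_eq_inv.2 h1) (odd_orderOf I.odd (I.le h))
    rw [hc1, mul_one, hPdef, hP'def] at hc
    have hfix : u * ((y : G) * (y' : G)⁻¹) * u = (y : G) * (y' : G)⁻¹ := by
      have e : (y' : G)⁻¹ * (u * y' * u) = (y : G)⁻¹ * (u * y * u) := hc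
      rw [I.conj_mul_u, I.conj_inv_u, show u * (y : G) * u = y * ((y : G)⁻¹ * (u * y * u)) by group, ← e]
      group
    have hC := I.fix _ (mul_mem y.2 (inv_mem y'.2)) hfix
    have : (y : G) * (y' : G)⁻¹ = (y' : G)⁻¹ * y := by
      have h' := I.central _ hC (y' : G) y'.2
      rw [inv_mul_cancel_right] at h'
      calc (y : G) * (y' : G)⁻¹ = (y' : G)⁻¹ * ((y' : G) * ((y : G) * (y' : G)⁻¹)) := by group
        _ = (y' : G)⁻¹ * y := by rw [← h']
    rw [this] at hC
    simpa using inv_mem hC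
  have hsurj : Function.Surjective (fun q : O ⧸ C' => (QuotientGroup.mk (φ q.out) : O ⧸ C')) := by
    refine Finite.injective_iff_surjective.1 fun p q hpq => ?_
    simp only [QuotientGroup.eq, C', Subgroup.mem_subgroupOf, Subgroup.coe_mul, Subgroup.coe_inv] at hpq
    rw [← p.out_eq, ← q.out_eq]
    exact QuotientGroup.eq.2 (key _ _ hpq)
  obtain ⟨q, hq⟩ := hsurj (QuotientGroup.mk ⟨x, hx⟩)
  simp only [QuotientGroup.eq, C', Subgroup.mem_subgroupOf, Subgroup.coe_mul, Subgroup.coe_inv] at hq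
  exact ⟨_, (φ q.out).2, hφinv _, hq⟩

/-- `u` inverts `O` modulo the fixed points. -/
theorem mem {x : G} (hx : x ∈ O) : u * x * u * x ∈ C := by
  obtain ⟨i, hiO, hi, hc⟩ := I.exists_inverted hx
  have e : u * x * u * x = (i⁻¹ * x) * (i⁻¹ * x) := by
    have h' : u * x * u = i⁻¹ * (i⁻¹ * x) := by
      conv_lhs => rw [show x = i * (i⁻¹ * x) by group]
      rw [I.conj_mul_u, hi, I.cent _ hc]
    rw [h', ← I.central _ hc _ (inv_mem hiO), mul_assoc]
  rw [e]; exact mul_mem hc hc

/-- `O` is abelian modulo the fixed points. -/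
theorem comm {x y : G} (hx : x ∈ O) (hy : y ∈ O) : x⁻¹ * y⁻¹ * x * y ∈ C := by
  have h1 := I.mem hx
  have h2 := I.mem hy
  have h3 := I.mem (mul_mem hx hy)
  rw [I.conj_mul_u] at h3
  have e : (u * x * u) * (u * y * u) * (x * y) =
      (u * x * u * x) * ((u * y * u * y) * (x⁻¹ * y⁻¹ * x * y)) := by
    have hc := I.central _ h2 _ (inv_mem hx)
    calc (u * x * u) * (u * y * u) * (x * y)
        = (u * x * u * x) * (x⁻¹ * (u * y * u * y)) * (y⁻¹ * x * y) := by group
      _ = (u * x * u * x) * ((u * y * u * y) * x⁻¹) * (y⁻¹ * x * y) := by rw [← hc]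
      _ = _ := by group
  rw [e] at h3
  exact (mul_mem_cancel_left h2).1 ((mul_mem_cancel_left h1).1 h3)

/-- An invariant coset of the fixed points contains a fixed point of a second involution. -/
theorem exists_fixed_in_coset {v : G} (hv : v * v = 1) (hvC : ∀ c ∈ C, v * c * v ∈ C) {x : G}
    (hvx : x⁻¹ * (v * x * v) ∈ C) : ∃ c ∈ C, v * (x * c) * v = x * c := by
  have hinv : v⁻¹ = v := inv_eq_of_mul_eq_one_right hv
  let f : C → C := fun c => ⟨x⁻¹ * (v * x * v) * (v * c * v), mul_mem hvx (hvC c c.2)⟩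
  have hf : Function.Involutive f := by
    intro c
    apply Subtype.ext
    show x⁻¹ * (v * x * v) * (v * (x⁻¹ * (v * x * v) * (v * c * v)) * v) = (c : G)
    calc x⁻¹ * (v * x * v) * (v * (x⁻¹ * (v * x * v) * (v * c * v)) * v)
        = x⁻¹ * v * x * (v * v) * x⁻¹ * v * x * (v * v) * c * (v * v) := by group
      _ = x⁻¹ * v * v * x * c := by rw [hv]; group
      _ = (c : G) := by rw [mul_assoc x⁻¹ v v, hv]; group
  have hCodd : Odd (Nat.card C) := I.odd.of_dvd_nat (Subgroup.card_dvd_of_le I.le)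
  obtain ⟨c, hc⟩ := exists_fixed hCodd f hf
  refine ⟨c, c.2, ?_⟩
  have hc' : x⁻¹ * (v * x * v) * (v * c * v) = c := congrArg Subtype.val hc
  calc v * (x * c) * v = x * (x⁻¹ * (v * x * v) * (v * c * v)) := by
        calc v * (x * c) * v = v * x * (v * v) * c * v := by rw [hv]; group
          _ = _ := by group
    _ = x * c := by rw [hc']

end Inverting

end CfsgLib.GTwoTwoLocal
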