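import Cfsg.Agent.Lib.GTwoTwoLocal.Data
import Mathlib.Logic.Basic

/-!
# The centraliser model for `G2(3)`

Elements of `{(A, B) ∈ GL(2,3)² : det A = det B} / ⟨(-1,-1)⟩` are coded by numbers below `576`.  Matrices are
numbered below `48` with determinant one first and negation flipping the last bit; a class is coded by
`24 * (A / 2) + B % 24` for its representative with `A` even.
-/

set_option autoImplicit false
set_option maxRecDepth 100000

namespace CfsgLib.GTwoTwoLocal.Model

/-- Product of matrix numbers. -/
def tab (a b : ℕ) : ℕ := (tabD >>> (6 * (48 * a + b))) &&& 63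

/-- Negation of a matrix number. -/
def negM (a : ℕ) : ℕ := a ^^^ 1

/-- Whether the determinant is `-1`. -/
def odd2 (a : ℕ) : Bool := Nat.ble 24 a

/-- Code of a pair. -/
def norm (a b : ℕ) : ℕ :=
  if a % 2 == 0 then a / 2 * 24 + b % 24 else negM a / 2 * 24 + negM b % 24

/-- First matrix of a code. -/
def fstM (x : ℕ) : ℕ := 2 * (x / 24)

/-- Second matrix of a code. -/
def sndM (x : ℕ) : ℕ := if Nat.blt x 288 then x % 24 else x % 24 + 24

/-- Product of codes. -/
def mulC (x y : ℕ) : ℕ := norm (tab (fstM x) (fstM y)) (tab (sndM x) (sndM y))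

/-- Class of a code. -/
def cls (x : ℕ) : ℕ := (clsD >>> (5 * x)) &&& 31

/-- Conjugator from the representative. -/
def wit (x : ℕ) : ℕ := (witD >>> (10 * x)) &&& 1023

/-- Inverse of a code. -/
def invC (x : ℕ) : ℕ := (invD >>> (10 * x)) &&& 1023

/-- Representative of a class. -/
def rep (k : ℕ) : ℕ := repL.getD k 0

/-- Size of a class. -/
def size (k : ℕ) : ℕ := sizeL.getD k 0

/-- Label of a monomial subgroup: `0` outside, otherwise exponent plus one. -/
def lab (n x : ℕ) : ℕ := (labL.getD n 0 >>> (4 * x)) &&& 15

/-- Value of a monomial character. -/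
def valF (n k : ℕ) : ℤ := (valL.getD n []).getD k 0

/-- Coefficient of an exceptional function. -/
def coefF (j n : ℕ) : ℤ := (coefL.getD j []).getD n 0

/-- Value of an exceptional function. -/
def thF (j k : ℕ) : ℤ := (thL.getD j []).getD k 0

/-- Boolean bounded quantifier. -/
def allBelow : ℕ → (ℕ → Bool) → Bool
  | 0, _ => true
  | n + 1, p => allBelow n p && p n

theorem allBelow_spec {n : ℕ} {p : ℕ → Bool} (h : allBelow n p = true) : ∀ i < n, p i = true := by
  induction n with
  | zero => intro i hi; omega
  | succ n ih =>
    simp only [allBelow, Bool.and_eq_true] at h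
    intro i hi
    rcases Nat.lt_succ_iff_lt_or_eq.1 hi with hi' | hi'
    · exact ih h.1 i hi'
    · exact hi' ▸ h.2

/-- Number of elements below `n` satisfying `p`. -/
def countBelow : ℕ → (ℕ → Bool) → ℕ
  | 0, _ => 0
  | n + 1, p => countBelow n p + (if p n then 1 else 0)

/-- The elements of a chain. -/
def chainElems (gs : List ℕ) : List (ℕ × ℕ × ℕ) → List ℕ → Bool
  | [], _ => true
  | (y, i, k) :: r, acc =>
    Nat.blt i acc.length && Nat.blt k gs.length && y == mulC (acc.getD i 0) (gs.getD k 0) &&
      chainElems gs r (acc ++ [y])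

/-- A subgroup check: the chain generates every labelled element, generators are labelled, and
multiplication by a generator adds exponents. -/
def subTest (n : ℕ) : Bool :=
  let gs := genL.getD n []
  let ch := chainL.getD n []
  lab n 0 == 1 && gs.all (fun g => Nat.blt g 576 && lab n g != 0) &&
    chainElems gs ch [0] &&
    (0 :: ch.map Prod.fst).all (fun x => Nat.blt x 576 && lab n x != 0 && Nat.blt (lab n x) 9) &&
    countBelow 576 (fun x => lab n x != 0) == ch.length + 1 &&
    gs.all (fun g => (0 :: ch.map Prod.fst).all fun x =>
      lab n (mulC x g) == (lab n x - 1 + (lab n g - 1)) % 8 + 1)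

/-- Number of elements of a class with given exponent. -/
def labCount (n k e : ℕ) : ℕ := countBelow 576 (fun x => cls x == k && lab n x == e + 1)

/-- The value table of monomial characters. -/
def valTest (n : ℕ) : Bool :=
  let L := countBelow 576 (fun x => lab n x != 0)
  allBelow 20 fun k =>
    labCount n k 1 == labCount n k 5 && labCount n k 2 == labCount n k 6 &&
      labCount n k 3 == labCount n k 7 &&
      valF n k * ((size k * L : ℕ) : ℤ) == 576 * ((labCount n k 0 : ℤ) - (labCount n k 4 : ℤ))

/-- The combinations give the exceptional functions, supported on the first eleven classes. -/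
def thTest (j : ℕ) : Bool :=
  allBelow 20 fun k =>
    ((List.range 20).foldl (fun s n => s + coefF j n * valF n k) 0 == thF j k) &&
      (Nat.blt k 11 || thF j k == 0)

end CfsgLib.GTwoTwoLocal.Model
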