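import Cfsg.Agent.Lib.GTwoTwoLocal.Model

/-!
# Checks on the centraliser model
-/

set_option autoImplicit false
set_option maxRecDepth 100000

namespace CfsgLib.GTwoTwoLocal.Model

theorem tab_ok : allBelow 48 (fun a => allBelow 48 fun b =>
    Nat.blt (tab a b) 48 && (odd2 (tab a b) == (odd2 a != odd2 b)) &&
      tab (negM a) b == negM (tab a b) && tab a (negM b) == negM (tab a b)) = true := by decide +kernel

theorem norm_ok : allBelow 48 (fun a => allBelow 48 fun b =>
    (odd2 a != odd2 b) || (Nat.blt (norm a b) 576 && norm (negM a) (negM b) == norm a b &&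
      ((fstM (norm a b) == a && sndM (norm a b) == b) ||
        (fstM (norm a b) == negM a && sndM (norm a b) == negM b)))) = true := by decide +kernel

theorem code_ok : allBelow 576 (fun x => Nat.blt (fstM x) 48 && Nat.blt (sndM x) 48 &&
    (odd2 (fstM x) == odd2 (sndM x)) && norm (fstM x) (sndM x) == x) = true := by decide +kernel

theorem inv_ok : allBelow 576 (fun x => Nat.blt (invC x) 576 && mulC x (invC x) == 0 &&
    mulC (invC x) x == 0 && mulC x 0 == x) = true := by decide +kernel

theorem wit_ok : allBelow 576 (fun x => Nat.blt (cls x) 20 && Nat.blt (wit x) 576 &&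
    mulC x (wit x) == mulC (wit x) (rep (cls x))) = true := by decide +kernel

theorem size_ok : allBelow 20 (fun k => Nat.blt (rep k) 576 && cls (rep k) == k &&
    countBelow 576 (fun x => cls x == k) == size k && Nat.blt 0 (size k)) = true := by decide +kernel

/-- Generators of the model. -/
def gensM : List ℕ := genL.getD 0 []

theorem conj_ok : gensM.all (fun g => allBelow 576 fun x =>
    cls (mulC (mulC g x) (invC g)) == cls x) = true := by decide +kernel

theorem subs_ok : allBelow 23 subTest = true := by decide +kernel

theorem vals_ok : allBelow 23 valTest = true := by decide +kernel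

theorem th_ok : allBelow 11 thTest = true := by decide +kernel

end CfsgLib.GTwoTwoLocal.Model
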