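import Cfsg.Agent.Lib.GTwoTwoLocal.Model
import Mathlib.LinearAlgebra.Matrix.SpecialLinearGroup
import Mathlib.LinearAlgebra.Matrix.Determinant.Basic
import Mathlib.Data.ZMod.Basic

/-!
# `SL(2, 3)` in the numbering of the model
-/

set_option autoImplicit false
set_option maxRecDepth 100000

namespace CfsgLib.GTwoTwoLocal

open Model

/-- `SL(2, 3)`. -/
abbrev SL : Type := Matrix.SpecialLinearGroup (Fin 2) (ZMod 3)

/-- Entries of the numbered matrices. -/
def matL : List (ZMod 3 × ZMod 3 × ZMod 3 × ZMod 3) :=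
  [(1, 0, 0, 1), (2, 0, 0, 2), (0, 1, 2, 0), (0, 2, 1, 0), (0, 1, 2, 1), (0, 2, 1, 2), (0, 1, 2, 2), (0, 2, 1, 1), (1, 0, 1, 1), (2, 0, 2, 2), (1, 0, 2, 1), (2, 0, 1, 2), (1, 1, 0, 1), (2, 2, 0, 2), (1, 1, 1, 2), (2, 2, 2, 1), (1, 1, 2, 0), (2, 2, 1, 0), (1, 2, 0, 1), (2, 1, 0, 2), (1, 2, 1, 0), (2, 1, 2, 0), (1, 2, 2, 2), (2, 1, 1, 1), (0, 1, 1, 0), (0, 2, 2, 0), (0, 1, 1, 1), (0, 2, 2, 2), (0, 1, 1, 2), (0, 2, 2, 1), (1, 0, 0, 2), (2, 0, 0, 1), (1, 0, 1, 2), (2, 0, 2, 1), (1, 0, 2, 2), (2, 0, 1, 1), (1, 1, 0, 2), (2, 2, 0, 1), (1, 1, 1, 0), (2, 2, 2, 0), (1, 1, 2, 1), (2, 2, 1, 2), (1, 2, 0, 2), (2, 1, 0, 1), (1, 2, 1, 1), (2, 1, 2, 2), (1, 2, 2, 0), (2, 1, 1, 0)]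

/-- The entries of a number. -/
def entries (n : ℕ) : ZMod 3 × ZMod 3 × ZMod 3 × ZMod 3 := matL.getD n (1, 0, 0, 1)

theorem det_entries : ∀ n : Fin 24,
    (entries n).1 * (entries n).2.2.2 - (entries n).2.1 * (entries n).2.2.1 = 1 := by decide +kernel

/-- The element with a given number, below `24`. -/
def slOf (n : ℕ) (h : n < 24) : SL :=
  ⟨!![(entries n).1, (entries n).2.1; (entries n).2.2.1, (entries n).2.2.2],
    by rw [Matrix.det_fin_two]; simpa using det_entries ⟨n, h⟩⟩

/-- The element of `SL(2, 3)` with a given number. -/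
def toSL (n : ℕ) : SL :=
  if h : n < 24 then slOf n h else 1

/-- Entries of an element. -/
def coordsSL (g : SL) : ZMod 3 × ZMod 3 × ZMod 3 × ZMod 3 := (g.1 0 0, g.1 0 1, g.1 1 0, g.1 1 1)

theorem coordsSL_injective : Function.Injective coordsSL := by
  intro a b h
  simp only [coordsSL, Prod.mk.injEq] at h
  obtain ⟨h1, h2, h3, h4⟩ := h
  ext i j
  fin_cases i <;> fin_cases j <;> assumption

theorem coords_toSL {n : ℕ} (h : n < 24) : coordsSL (toSL n) = entries n := by
  rw [toSL, dif_pos h]
  rfl

theorem coords_mul (a b : SL) : coordsSL (a * b) =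
    (a.1 0 0 * b.1 0 0 + a.1 0 1 * b.1 1 0, a.1 0 0 * b.1 0 1 + a.1 0 1 * b.1 1 1,
      a.1 1 0 * b.1 0 0 + a.1 1 1 * b.1 1 0, a.1 1 0 * b.1 0 1 + a.1 1 1 * b.1 1 1) := by
  simp [coordsSL, Matrix.mul_apply, Fin.sum_univ_two]

theorem tab_entries : ∀ a b : Fin 24, tab a b < 24 ∧ entries (tab a b) =
    ((entries a).1 * (entries b).1 + (entries a).2.1 * (entries b).2.2.1,
      (entries a).1 * (entries b).2.1 + (entries a).2.1 * (entries b).2.2.2,
      (entries a).2.2.1 * (entries b).1 + (entries a).2.2.2 * (entries b).2.2.1,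
      (entries a).2.2.1 * (entries b).2.1 + (entries a).2.2.2 * (entries b).2.2.2) := by decide +kernel

theorem tab_lt {a b : ℕ} (ha : a < 24) (hb : b < 24) : tab a b < 24 := (tab_entries ⟨a, ha⟩ ⟨b, hb⟩).1

theorem toSL_tab {a b : ℕ} (ha : a < 24) (hb : b < 24) : toSL (tab a b) = toSL a * toSL b := by
  apply coordsSL_injective
  have h := tab_entries ⟨a, ha⟩ ⟨b, hb⟩
  rw [coords_toSL h.1, h.2, coords_mul]
  have ea := coords_toSL ha
  have eb := coords_toSL hb
  simp only [coordsSL, Prod.ext_iff] at ea eb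
  obtain ⟨a1, a2, a3, a4⟩ := ea
  obtain ⟨b1, b2, b3, b4⟩ := eb
  simp only [a1, a2, a3, a4, b1, b2, b3, b4]

theorem exists_number_aux : ∀ p : ZMod 3 × ZMod 3 × ZMod 3 × ZMod 3,
    p.1 * p.2.2.2 - p.2.1 * p.2.2.1 = 1 → ∃ n : Fin 24, entries n = p := by decide +kernel

theorem exists_number (g : SL) : ∃ n < 24, toSL n = g := by
  obtain ⟨n, hn⟩ := exists_number_aux (coordsSL g) (by
    have := g.2
    rw [Matrix.det_fin_two] at this
    exact this)
  exact ⟨n, n.2, coordsSL_injective (by rw [coords_toSL n.2, hn])⟩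

theorem entries_injective : ∀ a b : Fin 24, entries a = entries b → a = b := by decide +kernel

theorem toSL_injective {a b : ℕ} (ha : a < 24) (hb : b < 24) (h : toSL a = toSL b) : a = b :=
  congrArg Fin.val (entries_injective ⟨a, ha⟩ ⟨b, hb⟩ (by rw [← coords_toSL ha, h, coords_toSL hb]))

theorem toSL_zero : toSL 0 = 1 := by
  apply coordsSL_injective
  rw [coords_toSL (by norm_num)]
  rfl

/-- The number of the reflection `diag (1, -1)`. -/
def dNum : ℕ := 30

/-- Words in the two transvections. -/
def wordL : List (List Bool) :=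
  [[],
  [false, true, false, true],
  [false, true, true, false],
  [true, false, false, true],
  [false, true, true],
  [false, false, true, false],
  [true, false, true, true],
  [false, false, true],
  [true],
  [false, true, false, true, true],
  [true, true],
  [false, true, false],
  [false],
  [false, false, true, false, true],
  [true, false],
  [false, false, true, true],
  [true, true, false],
  [false, true, false, false],
  [false, false],
  [true, false, true],
  [true, false, false],
  [true, true, false, true],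
  [true, true, false, false],
  [false, true]]

/-- Value of a word. -/
def evalW (u v : ℕ) (w : List Bool) : ℕ := w.foldl (fun a b => tab a (if b then v else u)) 0

/-- Inverse of a matrix number. -/
def invM (a : ℕ) : ℕ := ((List.range 48).find? fun b => tab a b == 0).getD 0

/-- Conjugate of a matrix number. -/
def conjM (w x : ℕ) : ℕ := tab (tab w x) (invM w)

/-- Whether the images `u, v` of the transvections define an involutive automorphism that is neither inner
nor conjugate to conjugation by the reflection. -/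
def badPair (u v : ℕ) : Bool :=
  let α := fun x => evalW u v (wordL.getD x [])
  ((List.range 24).all fun x => α (tab x 12) == tab (α x) u && α (tab x 8) == tab (α x) v &&
    α (α x) == x) &&
  !((List.range 24).any fun a => (List.range 24).all fun x => α x == conjM a x) &&
  !((List.range 48).any fun w => (List.range 24).all fun x => α (conjM w x) == conjM w (conjM dNum x))

theorem no_bad_pair : (List.range 24).all (fun u => (List.range 24).all fun v => !badPair u v) = true := by
  decide +kernel

theorem word_ok : (List.range 24).all (fun x => evalW 12 8 (wordL.getD x []) == x) = true := by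
  decide +kernel

end CfsgLib.GTwoTwoLocal
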