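import Cfsg.Agent.Lib.GTwoTwoLocal.TwoLocal
import Mathlib.GroupTheory.Perm.Support
import Mathlib.GroupTheory.Perm.Fin
import Mathlib.GroupTheory.QuotientGroup.Basic
import Mathlib.Data.Fintype.Perm
import Mathlib.Tactic.FinCases

/-!
# The action of the two-local subgroup on the three classes, and an outer involution
-/

set_option autoImplicit false
set_option linter.unusedSectionVars false
set_option linter.unusedVariables false
set_option maxRecDepth 100000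

namespace CfsgLib.GTwoTwoLocal

open CfsgLib.GL23 (Ct mem_Ct)

namespace Cfg

variable {G : Type*} [Group G] [Finite G] (c : Cfg G)

/-- Representatives of the three classes. -/
def rep (e e' : G) : Fin 3 → G := ![e, e', e * e']

variable {c}

theorem Indep.rep_mem {e e' : G} (h : c.Indep e e') (i : Fin 3) :
    rep e e' i ∈ c.E ∧ rep e e' i ≠ 1 ∧ rep e e' i ≠ c.z := by
  obtain ⟨he, he', h1, h2, h1', h2', h3, h4⟩ := h
  fin_cases i
  · exact ⟨he, h1, h2⟩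
  · exact ⟨he', h1', h2'⟩
  · refine ⟨mul_mem he he', fun h => h3 ?_, fun h => h4 ?_⟩
    · show e' = e
      have h' : e * e' = 1 := h
      rw [← mul_one e, ← h', ← mul_assoc, c.sq_E e he, one_mul]
    · have h' : e * e' = c.z := h
      rw [← h', ← mul_assoc, c.sq_E e he, one_mul]

theorem Indep.rep_eq {e e' : G} (h : c.Indep e e') {i j : Fin 3}
    (hij : rep e e' i = rep e e' j ∨ rep e e' i = rep e e' j * c.z) : i = j := by
  obtain ⟨he, he', h1, h2, h1', h2', h3, h4⟩ := h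
  have hz : c.z * c.z = 1 := c.z_sq
  have cz : e' * c.z = c.z * e' := c.comm_E he' c.z_mem
  fin_cases i <;> fin_cases j <;> simp [rep] at hij ⊢
  · rcases hij with a | a
    · exact h3 a.symm
    · exact h4 (by rw [a, mul_assoc, hz, mul_one])
  · rcases hij with a | a
    · exact h1' a
    · exact h2' (mul_eq_one_iff_eq_inv.1 (mul_left_cancel (a := e) (by rw [← mul_assoc, ← a, mul_one]))
        |>.trans (c.inv_E c.z_mem))
  · rcases hij with a | a
    · exact h3 a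
    · exact h4 a
  · rcases hij with a | a
    · exact h1 a
    · refine h2 ?_
      rw [mul_assoc, cz, ← mul_assoc, eq_comm, mul_eq_right] at a
      exact (mul_eq_one_iff_eq_inv.1 a).trans (c.inv_E c.z_mem)
  · rcases hij with a | a
    · exact h1' a
    · exact h2' a
  · rcases hij with a | a
    · exact h1 a
    · refine h2 (mul_right_cancel (b := e') ?_)
      rw [a, cz]

theorem Indep.exists_rep {e e' : G} (h : c.Indep e e') {y : G} (hy : y ∈ c.E) (h1 : y ≠ 1)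
    (h2 : y ≠ c.z) : ∃ j, y = rep e e' j ∨ y = rep e e' j * c.z := by
  rcases h.gen hy with a | a | a | a | a | a | a | a
  · exact absurd a h1
  · exact absurd a h2
  exacts [⟨0, Or.inl a⟩, ⟨0, Or.inr a⟩, ⟨1, Or.inl a⟩, ⟨1, Or.inr a⟩, ⟨2, Or.inl a⟩, ⟨2, Or.inr a⟩]

theorem Indep.fix_two {e e' : G} {u : G} {j k : Fin 3} (hjk : j ≠ k) (h : c.Indep e e')
    (hj : u * rep e e' j * u⁻¹ = rep e e' j) (hk : u * rep e e' k * u⁻¹ = rep e e' k) :
    u * e * u⁻¹ = e ∧ u * e' * u⁻¹ = e' := by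
  have h02 : u * e * u⁻¹ = e → u * (e * e') * u⁻¹ = e * e' → u * e' * u⁻¹ = e' := fun a b => by
    rw [← conj_mul, a] at b
    exact mul_left_cancel b
  have h12 : u * e' * u⁻¹ = e' → u * (e * e') * u⁻¹ = e * e' → u * e * u⁻¹ = e := fun a b => by
    rw [← conj_mul, a] at b
    exact mul_right_cancel b
  fin_cases j <;> fin_cases k
  exacts [absurd rfl hjk, ⟨hj, hk⟩, ⟨hj, h02 hj hk⟩, ⟨hk, hj⟩, absurd rfl hjk, ⟨h12 hj hk, hj⟩,
    ⟨hk, h02 hk hj⟩, ⟨h12 hk hj, hk⟩, absurd rfl hjk]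

theorem conj_ne {x y : G} (hx : x ∈ c.N) (h : y ≠ 1 ∧ y ≠ c.z) :
    x * y * x⁻¹ ≠ 1 ∧ x * y * x⁻¹ ≠ c.z := by
  refine ⟨fun a => h.1 (conj_eq_one_iff.1 a), fun a => h.2 ?_⟩
  have hz := c.conj_z hx
  calc y = x⁻¹ * (x * y * x⁻¹) * x := by group
    _ = x⁻¹ * (x * c.z * x⁻¹) * x := by rw [a, hz]
    _ = c.z := by group

theorem Indep.exists_image {e e' : G} (h : c.Indep e e') (x : c.N) (i : Fin 3) :
    ∃ j, (x : G) * rep e e' i * (x : G)⁻¹ = rep e e' j ∨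
      (x : G) * rep e e' i * (x : G)⁻¹ = rep e e' j * c.z :=
  h.exists_rep (c.conj_E _ x.2.1 _ (h.rep_mem i).1) (conj_ne x.2 (h.rep_mem i).2).1
    (conj_ne x.2 (h.rep_mem i).2).2

/-- The induced map of the three classes. -/
noncomputable def Indep.img {e e' : G} (h : c.Indep e e') (x : c.N) (i : Fin 3) : Fin 3 :=
  (h.exists_image x i).choose

theorem Indep.img_spec {e e' : G} (h : c.Indep e e') (x : c.N) (i : Fin 3) :
    (x : G) * rep e e' i * (x : G)⁻¹ = rep e e' (h.img x i) ∨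
      (x : G) * rep e e' i * (x : G)⁻¹ = rep e e' (h.img x i) * c.z :=
  (h.exists_image x i).choose_spec

theorem Indep.img_eq {e e' : G} (h : c.Indep e e') {x : c.N} {i j : Fin 3}
    (hj : (x : G) * rep e e' i * (x : G)⁻¹ = rep e e' j ∨
      (x : G) * rep e e' i * (x : G)⁻¹ = rep e e' j * c.z) : h.img x i = j := by
  refine h.rep_eq ?_
  rcases h.img_spec x i with a | a <;> rcases hj with b | b <;> rw [a] at b
  · exact Or.inl b
  · exact Or.inr b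
  · right; rw [← b, mul_assoc, c.z_sq, mul_one]
  · exact Or.inl (mul_right_cancel b)

theorem Indep.img_mul {e e' : G} (h : c.Indep e e') (x y : c.N) (i : Fin 3) :
    h.img (x * y) i = h.img x (h.img y i) := by
  apply h.img_eq
  have e1 : ((x * y : c.N) : G) * rep e e' i * ((x * y : c.N) : G)⁻¹ =
      (x : G) * ((y : G) * rep e e' i * (y : G)⁻¹) * (x : G)⁻¹ := by
    rw [Subgroup.coe_mul]; group
  rw [e1]
  rcases h.img_spec y i with a | a <;> rcases h.img_spec x (h.img y i) with b | b <;> rw [a]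
  · exact Or.inl b
  · exact Or.inr b
  · right; rw [← conj_mul, b, c.conj_z x.2]
  · left; rw [← conj_mul, b, c.conj_z x.2, mul_assoc, c.z_sq, mul_one]

theorem Indep.img_one {e e' : G} (h : c.Indep e e') (i : Fin 3) : h.img 1 i = i :=
  h.img_eq (Or.inl (by simp))

/-- The permutation of the three classes. -/
noncomputable def Indep.perm {e e' : G} (h : c.Indep e e') : c.N →* Equiv.Perm (Fin 3) :=
  MonoidHom.mk' (fun x =>
    { toFun := h.img x
      invFun := h.img x⁻¹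
      left_inv := fun i => by rw [← h.img_mul, inv_mul_cancel, h.img_one]
      right_inv := fun i => by rw [← h.img_mul, mul_inv_cancel, h.img_one] })
    fun x y => Equiv.ext fun i => h.img_mul x y i

theorem Indep.perm_apply {e e' : G} (h : c.Indep e e') (x : c.N) (i : Fin 3) :
    h.perm x i = h.img x i := rfl

theorem Indep.ker_eq {e e' : G} (h : c.Indep e e') : h.perm.ker = c.P₀.subgroupOf c.N := by
  ext x
  rw [MonoidHom.mem_ker, Subgroup.mem_subgroupOf]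
  constructor
  · intro hx
    refine ⟨x.2, fun y hy => ?_⟩
    by_cases h1 : y = 1
    · exact Or.inl (by rw [h1]; group)
    by_cases h2 : y = c.z
    · exact Or.inl (by rw [h2, c.conj_z x.2])
    obtain ⟨j, hj⟩ := h.exists_rep hy h1 h2
    have hj' : h.img x j = j := by rw [← h.perm_apply, hx]; rfl
    have hs := h.img_spec x j
    rw [hj'] at hs
    rcases hj with rfl | rfl
    · exact hs
    · rw [← conj_mul, c.conj_z x.2]
      rcases hs with a | a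
      · exact Or.inl (by rw [a])
      · exact Or.inr (by rw [a])
  · intro hx
    ext i
    rw [h.perm_apply, h.img_eq (hx.2 _ (h.rep_mem i).1)]
    rfl

variable (c)

theorem card_facts : Nat.card c.P₀ = 32 ∧ ∀ {e e' : G} (h : c.Indep e e'), Function.Surjective h.perm := by
  classical
  have hle : c.P₀ ≤ c.N := fun x hx => hx.1
  have key : ∀ {e e' : G} (h : c.Indep e e'),
      Nat.card h.perm.range * Nat.card c.P₀ = 192 ∧ Nat.card h.perm.range ≤ 6 := by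
    intro e e' h
    constructor
    · rw [← Subgroup.index_ker, ← c.card_N, h.ker_eq,
        ← Nat.card_congr (Subgroup.subgroupOfEquivOfLe hle).toEquiv, mul_comm,
        Subgroup.card_mul_index]
    · refine le_trans (Subgroup.card_le_card_group _) (le_of_eq ?_)
      rw [Nat.card_eq_fintype_card, Fintype.card_perm, Fintype.card_fin]; rfl
  have h32 : Nat.card c.P₀ = 32 := by
    obtain ⟨e, e', h⟩ := c.exists_indep
    have := key h
    have := c.card_P₀_le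
    nlinarith
  refine ⟨h32, fun h => MonoidHom.range_eq_top.1 (Subgroup.eq_top_of_card_eq _ ?_)⟩
  have := key h
  rw [h32] at this
  rw [Nat.card_eq_fintype_card, Nat.card_eq_fintype_card, Fintype.card_perm, Fintype.card_fin,
    show Nat.factorial 3 = 6 from rfl]
  rw [Nat.card_eq_fintype_card] at this
  omega

theorem P₀_normal {x y : G} (hx : x ∈ c.N) (hy : y ∈ c.P₀) : x * y * x⁻¹ ∈ c.P₀ := by
  refine ⟨mul_mem (mul_mem hx hy.1) (inv_mem hx), fun e he => ?_⟩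
  have h := hy.2 (x⁻¹ * e * x) (by simpa using c.conj_E _ (inv_mem hx.1) e he)
  have e1 : x * y * x⁻¹ * e * (x * y * x⁻¹)⁻¹ = x * (y * (x⁻¹ * e * x) * y⁻¹) * x⁻¹ := by group
  rw [e1]
  rcases h with a | a <;> rw [a]
  · exact Or.inl (by group)
  · right; rw [← conj_mul, c.conj_z hx]; group

theorem H₀_parity {x y : G} (hx : x ∈ Ct c.z) (hy : y ∈ Ct c.z) :
    x * y ∈ c.H₀ ↔ (x ∈ c.H₀ ↔ y ∈ c.H₀) := by
  have := Subgroup.mul_mem_iff_of_index_two c.index_H₀ (a := ⟨x, hx⟩) (b := ⟨y, hy⟩)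
  simpa [Subgroup.mem_subgroupOf] using this

theorem QQ_le_N : c.QQ ≤ c.N := by
  classical
  have : Fact (Nat.Prime 2) := ⟨Nat.prime_two⟩
  obtain ⟨S, hS⟩ := Sylow.exists_subgroup_card_pow_prime (G := c.N) 2 (n := 6) (by rw [c.card_N]; norm_num)
  have hSct : S.map c.N.subtype ≤ Ct c.z := by
    rintro x ⟨y, -, rfl⟩; exact y.2.2
  have hcS : Nat.card (S.map c.N.subtype : Subgroup G) = 2 ^ 6 := by
    rw [Subgroup.card_subtype, hS]
  let T : Subgroup (Ct c.z) := (S.map c.N.subtype).subgroupOf (Ct c.z)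
  have hT : Nat.card T = 2 ^ 6 := by
    rw [Nat.card_congr (Subgroup.subgroupOfEquivOfLe hSct).toEquiv, hcS]
  have hfac : (576 : ℕ).factorization 2 = 6 := by
    rw [show (576 : ℕ) = 2 ^ 6 * 9 by norm_num, Nat.factorization_mul (by norm_num) (by norm_num),
      Nat.prime_two.factorization_pow]
    simp [Nat.factorization_eq_zero_of_not_dvd]
  let P : Sylow 2 (Ct c.z) := Sylow.ofCard T (by rw [c.card_ct, hfac, hT])
  let Q : Subgroup (Ct c.z) := c.QQ.subgroupOf (Ct c.z)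
  have : Q.Normal := ⟨fun y hy x => by
    simpa [Q, Subgroup.mem_subgroupOf] using c.QQ_normal x.2 (Subgroup.mem_subgroupOf.1 hy)⟩
  have hQle : c.QQ ≤ Ct c.z := c.QQ_le.trans c.H₀_le
  have hQ : IsPGroup 2 Q := IsPGroup.of_card (n := 5) (by
    rw [Nat.card_congr (Subgroup.subgroupOfEquivOfLe hQle).toEquiv, c.card_QQ]; norm_num)
  intro x hx
  have : (⟨x, hQle hx⟩ : Ct c.z) ∈ P := hQ.le_sylow_of_normal P (Subgroup.mem_subgroupOf.2 hx)
  obtain ⟨y, -, hy⟩ := Subgroup.mem_subgroupOf.1 (this : (⟨x, hQle hx⟩ : Ct c.z) ∈ T)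
  have hy' : (y : G) = x := hy
  rw [← hy']
  exact y.2

theorem perm_facts : (∀ p : Equiv.Perm (Fin 3), ∀ m : Equiv.Perm (Fin 3),
      p * p = 1 → p ≠ 1 → m * m * m = 1 → m ≠ 1 → p * m * p⁻¹ * m = 1) ∧
    (∀ p : Equiv.Perm (Fin 3), p ≠ 1 → p * p ≠ 1 → p * p * p = 1) := by
  decide

theorem QQ_eq : c.QQ = c.P₀ := by
  classical
  obtain ⟨e, e', h⟩ := c.exists_indep
  obtain ⟨h32, hsurj⟩ := c.card_facts
  refine Subgroup.eq_of_le_of_card_ge ?_ (by rw [h32, c.card_QQ])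
  intro x hx
  by_contra hxP
  let Q := c.QQ.subgroupOf c.N
  have hQn : ∀ y : c.N, ∀ q ∈ Q, y * q * y⁻¹ ∈ Q := fun y q hq => by
    simpa [Q, Subgroup.mem_subgroupOf] using c.QQ_normal y.2.2 (Subgroup.mem_subgroupOf.1 hq)
  have hx' : (⟨x, c.QQ_le_N hx⟩ : c.N) ∈ Q := Subgroup.mem_subgroupOf.2 hx
  have hp1 : h.perm ⟨x, c.QQ_le_N hx⟩ ≠ 1 := fun a => hxP
    (Subgroup.mem_subgroupOf.1 (h.ker_eq ▸ MonoidHom.mem_ker.2 a))
  -- a normal 2-subgroup of the symmetric group on three points is trivial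
  have hpow : ∀ q ∈ Q, h.perm q ^ 32 = 1 := fun q hq => by
    have := pow_card_eq_one' (x := (⟨q, hq⟩ : Q))
    rw [Nat.card_congr (Subgroup.subgroupOfEquivOfLe c.QQ_le_N).toEquiv, c.card_QQ] at this
    have := congrArg (fun u : Q => h.perm (u : c.N)) this
    simpa using this
  have key : ∀ p : Equiv.Perm (Fin 3), p ≠ 1 →
      ∃ q, (q * p * q⁻¹ * p) * (q * p * q⁻¹ * p) ≠ 1 ∨ p * p * p = 1 := by decide
  have h32' : ∀ p : Equiv.Perm (Fin 3), p ^ 32 = 1 → p * p = 1 := by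
    intro p hp
    have h6 : p ^ 6 = 1 := by
      have := pow_card_eq_one' (x := p)
      rwa [Nat.card_eq_fintype_card, Fintype.card_perm, Fintype.card_fin,
        show Nat.factorial 3 = 6 from rfl] at this
    have : p ^ 2 = 1 := by
      rw [show (32 : ℕ) = 6 * 5 + 2 from rfl, pow_add, pow_mul, h6, one_pow, one_mul] at hp
      exact hp
    rwa [pow_two] at this
  obtain ⟨q, hq⟩ := key _ hp1
  obtain ⟨y, rfl⟩ := hsurj h q
  rcases hq with a | a
  · refine a ?_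
    have := h32' _ (hpow _ (mul_mem (hQn y _ hx') hx'))
    rw [map_mul, map_mul, map_mul, map_inv] at this
    exact this
  · have hs := h32' _ (hpow _ hx')
    rw [hs, one_mul] at a
    exact hp1 a

/-- An element of `N` in one of the two factors lies in the kernel. -/
theorem mem_P₀_of_factor₂ {b : SL} (hb : c.ι₂ b ∈ c.N) : c.ι₂ b ∈ c.P₀ := by
  refine ⟨hb, fun e he => ?_⟩
  obtain ⟨p, q, -, -, rfl⟩ := c.mem_QQ.1 (c.QQ_eq ▸ c.E_le_P₀ he : e ∈ c.QQ)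
  have hmem : (c.ι₁ p * c.ι₂ q)⁻¹ * (c.ι₂ b * (c.ι₁ p * c.ι₂ q) * (c.ι₂ b)⁻¹) ∈ c.E :=
    mul_mem (inv_mem he) (c.conj_E _ hb.1 _ he)
  have heq : (c.ι₁ p * c.ι₂ q)⁻¹ * (c.ι₂ b * (c.ι₁ p * c.ι₂ q) * (c.ι₂ b)⁻¹) =
      c.ι₂ (q⁻¹ * b * q * b⁻¹) := by
    have hc : (c.ι₁ p)⁻¹ * c.ι₂ b * c.ι₁ p = c.ι₂ b := by
      rw [mul_assoc, ← (c.comm p b).eq, ← mul_assoc, inv_mul_cancel, one_mul]
    calc _ = (c.ι₂ q)⁻¹ * ((c.ι₁ p)⁻¹ * c.ι₂ b * c.ι₁ p) * c.ι₂ q * (c.ι₂ b)⁻¹ := by group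
      _ = _ := by rw [hc, map_mul, map_mul, map_mul, map_inv, map_inv]
  rw [heq] at hmem
  have hs := c.sq_E _ hmem
  rw [← map_mul, ← map_one c.ι₂] at hs
  have hd : c.ι₂ (q⁻¹ * b * q * b⁻¹) = 1 ∨ c.ι₂ (q⁻¹ * b * q * b⁻¹) = c.z := by
    rcases sl_sq (c.inj₂ hs) with a | a <;> rw [a]
    · exact Or.inl (map_one _)
    · exact Or.inr c.neg₂
  have he' : c.ι₂ b * (c.ι₁ p * c.ι₂ q) * (c.ι₂ b)⁻¹ =
      c.ι₁ p * c.ι₂ q * c.ι₂ (q⁻¹ * b * q * b⁻¹) := by rw [← heq]; group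
  rw [he']
  rcases hd with a | a <;> rw [a]
  · exact Or.inl (mul_one _)
  · exact Or.inr rfl

/-- An element of `N` in one of the two factors lies in the kernel. -/
theorem mem_P₀_of_factor₁ {a : SL} (ha : c.ι₁ a ∈ c.N) : c.ι₁ a ∈ c.P₀ := by
  refine ⟨ha, fun e he => ?_⟩
  obtain ⟨p, q, -, -, rfl⟩ := c.mem_QQ.1 (c.QQ_eq ▸ c.E_le_P₀ he : e ∈ c.QQ)
  have hmem : (c.ι₁ p * c.ι₂ q)⁻¹ * (c.ι₁ a * (c.ι₁ p * c.ι₂ q) * (c.ι₁ a)⁻¹) ∈ c.E :=
    mul_mem (inv_mem he) (c.conj_E _ ha.1 _ he)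
  have heq : (c.ι₁ p * c.ι₂ q)⁻¹ * (c.ι₁ a * (c.ι₁ p * c.ι₂ q) * (c.ι₁ a)⁻¹) =
      c.ι₁ (p⁻¹ * a * p * a⁻¹) := by
    have hc : (c.ι₂ q)⁻¹ * c.ι₁ (p⁻¹ * a * p) * c.ι₂ q = c.ι₁ (p⁻¹ * a * p) := by
      rw [mul_assoc, (c.comm (p⁻¹ * a * p) q).eq, ← mul_assoc, inv_mul_cancel, one_mul]
    calc _ = ((c.ι₂ q)⁻¹ * c.ι₁ (p⁻¹ * a * p) * c.ι₂ q) * (c.ι₁ a)⁻¹ := by
          rw [map_mul, map_mul, map_inv]; group
      _ = _ := by rw [hc, ← map_inv, ← map_mul]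
  rw [heq] at hmem
  have hs := c.sq_E _ hmem
  rw [← map_mul, ← map_one c.ι₁] at hs
  have hd : c.ι₁ (p⁻¹ * a * p * a⁻¹) = 1 ∨ c.ι₁ (p⁻¹ * a * p * a⁻¹) = c.z := by
    rcases sl_sq (c.inj₁ hs) with h | h <;> rw [h]
    · exact Or.inl (map_one _)
    · exact Or.inr c.neg₁
  have he' : c.ι₁ a * (c.ι₁ p * c.ι₂ q) * (c.ι₁ a)⁻¹ =
      c.ι₁ p * c.ι₂ q * c.ι₁ (p⁻¹ * a * p * a⁻¹) := by rw [← heq]; group
  rw [he']
  rcases hd with h | h <;> rw [h]
  · exact Or.inl (mul_one _)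
  · exact Or.inr rfl

/-- An element of `N` outside the product of the factors is an automorphism of each factor that is
not inner. -/
theorem not_inner {x : G} (hx : x ∈ c.N) (hxH : x ∉ c.H₀) :
    (∀ a : SL, ∃ u, x * c.ι₁ u * x⁻¹ ≠ c.ι₁ (a * u * a⁻¹)) ∧
    (∀ b : SL, ∃ u, x * c.ι₂ u * x⁻¹ ≠ c.ι₂ (b * u * b⁻¹)) := by
  classical
  obtain ⟨e, e', h⟩ := c.exists_indep
  obtain ⟨-, hsurj⟩ := c.card_facts
  obtain ⟨⟨m, hmN⟩, hm⟩ := hsurj h (finRotate 3)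
  have hP : c.P₀ ≤ c.H₀ := c.QQ_eq ▸ c.QQ_le
  have hm3 : m * m * m ∈ c.P₀ := by
    refine Subgroup.mem_subgroupOf (h := (⟨m, hmN⟩ * ⟨m, hmN⟩ * ⟨m, hmN⟩ : c.N)) |>.1 ?_
    rw [← h.ker_eq, MonoidHom.mem_ker, map_mul, map_mul, hm]
    decide
  have hmH : m ∈ c.H₀ := by
    have h2 := (c.H₀_parity hmN.2 hmN.2).2 Iff.rfl
    exact ((c.H₀_parity (mul_mem hmN.2 hmN.2) hmN.2).1 (hP hm3)).1 h2
  have hmP : m ∉ c.P₀ := fun a => by
    have a' : (⟨m, hmN⟩ : c.N) ∈ h.perm.ker := by rw [h.ker_eq]; exact Subgroup.mem_subgroupOf.2 a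
    rw [MonoidHom.mem_ker, hm] at a'
    exact absurd a' (by decide)
  have hx1 : h.perm ⟨x, hx⟩ ≠ 1 := fun a => hxH
    (hP (Subgroup.mem_subgroupOf.1 (h.ker_eq ▸ MonoidHom.mem_ker.2 a)))
  have hx2 : h.perm ⟨x, hx⟩ * h.perm ⟨x, hx⟩ = 1 := by
    by_contra a
    have h3 := perm_facts.2 _ hx1 a
    rw [← map_mul, ← map_mul, ← MonoidHom.mem_ker, h.ker_eq, Subgroup.mem_subgroupOf] at h3
    have h3' : x * x * x ∈ c.H₀ := hP h3
    exact hxH (((c.H₀_parity (mul_mem hx.2 hx.2) hx.2).1 h3').1 ((c.H₀_parity hx.2 hx.2).2 Iff.rfl))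
  have hxm : x * m * x⁻¹ * m ∈ c.QQ := by
    rw [c.QQ_eq]
    refine Subgroup.mem_subgroupOf (h := (⟨x, hx⟩ * ⟨m, hmN⟩ * ⟨x, hx⟩⁻¹ * ⟨m, hmN⟩ : c.N)) |>.1 ?_
    rw [← h.ker_eq, MonoidHom.mem_ker, map_mul, map_mul, map_mul, map_inv, hm]
    exact perm_facts.1 _ _ hx2 hx1 (by decide) (by decide)
  obtain ⟨a₁, b₁, rfl⟩ := c.mem_H₀.1 hmH
  obtain ⟨a', ha'⟩ := c.normal₁ x hx.2 a₁
  obtain ⟨b', hb'⟩ := c.normal₂ x hx.2 b₁
  have h4 : (a' * a₁) ^ 4 = 1 ∧ (b' * b₁) ^ 4 = 1 := by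
    apply c.four_of_mem_QQ
    convert hxm using 1
    rw [map_mul, map_mul, (c.comm a₁ b').mul_mul_mul_comm, ← ha', ← hb']
    group
  have hN1 : ∀ u, u ^ 4 = 1 → c.ι₁ u ∈ c.N := fun u hu => c.QQ_le_N
    (c.mem_QQ.2 ⟨u, 1, hu, one_pow 4, by rw [map_one, mul_one]⟩)
  have hN2 : ∀ u, u ^ 4 = 1 → c.ι₂ u ∈ c.N := fun u hu => c.QQ_le_N
    (c.mem_QQ.2 ⟨1, u, one_pow 4, hu, by rw [map_one, one_mul]⟩)
  constructor
  · intro a
    by_contra hall
    push Not at hall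
    have h5 : a₁ ^ 4 = 1 := by
      refine sl_four_of_conj (x := a) ?_
      rw [← c.inj₁ (ha'.symm.trans (hall a₁))]
      exact h4.1
    have hb : c.ι₂ b₁ ∈ c.N := by
      have := mul_mem (inv_mem (hN1 a₁ h5)) hmN
      rwa [← mul_assoc, inv_mul_cancel, one_mul] at this
    refine hmP (mul_mem ?_ (c.mem_P₀_of_factor₂ hb))
    exact c.mem_P₀_of_factor₁ (hN1 a₁ h5)
  · intro b
    by_contra hall
    push Not at hall
    have h5 : b₁ ^ 4 = 1 := by
      refine sl_four_of_conj (x := b) ?_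
      rw [← c.inj₂ (hb'.symm.trans (hall b₁))]
      exact h4.2
    have ha : c.ι₁ a₁ ∈ c.N := by
      have := mul_mem hmN (inv_mem (hN2 b₁ h5))
      rwa [mul_assoc, mul_inv_cancel, mul_one] at this
    exact hmP (mul_mem (c.mem_P₀_of_factor₁ ha) (c.mem_P₀_of_factor₂ (hN2 b₁ h5)))

/-- An involution of the product of the quaternion groups outside `E`, fixing a given class. -/
theorem exists_fixing {e e' : G} (h : c.Indep e e') (j : Fin 3) :
    ∃ q ∈ c.P₀, q ∉ c.E ∧ q * q = 1 ∧ q * rep e e' j * q⁻¹ = rep e e' j := by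
  classical
  obtain ⟨f, hf, hfq⟩ := c.exists_involutions
  have : ∃ k, f k ∉ c.E := by
    by_contra hall
    push Not at hall
    have := Nat.card_le_card_of_injective (fun k => (⟨f k, hall k⟩ : c.E))
      (fun a b hab => hf (congrArg Subtype.val hab))
    rw [Nat.card_fin, c.card_E] at this
    omega
  obtain ⟨k, hk⟩ := this
  have hq : f k ∈ c.P₀ := c.QQ_eq ▸ (hfq k).1
  set q := f k
  obtain ⟨i, hi⟩ : ∃ i : Fin 3, q * rep e e' i * q⁻¹ = rep e e' i := by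
    by_contra hall
    push Not at hall
    have h0 := (hq.2 _ (h.rep_mem 0).1).resolve_left (hall 0)
    have h1 := (hq.2 _ (h.rep_mem 1).1).resolve_left (hall 1)
    refine hall 2 ?_
    show q * (e * e') * q⁻¹ = e * e'
    rw [← conj_mul, show q * e * q⁻¹ = e * c.z from h0, show q * e' * q⁻¹ = e' * c.z from h1,
      c.comm_E h.2.1 c.z_mem, mul_assoc, ← mul_assoc c.z c.z e', c.z_sq, one_mul]
  obtain ⟨⟨y, hy⟩, hyp⟩ := (c.card_facts).2 h (Equiv.swap i j)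
  have hij : h.img ⟨y, hy⟩ i = j := by rw [← h.perm_apply, hyp, Equiv.swap_apply_left]
  have hs := h.img_spec ⟨y, hy⟩ i
  rw [hij] at hs
  refine ⟨y * q * y⁻¹, c.P₀_normal hy hq, fun a => hk ?_, ?_, ?_⟩
  · have := c.conj_E _ (inv_mem hy.1) _ a
    rwa [show y⁻¹ * (y * q * y⁻¹) * y⁻¹⁻¹ = q by group] at this
  · rw [conj_mul, (hfq k).2, mul_one, mul_inv_cancel]
  · have key : y * q * y⁻¹ * (y * rep e e' i * y⁻¹) * (y * q * y⁻¹)⁻¹ = y * rep e e' i * y⁻¹ := by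
      calc _ = y * (q * rep e e' i * q⁻¹) * y⁻¹ := by group
        _ = _ := by rw [hi]
    rcases hs with a | a
    · rwa [a] at key
    · rw [a, ← conj_mul, c.conj_z (mul_mem (mul_mem hy hq.1) (inv_mem hy))] at key
      exact mul_right_cancel key

/-- An outer involution, conjugate to an involution of the product of the quaternion groups. -/
theorem exists_outer : ∃ h ∈ c.N, h ∉ c.H₀ ∧ h * h = 1 ∧
    ∃ q ∈ c.QQ, q * q = 1 ∧ q ∉ c.E ∧ IsConj h q := by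
  classical
  obtain ⟨e₀, e₀', h₀⟩ := c.exists_indep
  obtain ⟨⟨t, htN⟩, ht⟩ := (c.card_facts).2 h₀ (Equiv.swap 0 1)
  have hP : c.P₀ ≤ c.H₀ := c.QQ_eq ▸ c.QQ_le
  have htH : t ∉ c.H₀ := by
    intro htH
    obtain ⟨⟨m, hmN⟩, hm⟩ := (c.card_facts).2 h₀ (finRotate 3)
    have hmH : m ∈ c.H₀ := by
      have h3 : m * m * m ∈ c.H₀ := hP (by
        refine Subgroup.mem_subgroupOf (h := (⟨m, hmN⟩ * ⟨m, hmN⟩ * ⟨m, hmN⟩ : c.N)) |>.1 ?_
        rw [← h₀.ker_eq, MonoidHom.mem_ker, map_mul, map_mul, hm]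
        decide)
      exact ((c.H₀_parity (mul_mem hmN.2 hmN.2) hmN.2).1 h3).1 ((c.H₀_parity hmN.2 hmN.2).2 Iff.rfl)
    have hall : c.N ≤ c.H₀ := by
      intro x hx
      have hgen : ∀ p : Equiv.Perm (Fin 3), p = 1 ∨ p = finRotate 3 ∨ p = finRotate 3 * finRotate 3 ∨
          p = Equiv.swap 0 1 ∨ p = Equiv.swap 0 1 * finRotate 3 ∨
          p = Equiv.swap 0 1 * finRotate 3 * finRotate 3 := by decide
      have key : ∀ u : c.N, (u : G) ∈ c.H₀ → h₀.perm ⟨x, hx⟩ = h₀.perm u → x ∈ c.H₀ := by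
        intro u hu he
        have : ((u : G))⁻¹ * x ∈ c.P₀ := by
          refine Subgroup.mem_subgroupOf (h := (u⁻¹ * ⟨x, hx⟩ : c.N)) |>.1 ?_
          rw [← h₀.ker_eq, MonoidHom.mem_ker, map_mul, map_inv, he, inv_mul_cancel]
        simpa using mul_mem hu (hP this)
      rcases hgen (h₀.perm ⟨x, hx⟩) with a | a | a | a | a | a
      · exact key 1 (one_mem _) (by rw [a, map_one])
      · exact key ⟨m, hmN⟩ hmH (by rw [a, hm])
      · exact key (⟨m, hmN⟩ * ⟨m, hmN⟩) (mul_mem hmH hmH) (by rw [a, map_mul, hm])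
      · exact key ⟨t, htN⟩ htH (by rw [a, ht])
      · exact key (⟨t, htN⟩ * ⟨m, hmN⟩) (mul_mem htH hmH) (by rw [a, map_mul, ht, hm])
      · exact key (⟨t, htN⟩ * ⟨m, hmN⟩ * ⟨m, hmN⟩) (mul_mem (mul_mem htH hmH) hmH)
          (by rw [a, map_mul, map_mul, ht, hm])
    have := Subgroup.card_dvd_of_le hall
    rw [c.card_N, c.card_H₀] at this
    norm_num at this
  -- replace the second representative by the image of the first
  obtain ⟨e, rfl⟩ : ∃ e, e = e₀ := ⟨_, rfl⟩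
  set e' := t * e * t⁻¹ with he'
  have himg : h₀.img ⟨t, htN⟩ 0 = 1 := by rw [← h₀.perm_apply, ht, Equiv.swap_apply_left]
  have hs := h₀.img_spec ⟨t, htN⟩ 0
  rw [himg] at hs
  have h : c.Indep e e' := by
    obtain ⟨he, heb, h1, h2, h1', h2', h3, h4⟩ := h₀
    have hs' : e' = e₀' ∨ e' = e₀' * c.z := hs
    refine ⟨he, c.conj_E _ htN.1 _ he, h1, h2, (conj_ne htN ⟨h1, h2⟩).1, (conj_ne htN ⟨h1, h2⟩).2, ?_, ?_⟩ <;>
      rcases hs' with a | a <;> rw [a]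
    · exact h3
    · exact fun b => h4 (by rw [← b, mul_assoc, c.z_sq, mul_one])
    · exact h4
    · exact fun b => h3 (mul_right_cancel b)
  -- a square in `E`
  have ht2 : t * t ∈ c.P₀ := by
    refine Subgroup.mem_subgroupOf (h := (⟨t, htN⟩ * ⟨t, htN⟩ : c.N)) |>.1 ?_
    rw [← h₀.ker_eq, MonoidHom.mem_ker, map_mul, ht]
    decide
  obtain ⟨s, hsN, hsH, hsc, hs2⟩ : ∃ s ∈ c.N, s ∉ c.H₀ ∧ (s * e * s⁻¹ = e' ∨ s * e * s⁻¹ = e' * c.z) ∧
      s * s * e * (s * s)⁻¹ = e := by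
    rcases ht2.2 e h.1 with a | a
    · exact ⟨t, htN, htH, Or.inl rfl, a⟩
    obtain ⟨p, hp, hpE, -, hpfix⟩ := c.exists_fixing h 0
    have hpe : p * e * p⁻¹ = e := hpfix
    have hpe' : p * e' * p⁻¹ = e' * c.z := (hp.2 _ h.2.1).resolve_left fun b =>
      hpE (h.centralizes hp.1 hpe b)
    refine ⟨t * p, mul_mem htN hp.1, fun b => htH ?_, Or.inl ?_, ?_⟩
    · exact (((c.H₀_parity htN.2 hp.1.2).1 b)).2 (hP hp)
    · calc t * p * e * (t * p)⁻¹ = t * (p * e * p⁻¹) * t⁻¹ := by group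
        _ = e' := by rw [hpe]
    · calc t * p * (t * p) * e * (t * p * (t * p))⁻¹ = t * (p * (t * (p * e * p⁻¹) * t⁻¹) * p⁻¹) * t⁻¹ := by group
        _ = t * (e' * c.z) * t⁻¹ := by rw [hpe, ← he', hpe']
        _ = t * t * e * (t * t)⁻¹ * (t * c.z * t⁻¹) := by rw [← conj_mul, he']; group
        _ = e := by rw [a, c.conj_z htN, mul_assoc, c.z_sq, mul_one]
  -- the commutator
  set e'' := s * e * s⁻¹ with he''
  have hse : s * e'' * s⁻¹ = e := by
    calc s * (s * e * s⁻¹) * s⁻¹ = s * s * e * (s * s)⁻¹ := by group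
      _ = e := hs2
  have hi : c.Indep e e'' := by
    obtain ⟨he, heb, h1, h2, h1', h2', h3, h4⟩ := h
    refine ⟨he, c.conj_E _ hsN.1 _ he, h1, h2, (conj_ne hsN ⟨h1, h2⟩).1, (conj_ne hsN ⟨h1, h2⟩).2, ?_, ?_⟩ <;>
      rcases hsc with a | a <;> rw [a]
    · exact h3
    · exact fun b => h4 (by rw [← b, mul_assoc, c.z_sq, mul_one])
    · exact h4
    · exact fun b => h3 (mul_right_cancel b)
  have hs2E : s * s ∈ c.E := by
    refine hi.centralizes (mul_mem hsN hsN) hs2 ?_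
    calc s * s * e'' * (s * s)⁻¹ = s * (s * s * e * (s * s)⁻¹) * s⁻¹ := by rw [he'']; group
      _ = e'' := by rw [hs2]
  have hsnE : s ∉ c.E := fun b => hsH (hP (c.E_le_P₀ b))
  obtain ⟨d, hd⟩ : ∃ d, d = e * e'' := ⟨_, rfl⟩
  have hdE : d ∈ c.E := hd ▸ mul_mem hi.1 hi.2.1
  have hd1 : d ≠ 1 := hd ▸ (hi.rep_mem 2).2.1
  have hdee : e'' = e * d := by rw [hd, ← mul_assoc, c.sq_E e hi.1, one_mul]
  have hdee' : e = e'' * d := by
    rw [hd, c.comm_E hi.1 hi.2.1, ← mul_assoc, c.sq_E _ hi.2.1, one_mul]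
  -- all commutators with `s` are powers of `d`
  have hcomm : ∀ y ∈ c.E, s * y * s⁻¹ = y ∨ s * y * s⁻¹ = y * d := by
    intro y hy
    have hsz := c.conj_z hsN
    have hsd : s * d * s⁻¹ = d := by
      rw [hd, ← conj_mul, ← he'', hse, c.comm_E hi.2.1 hi.1]
    rcases hi.gen hy with rfl | rfl | rfl | rfl | rfl | rfl | rfl | rfl
    · exact Or.inl (by group)
    · exact Or.inl hsz
    · exact Or.inr (by rw [← he'', hdee])
    · right
      rw [← conj_mul, ← he'', hsz, hdee, mul_assoc, mul_assoc, c.comm_E c.z_mem hdE]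
    · exact Or.inr (hse.trans hdee')
    · right
      rw [← conj_mul, hse, hsz, mul_assoc e'' c.z d, c.comm_E c.z_mem hdE, ← mul_assoc, ← hdee']
    · exact Or.inl (hd ▸ hsd)
    · exact Or.inl (by rw [← hd, ← conj_mul, hsd, hsz])
  obtain ⟨g, hgM, hg⟩ := c.exists_seven
  obtain ⟨n, hn⟩ := c.transitive hgM hg hdE hd1
  set w := g ^ n with hw
  have hwM : w ∈ c.M := pow_mem hgM n
  set v := w * s * w⁻¹ with hv
  have hvM : v ∈ c.M := mul_mem (mul_mem hwM hsN.1) (inv_mem hwM)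
  have hvy : ∀ y ∈ c.E, v * y * v⁻¹ = y ∨ v * y * v⁻¹ = y * c.z := by
    intro y hy
    have hy' : w⁻¹ * y * w ∈ c.E := by simpa using c.conj_E _ (inv_mem hwM) y hy
    have e1 : v * y * v⁻¹ = w * (s * (w⁻¹ * y * w) * s⁻¹) * w⁻¹ := by rw [hv]; group
    rcases hcomm _ hy' with a | a <;> rw [e1, a]
    · exact Or.inl (by group)
    · right; rw [← conj_mul, hn]; group
  have hvN : v ∈ c.N := by
    refine ⟨hvM, mem_Ct.2 (mul_inv_eq_iff_eq_mul.1 ?_)⟩
    rcases hvy c.z c.z_mem with a | a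
    · exact a
    · exfalso
      rw [c.z_sq] at a
      exact c.z_ne (conj_eq_one_iff.1 a)
  have hvP : v ∈ c.P₀ := ⟨hvN, hvy⟩
  have hvE : v ∉ c.E := fun b => hsnE (by
    have := c.conj_E _ (inv_mem hwM) _ b
    rwa [hv, show w⁻¹ * (w * s * w⁻¹) * w⁻¹⁻¹ = s by group] at this)
  -- an involution in the same coset
  obtain ⟨j, hj⟩ : ∃ j : Fin 3, v * rep e e'' j * v⁻¹ = rep e e'' j := by
    by_contra hall
    push Not at hall
    have h0 := (hvP.2 _ (hi.rep_mem 0).1).resolve_left (hall 0)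
    have h1 := (hvP.2 _ (hi.rep_mem 1).1).resolve_left (hall 1)
    refine hall 2 ?_
    show v * (e * e'') * v⁻¹ = e * e''
    rw [← conj_mul, show v * e * v⁻¹ = e * c.z from h0, show v * e'' * v⁻¹ = e'' * c.z from h1,
      c.comm_E hi.2.1 c.z_mem, mul_assoc, ← mul_assoc c.z c.z e'', c.z_sq, one_mul]
  obtain ⟨q, hq, hqE, hq2, hqfix⟩ := c.exists_fixing hi j
  have hsame : v⁻¹ * q ∈ c.E := by
    have hmove : ∀ u ∈ c.P₀, u ∉ c.E → u * rep e e'' j * u⁻¹ = rep e e'' j → ∀ k, k ≠ j →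
        u * rep e e'' k * u⁻¹ = rep e e'' k * c.z := by
      intro u hu huE hfix k hk
      refine (hu.2 _ (hi.rep_mem k).1).resolve_left fun b => huE ?_
      obtain ⟨f1, f2⟩ := hi.fix_two (Ne.symm hk) hfix b
      exact hi.centralizes hu.1 f1 f2
    refine hi.centralizes (mul_mem (inv_mem hvN) hq.1) ?_ ?_
    all_goals
      rw [show ∀ y : G, v⁻¹ * q * y * (v⁻¹ * q)⁻¹ = v⁻¹ * (q * y * q⁻¹) * v from fun y => by group]
    · show v⁻¹ * (q * rep e e'' 0 * q⁻¹) * v = rep e e'' 0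
      have : q * rep e e'' 0 * q⁻¹ = v * rep e e'' 0 * v⁻¹ := by
        by_cases h0 : (0 : Fin 3) = j
        · rw [h0, hqfix, hj]
        · rw [hmove q hq hqE hqfix 0 h0, hmove v hvP hvE hj 0 h0]
      rw [this]; group
    · show v⁻¹ * (q * rep e e'' 1 * q⁻¹) * v = rep e e'' 1
      have : q * rep e e'' 1 * q⁻¹ = v * rep e e'' 1 * v⁻¹ := by
        by_cases h0 : (1 : Fin 3) = j
        · rw [h0, hqfix, hj]
        · rw [hmove q hq hqE hqfix 1 h0, hmove v hvP hvE hj 1 h0]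
      rw [this]; group
  have he₁ : w⁻¹ * (v⁻¹ * q) * w ∈ c.E := by simpa using c.conj_E _ (inv_mem hwM) _ hsame
  refine ⟨w⁻¹ * q * w, ?_, fun b => hsH ?_, ?_, q, c.QQ_eq.symm ▸ hq, hq2, hqE, ?_⟩
  · rw [show w⁻¹ * q * w = s * (w⁻¹ * (v⁻¹ * q) * w) by rw [hv]; group]
    exact mul_mem hsN (c.E_le_N he₁)
  · rw [show w⁻¹ * q * w = s * (w⁻¹ * (v⁻¹ * q) * w) by rw [hv]; group] at b
    exact ((c.H₀_parity hsN.2 (c.E_le_N he₁).2).1 b).2 (hP (c.E_le_P₀ he₁))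
  · rw [show w⁻¹ * q * w * (w⁻¹ * q * w) = w⁻¹ * (q * q) * w by group, hq2]; group
  · exact isConj_iff.2 ⟨w, by group⟩

end Cfg

end CfsgLib.GTwoTwoLocal
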