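import Mathlib.Data.Nat.Notation
import Mathlib.Data.Int.Notation

/-!
# The possible states of the enumeration
-/

set_option autoImplicit false

namespace CfsgLib.GTwoTwoLocal.Search

/-- The states of a given depth. -/
def levelL : ℕ → List (List (List ℤ))
  | 0 => [[]]
  | 1 => [[[1], [1], [1]]]
  | 2 => [[[1, 1], [1, -1], [1, -1]],
    [[1, -1], [1, 0], [1, 0], [0, 1], [0, 1]]]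
  | 3 => [[[1, 1, 1], [1, -1, 1], [1, -1, -1]],
    [[1, 1, 1], [1, -1, 0], [1, -1, 0], [0, 0, 1], [0, 0, 1]],
    [[1, -1, -1], [1, 0, 1], [1, 0, 1], [0, 1, 0], [0, 1, 0]],
    [[1, -1, 0], [1, 0, 1], [1, 0, 0], [0, 1, 1], [0, 1, 0], [0, 0, 1]],
    [[1, -1, 1], [1, 0, 0], [1, 0, 0], [0, 1, 1], [0, 1, 1]]]
  | 4 => [[[1, 1, 1, 1], [1, -1, 0, 1], [1, -1, 0, 0], [0, 0, 1, 1], [0, 0, 1, -1]],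
    [[1, 1, 1, 1], [1, -1, 0, 1], [1, -1, 0, 0], [0, 0, 1, 0], [0, 0, 1, 0], [0, 0, 0, 1], [0, 0, 0, 1]],
    [[1, -1, 0, 0], [1, 0, 1, 1], [1, 0, 0, 1], [0, 1, 1, 0], [0, 1, 0, 0], [0, 0, 1, 0], [0, 0, 0, 1], [0, 0, 0, 1]],
    [[1, -1, 0, 1], [1, 0, 1, 0], [1, 0, 0, 1], [0, 1, 1, 0], [0, 1, 0, 1], [0, 0, 1, 1]],
    [[1, -1, 0, 1], [1, 0, 1, 0], [1, 0, 0, 1], [0, 1, 1, 1], [0, 1, 0, 0], [0, 0, 1, 0], [0, 0, 0, 1]],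
    [[1, -1, 0, 1], [1, 0, 1, 1], [1, 0, 0, 0], [0, 1, 1, 0], [0, 1, 0, 1], [0, 0, 1, 0], [0, 0, 0, 1]],
    [[1, -1, 0, 1], [1, 0, 1, 1], [1, 0, 0, 0], [0, 1, 1, 1], [0, 1, 0, 0], [0, 0, 1, -1]]]
  | 5 => [[[1, -1, 0, 0, 0], [1, 0, 1, 1, 0], [1, 0, 0, 1, 0], [0, 1, 1, 0, 0], [0, 1, 0, 0, 1], [0, 0, 1, 0, 1], [0, 0, 0, 1, -1], [0, 0, 0, 1, 0]],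
    [[1, -1, 0, 0, 0], [1, 0, 1, 1, 0], [1, 0, 0, 1, 0], [0, 1, 1, 0, 1], [0, 1, 0, 0, 0], [0, 0, 1, 0, 0], [0, 0, 0, 1, -1], [0, 0, 0, 1, 0], [0, 0, 0, 0, 1]],
    [[1, -1, 0, 1, -1], [1, 0, 1, 0, 1], [1, 0, 0, 1, 0], [0, 1, 1, 0, 0], [0, 1, 0, 1, 0], [0, 0, 1, 1, 0], [0, 0, 0, 0, 1]],
    [[1, -1, 0, 1, -1], [1, 0, 1, 0, 1], [1, 0, 0, 1, 0], [0, 1, 1, 1, 0], [0, 1, 0, 0, 0], [0, 0, 1, 0, 0], [0, 0, 0, 1, 0], [0, 0, 0, 0, 1]],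
    [[1, -1, 0, 1, 0], [1, 0, 1, 0, 0], [1, 0, 0, 1, 0], [0, 1, 1, 1, 0], [0, 1, 0, 0, 1], [0, 0, 1, 0, 1], [0, 0, 0, 1, -1]],
    [[1, -1, 0, 1, 0], [1, 0, 1, 0, 1], [1, 0, 0, 1, -1], [0, 1, 1, 1, 0], [0, 1, 0, 0, 1], [0, 0, 1, 0, 0], [0, 0, 0, 1, 0]],
    [[1, -1, 0, 1, -1], [1, 0, 1, 1, 0], [1, 0, 0, 0, 1], [0, 1, 1, 0, 0], [0, 1, 0, 1, 0], [0, 0, 1, 0, 1], [0, 0, 0, 1, 0]],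
    [[1, -1, 0, 1, -1], [1, 0, 1, 1, 1], [1, 0, 0, 0, 0], [0, 1, 1, 0, 0], [0, 1, 0, 1, 0], [0, 0, 1, 0, 0], [0, 0, 0, 1, -1]],
    [[1, -1, 0, 1, 0], [1, 0, 1, 1, 0], [1, 0, 0, 0, 0], [0, 1, 1, 0, 1], [0, 1, 0, 1, 0], [0, 0, 1, 0, 0], [0, 0, 0, 1, -1], [0, 0, 0, 0, 1]],
    [[1, -1, 0, 1, 0], [1, 0, 1, 1, 0], [1, 0, 0, 0, 0], [0, 1, 1, 1, 0], [0, 1, 0, 0, 1], [0, 0, 1, -1, 1], [0, 0, 0, 0, 1]]]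
  | 6 => [[[1, -1, 0, 0, 0, 0], [1, 0, 1, 1, 0, 0], [1, 0, 0, 1, 0, 1], [0, 1, 1, 0, 0, 0], [0, 1, 0, 0, 1, 0], [0, 0, 1, 0, 1, 1], [0, 0, 0, 1, -1, 0], [0, 0, 0, 1, 0, 0], [0, 0, 0, 0, 0, 1]],
    [[1, -1, 0, 0, 0, 0], [1, 0, 1, 1, 0, 1], [1, 0, 0, 1, 0, 0], [0, 1, 1, 0, 0, 0], [0, 1, 0, 0, 1, 0], [0, 0, 1, 0, 1, 0], [0, 0, 0, 1, -1, -1], [0, 0, 0, 1, 0, 1]],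
    [[1, -1, 0, 0, 0, 0], [1, 0, 1, 1, 0, 0], [1, 0, 0, 1, 0, 1], [0, 1, 1, 0, 1, 0], [0, 1, 0, 0, 0, 0], [0, 0, 1, 0, 0, 1], [0, 0, 0, 1, -1, 0], [0, 0, 0, 1, 0, 0], [0, 0, 0, 0, 1, 1]],
    [[1, -1, 0, 0, 0, 0], [1, 0, 1, 1, 0, 0], [1, 0, 0, 1, 0, 1], [0, 1, 1, 0, 1, 1], [0, 1, 0, 0, 0, -1], [0, 0, 1, 0, 0, 0], [0, 0, 0, 1, -1, 0], [0, 0, 0, 1, 0, 0], [0, 0, 0, 0, 1, 0]],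
    [[1, -1, 0, 0, 0, 0], [1, 0, 1, 1, 0, 1], [1, 0, 0, 1, 0, 0], [0, 1, 1, 0, 1, 0], [0, 1, 0, 0, 0, 0], [0, 0, 1, 0, 0, 0], [0, 0, 0, 1, -1, -1], [0, 0, 0, 1, 0, 1], [0, 0, 0, 0, 1, 0]],
    [[1, -1, 0, 0, 0, 0], [1, 0, 1, 1, 0, 1], [1, 0, 0, 1, 0, 0], [0, 1, 1, 0, 1, 0], [0, 1, 0, 0, 0, 0], [0, 0, 1, 0, 0, 0], [0, 0, 0, 1, -1, 0], [0, 0, 0, 1, 0, 0], [0, 0, 0, 0, 1, 1], [0, 0, 0, 0, 0, 1]],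
    [[1, -1, 0, 0, 0, 1], [1, 0, 1, 1, 0, 0], [1, 0, 0, 1, 0, 0], [0, 1, 1, 0, 1, 1], [0, 1, 0, 0, 0, 0], [0, 0, 1, 0, 0, 0], [0, 0, 0, 1, -1, 0], [0, 0, 0, 1, 0, 1], [0, 0, 0, 0, 1, 0]],
    [[1, -1, 0, 1, -1, 0], [1, 0, 1, 0, 1, 0], [1, 0, 0, 1, 0, 1], [0, 1, 1, 1, 0, 0], [0, 1, 0, 0, 0, 0], [0, 0, 1, 0, 0, 1], [0, 0, 0, 1, 0, 0], [0, 0, 0, 0, 1, 1]],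
    [[1, -1, 0, 1, -1, 0], [1, 0, 1, 0, 1, 1], [1, 0, 0, 1, 0, 0], [0, 1, 1, 1, 0, 0], [0, 1, 0, 0, 0, 0], [0, 0, 1, 0, 0, 0], [0, 0, 0, 1, 0, 1], [0, 0, 0, 0, 1, 0], [0, 0, 0, 0, 0, 1]],
    [[1, -1, 0, 1, 0, 0], [1, 0, 1, 0, 0, 0], [1, 0, 0, 1, 0, 1], [0, 1, 1, 1, 0, 0], [0, 1, 0, 0, 1, 0], [0, 0, 1, 0, 1, 1], [0, 0, 0, 1, -1, 0], [0, 0, 0, 0, 0, 1]],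
    [[1, -1, 0, 1, 0, 1], [1, 0, 1, 0, 0, 0], [1, 0, 0, 1, 0, 0], [0, 1, 1, 1, 0, 1], [0, 1, 0, 0, 1, 0], [0, 0, 1, 0, 1, 0], [0, 0, 0, 1, -1, -1]],
    [[1, -1, 0, 1, 0, 0], [1, 0, 1, 0, 1, 1], [1, 0, 0, 1, -1, 0], [0, 1, 1, 1, 0, 0], [0, 1, 0, 0, 1, 0], [0, 0, 1, 0, 0, 0], [0, 0, 0, 1, 0, 1], [0, 0, 0, 0, 0, 1]],
    [[1, -1, 0, 1, 0, 1], [1, 0, 1, 0, 1, 0], [1, 0, 0, 1, -1, 0], [0, 1, 1, 1, 0, 0], [0, 1, 0, 0, 1, 1], [0, 0, 1, 0, 0, 1], [0, 0, 0, 1, 0, 0]],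
    [[1, -1, 0, 1, -1, 0], [1, 0, 1, 1, 1, 1], [1, 0, 0, 0, 0, 0], [0, 1, 1, 0, 0, 0], [0, 1, 0, 1, 0, 0], [0, 0, 1, 0, 0, 0], [0, 0, 0, 1, -1, 0], [0, 0, 0, 0, 0, 1], [0, 0, 0, 0, 0, 1]],
    [[1, -1, 0, 1, 0, 0], [1, 0, 1, 1, 0, 1], [1, 0, 0, 0, 0, 0], [0, 1, 1, 0, 1, 0], [0, 1, 0, 1, 0, 0], [0, 0, 1, 0, 0, 0], [0, 0, 0, 1, -1, 0], [0, 0, 0, 0, 1, 1], [0, 0, 0, 0, 0, 1]],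
    [[1, -1, 0, 1, 0, 1], [1, 0, 1, 1, 0, 0], [1, 0, 0, 0, 0, 0], [0, 1, 1, 0, 1, 1], [0, 1, 0, 1, 0, 0], [0, 0, 1, 0, 0, 0], [0, 0, 0, 1, -1, 0], [0, 0, 0, 0, 1, 0], [0, 0, 0, 0, 0, 1]],
    [[1, -1, 0, 1, 0, 0], [1, 0, 1, 1, 0, 1], [1, 0, 0, 0, 0, 0], [0, 1, 1, 1, 0, 0], [0, 1, 0, 0, 1, 0], [0, 0, 1, -1, 1, 0], [0, 0, 0, 0, 1, 1], [0, 0, 0, 0, 0, 1]]]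
  | 7 => [[[1, -1, 0, 0, 0, 0, -1], [1, 0, 1, 1, 0, 0, 0], [1, 0, 0, 1, 0, 1, 0], [0, 1, 1, 0, 0, 0, 0], [0, 1, 0, 0, 1, 0, 0], [0, 0, 1, 0, 1, 1, 0], [0, 0, 0, 1, -1, 0, 0], [0, 0, 0, 1, 0, 0, 0], [0, 0, 0, 0, 0, 1, 0], [0, 0, 0, 0, 0, 0, 1], [0, 0, 0, 0, 0, 0, 1]],
    [[1, -1, 0, 0, 0, 0, 0], [1, 0, 1, 1, 0, 0, -1], [1, 0, 0, 1, 0, 1, 0], [0, 1, 1, 0, 0, 0, 1], [0, 1, 0, 0, 1, 0, 0], [0, 0, 1, 0, 1, 1, 0], [0, 0, 0, 1, -1, 0, 0], [0, 0, 0, 1, 0, 0, 1], [0, 0, 0, 0, 0, 1, 0]],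
    [[1, -1, 0, 0, 0, 0, -1], [1, 0, 1, 1, 0, 1, 0], [1, 0, 0, 1, 0, 0, 0], [0, 1, 1, 0, 0, 0, 0], [0, 1, 0, 0, 1, 0, 0], [0, 0, 1, 0, 1, 0, 0], [0, 0, 0, 1, -1, -1, 0], [0, 0, 0, 1, 0, 1, 0], [0, 0, 0, 0, 0, 0, 1], [0, 0, 0, 0, 0, 0, 1]],
    [[1, -1, 0, 0, 0, 0, 0], [1, 0, 1, 1, 0, 1, -1], [1, 0, 0, 1, 0, 0, 0], [0, 1, 1, 0, 0, 0, 1], [0, 1, 0, 0, 1, 0, 0], [0, 0, 1, 0, 1, 0, 0], [0, 0, 0, 1, -1, -1, 0], [0, 0, 0, 1, 0, 1, 1]],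
    [[1, -1, 0, 0, 0, 0, -1], [1, 0, 1, 1, 0, 0, 0], [1, 0, 0, 1, 0, 1, 0], [0, 1, 1, 0, 1, 0, 0], [0, 1, 0, 0, 0, 0, 0], [0, 0, 1, 0, 0, 1, 0], [0, 0, 0, 1, -1, 0, 0], [0, 0, 0, 1, 0, 0, 0], [0, 0, 0, 0, 1, 1, 0], [0, 0, 0, 0, 0, 0, 1], [0, 0, 0, 0, 0, 0, 1]],
    [[1, -1, 0, 0, 0, 0, 0], [1, 0, 1, 1, 0, 0, -1], [1, 0, 0, 1, 0, 1, 0], [0, 1, 1, 0, 1, 0, 1], [0, 1, 0, 0, 0, 0, 0], [0, 0, 1, 0, 0, 1, 0], [0, 0, 0, 1, -1, 0, 1], [0, 0, 0, 1, 0, 0, 0], [0, 0, 0, 0, 1, 1, 0]],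
    [[1, -1, 0, 0, 0, 0, -1], [1, 0, 1, 1, 0, 0, 0], [1, 0, 0, 1, 0, 1, 0], [0, 1, 1, 0, 1, 1, 0], [0, 1, 0, 0, 0, -1, 0], [0, 0, 1, 0, 0, 0, 0], [0, 0, 0, 1, -1, 0, 0], [0, 0, 0, 1, 0, 0, 0], [0, 0, 0, 0, 1, 0, 0], [0, 0, 0, 0, 0, 0, 1], [0, 0, 0, 0, 0, 0, 1]],
    [[1, -1, 0, 0, 0, 0, -1], [1, 0, 1, 1, 0, 1, 0], [1, 0, 0, 1, 0, 0, 0], [0, 1, 1, 0, 1, 0, 0], [0, 1, 0, 0, 0, 0, 0], [0, 0, 1, 0, 0, 0, 0], [0, 0, 0, 1, -1, -1, 0], [0, 0, 0, 1, 0, 1, 0], [0, 0, 0, 0, 1, 0, 0], [0, 0, 0, 0, 0, 0, 1], [0, 0, 0, 0, 0, 0, 1]],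
    [[1, -1, 0, 0, 0, 0, -1], [1, 0, 1, 1, 0, 1, 0], [1, 0, 0, 1, 0, 0, 0], [0, 1, 1, 0, 1, 0, 0], [0, 1, 0, 0, 0, 0, 0], [0, 0, 1, 0, 0, 0, 0], [0, 0, 0, 1, -1, 0, 0], [0, 0, 0, 1, 0, 0, 0], [0, 0, 0, 0, 1, 1, 0], [0, 0, 0, 0, 0, 1, 0], [0, 0, 0, 0, 0, 0, 1], [0, 0, 0, 0, 0, 0, 1]],
    [[1, -1, 0, 0, 0, 0, 0], [1, 0, 1, 1, 0, 1, 0], [1, 0, 0, 1, 0, 0, -1], [0, 1, 1, 0, 1, 0, 0], [0, 1, 0, 0, 0, 0, 1], [0, 0, 1, 0, 0, 0, 0], [0, 0, 0, 1, -1, 0, 0], [0, 0, 0, 1, 0, 0, 1], [0, 0, 0, 0, 1, 1, 0], [0, 0, 0, 0, 0, 1, 0]],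
    [[1, -1, 0, 1, -1, 0, 0], [1, 0, 1, 0, 1, 1, 0], [1, 0, 0, 1, 0, 0, -1], [0, 1, 1, 1, 0, 0, 1], [0, 1, 0, 0, 0, 0, 0], [0, 0, 1, 0, 0, 0, -1], [0, 0, 0, 1, 0, 1, 0], [0, 0, 0, 0, 1, 0, 0], [0, 0, 0, 0, 0, 1, 0]],
    [[1, -1, 0, 1, 0, 0, -1], [1, 0, 1, 0, 1, 1, 0], [1, 0, 0, 1, -1, 0, 0], [0, 1, 1, 1, 0, 0, 0], [0, 1, 0, 0, 1, 0, 0], [0, 0, 1, 0, 0, 0, 0], [0, 0, 0, 1, 0, 1, 1], [0, 0, 0, 0, 0, 1, -1]],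
    [[1, -1, 0, 1, -1, 0, -1], [1, 0, 1, 1, 1, 1, 0], [1, 0, 0, 0, 0, 0, 0], [0, 1, 1, 0, 0, 0, 0], [0, 1, 0, 1, 0, 0, 0], [0, 0, 1, 0, 0, 0, 0], [0, 0, 0, 1, -1, 0, 1], [0, 0, 0, 0, 0, 1, 0], [0, 0, 0, 0, 0, 1, 0], [0, 0, 0, 0, 0, 0, 1]],
    [[1, -1, 0, 1, -1, 0, 0], [1, 0, 1, 1, 1, 1, 0], [1, 0, 0, 0, 0, 0, -1], [0, 1, 1, 0, 0, 0, 1], [0, 1, 0, 1, 0, 0, 0], [0, 0, 1, 0, 0, 0, -1], [0, 0, 0, 1, -1, 0, 0], [0, 0, 0, 0, 0, 1, 0], [0, 0, 0, 0, 0, 1, 0]],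
    [[1, -1, 0, 1, 0, 1, 0], [1, 0, 1, 1, 0, 0, -1], [1, 0, 0, 0, 0, 0, 0], [0, 1, 1, 0, 1, 1, 0], [0, 1, 0, 1, 0, 0, 1], [0, 0, 1, 0, 0, 0, 1], [0, 0, 0, 1, -1, 0, 0], [0, 0, 0, 0, 1, 0, 0], [0, 0, 0, 0, 0, 1, 0]],
    [[1, -1, 0, 1, 0, 0, 0], [1, 0, 1, 1, 0, 1, -1], [1, 0, 0, 0, 0, 0, 0], [0, 1, 1, 1, 0, 0, 1], [0, 1, 0, 0, 1, 0, 0], [0, 0, 1, -1, 1, 0, 0], [0, 0, 0, 0, 1, 1, 0], [0, 0, 0, 0, 0, 1, 1]]]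
  | 8 => [[[1, -1, 0, 0, 0, 0, -1, 0], [1, 0, 1, 1, 0, 0, 0, 0], [1, 0, 0, 1, 0, 1, 0, 0], [0, 1, 1, 0, 0, 0, 0, 0], [0, 1, 0, 0, 1, 0, 0, 0], [0, 0, 1, 0, 1, 1, 0, 1], [0, 0, 0, 1, -1, 0, 0, 0], [0, 0, 0, 1, 0, 0, 0, -1], [0, 0, 0, 0, 0, 1, 0, -1], [0, 0, 0, 0, 0, 0, 1, 0], [0, 0, 0, 0, 0, 0, 1, 0]],
    [[1, -1, 0, 0, 0, 0, -1, 0], [1, 0, 1, 1, 0, 0, 0, 0], [1, 0, 0, 1, 0, 1, 0, 0], [0, 1, 1, 0, 1, 0, 0, 1], [0, 1, 0, 0, 0, 0, 0, -1], [0, 0, 1, 0, 0, 1, 0, 0], [0, 0, 0, 1, -1, 0, 0, 0], [0, 0, 0, 1, 0, 0, 0, -1], [0, 0, 0, 0, 1, 1, 0, 0], [0, 0, 0, 0, 0, 0, 1, 0], [0, 0, 0, 0, 0, 0, 1, 0]],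
    [[1, -1, 0, 0, 0, 0, -1, 0], [1, 0, 1, 1, 0, 0, 0, 0], [1, 0, 0, 1, 0, 1, 0, 0], [0, 1, 1, 0, 1, 1, 0, 0], [0, 1, 0, 0, 0, -1, 0, 0], [0, 0, 1, 0, 0, 0, 0, 1], [0, 0, 0, 1, -1, 0, 0, -1], [0, 0, 0, 1, 0, 0, 0, 0], [0, 0, 0, 0, 1, 0, 0, 0], [0, 0, 0, 0, 0, 0, 1, 0], [0, 0, 0, 0, 0, 0, 1, 0], [0, 0, 0, 0, 0, 0, 0, 1]],
    [[1, -1, 0, 0, 0, 0, -1, 0], [1, 0, 1, 1, 0, 0, 0, 0], [1, 0, 0, 1, 0, 1, 0, 0], [0, 1, 1, 0, 1, 1, 0, 0], [0, 1, 0, 0, 0, -1, 0, 0], [0, 0, 1, 0, 0, 0, 0, 1], [0, 0, 0, 1, -1, 0, 0, 0], [0, 0, 0, 1, 0, 0, 0, -1], [0, 0, 0, 0, 1, 0, 0, 1], [0, 0, 0, 0, 0, 0, 1, 0], [0, 0, 0, 0, 0, 0, 1, 0]],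
    [[1, -1, 0, 0, 0, 0, -1, 0], [1, 0, 1, 1, 0, 1, 0, 0], [1, 0, 0, 1, 0, 0, 0, 0], [0, 1, 1, 0, 1, 0, 0, 0], [0, 1, 0, 0, 0, 0, 0, 0], [0, 0, 1, 0, 0, 0, 0, 1], [0, 0, 0, 1, -1, 0, 0, -1], [0, 0, 0, 1, 0, 0, 0, 0], [0, 0, 0, 0, 1, 1, 0, 0], [0, 0, 0, 0, 0, 1, 0, 0], [0, 0, 0, 0, 0, 0, 1, 0], [0, 0, 0, 0, 0, 0, 1, 0], [0, 0, 0, 0, 0, 0, 0, 1]],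
    [[1, -1, 0, 0, 0, 0, -1, 0], [1, 0, 1, 1, 0, 1, 0, 0], [1, 0, 0, 1, 0, 0, 0, 0], [0, 1, 1, 0, 1, 0, 0, 1], [0, 1, 0, 0, 0, 0, 0, -1], [0, 0, 1, 0, 0, 0, 0, 0], [0, 0, 0, 1, -1, 0, 0, 0], [0, 0, 0, 1, 0, 0, 0, -1], [0, 0, 0, 0, 1, 1, 0, 0], [0, 0, 0, 0, 0, 1, 0, 0], [0, 0, 0, 0, 0, 0, 1, 0], [0, 0, 0, 0, 0, 0, 1, 0]],
    [[1, -1, 0, 0, 0, 0, 0, 0], [1, 0, 1, 1, 0, 1, 0, 0], [1, 0, 0, 1, 0, 0, -1, 0], [0, 1, 1, 0, 1, 0, 0, 0], [0, 1, 0, 0, 0, 0, 1, 0], [0, 0, 1, 0, 0, 0, 0, 1], [0, 0, 0, 1, -1, 0, 0, -1], [0, 0, 0, 1, 0, 0, 1, 0], [0, 0, 0, 0, 1, 1, 0, 0], [0, 0, 0, 0, 0, 1, 0, 0], [0, 0, 0, 0, 0, 0, 0, 1]],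
    [[1, -1, 0, 1, -1, 0, -1, 0], [1, 0, 1, 1, 1, 1, 0, 0], [1, 0, 0, 0, 0, 0, 0, 0], [0, 1, 1, 0, 0, 0, 0, 0], [0, 1, 0, 1, 0, 0, 0, 0], [0, 0, 1, 0, 0, 0, 0, 1], [0, 0, 0, 1, -1, 0, 1, -1], [0, 0, 0, 0, 0, 1, 0, 0], [0, 0, 0, 0, 0, 1, 0, 0], [0, 0, 0, 0, 0, 0, 1, 1]],
    [[1, -1, 0, 1, 0, 0, 0, 0], [1, 0, 1, 1, 0, 1, -1, 0], [1, 0, 0, 0, 0, 0, 0, 0], [0, 1, 1, 1, 0, 0, 1, 0], [0, 1, 0, 0, 1, 0, 0, 0], [0, 0, 1, -1, 1, 0, 0, 1], [0, 0, 0, 0, 1, 1, 0, 0], [0, 0, 0, 0, 0, 1, 1, 0], [0, 0, 0, 0, 0, 0, 0, 1], [0, 0, 0, 0, 0, 0, 0, 1]]]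
  | 9 => [[[1, -1, 0, 0, 0, 0, -1, 0, 0], [1, 0, 1, 1, 0, 0, 0, 0, 1], [1, 0, 0, 1, 0, 1, 0, 0, 0], [0, 1, 1, 0, 1, 1, 0, 0, 0], [0, 1, 0, 0, 0, -1, 0, 0, 0], [0, 0, 1, 0, 0, 0, 0, 1, -1], [0, 0, 0, 1, -1, 0, 0, -1, 0], [0, 0, 0, 1, 0, 0, 0, 0, 0], [0, 0, 0, 0, 1, 0, 0, 0, 0], [0, 0, 0, 0, 0, 0, 1, 0, 1], [0, 0, 0, 0, 0, 0, 1, 0, 0], [0, 0, 0, 0, 0, 0, 0, 1, 1]],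
    [[1, -1, 0, 0, 0, 0, -1, 0, 0], [1, 0, 1, 1, 0, 1, 0, 0, 0], [1, 0, 0, 1, 0, 0, 0, 0, 1], [0, 1, 1, 0, 1, 0, 0, 0, 0], [0, 1, 0, 0, 0, 0, 0, 0, 0], [0, 0, 1, 0, 0, 0, 0, 1, 0], [0, 0, 0, 1, -1, 0, 0, -1, 0], [0, 0, 0, 1, 0, 0, 0, 0, 0], [0, 0, 0, 0, 1, 1, 0, 0, 0], [0, 0, 0, 0, 0, 1, 0, 0, 0], [0, 0, 0, 0, 0, 0, 1, 0, 1], [0, 0, 0, 0, 0, 0, 1, 0, 0], [0, 0, 0, 0, 0, 0, 0, 1, 0], [0, 0, 0, 0, 0, 0, 0, 0, 1], [0, 0, 0, 0, 0, 0, 0, 0, 1]],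
    [[1, -1, 0, 0, 0, 0, -1, 0, 0], [1, 0, 1, 1, 0, 1, 0, 0, 0], [1, 0, 0, 1, 0, 0, 0, 0, 1], [0, 1, 1, 0, 1, 0, 0, 1, 0], [0, 1, 0, 0, 0, 0, 0, -1, 0], [0, 0, 1, 0, 0, 0, 0, 0, 0], [0, 0, 0, 1, -1, 0, 0, 0, 0], [0, 0, 0, 1, 0, 0, 0, -1, 0], [0, 0, 0, 0, 1, 1, 0, 0, 0], [0, 0, 0, 0, 0, 1, 0, 0, 0], [0, 0, 0, 0, 0, 0, 1, 0, 1], [0, 0, 0, 0, 0, 0, 1, 0, 0], [0, 0, 0, 0, 0, 0, 0, 0, 1], [0, 0, 0, 0, 0, 0, 0, 0, 1]],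
    [[1, -1, 0, 0, 0, 0, -1, 0, 0], [1, 0, 1, 1, 0, 1, 0, 0, 1], [1, 0, 0, 1, 0, 0, 0, 0, 0], [0, 1, 1, 0, 1, 0, 0, 1, 0], [0, 1, 0, 0, 0, 0, 0, -1, 0], [0, 0, 1, 0, 0, 0, 0, 0, -1], [0, 0, 0, 1, -1, 0, 0, 0, 0], [0, 0, 0, 1, 0, 0, 0, -1, 0], [0, 0, 0, 0, 1, 1, 0, 0, 0], [0, 0, 0, 0, 0, 1, 0, 0, -1], [0, 0, 0, 0, 0, 0, 1, 0, 1], [0, 0, 0, 0, 0, 0, 1, 0, 0]],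
    [[1, -1, 0, 1, 0, 0, 0, 0, 1], [1, 0, 1, 1, 0, 1, -1, 0, 0], [1, 0, 0, 0, 0, 0, 0, 0, 0], [0, 1, 1, 1, 0, 0, 1, 0, 0], [0, 1, 0, 0, 1, 0, 0, 0, 1], [0, 0, 1, -1, 1, 0, 0, 1, 0], [0, 0, 0, 0, 1, 1, 0, 0, -1], [0, 0, 0, 0, 0, 1, 1, 0, 1], [0, 0, 0, 0, 0, 0, 0, 1, 0], [0, 0, 0, 0, 0, 0, 0, 1, 0]]]
  | 10 => [[[1, -1, 0, 0, 0, 0, -1, 0, 0, 0], [1, 0, 1, 1, 0, 1, 0, 0, 0, 1], [1, 0, 0, 1, 0, 0, 0, 0, 1, 0], [0, 1, 1, 0, 1, 0, 0, 0, 0, 0], [0, 1, 0, 0, 0, 0, 0, 0, 0, 0], [0, 0, 1, 0, 0, 0, 0, 1, 0, 0], [0, 0, 0, 1, -1, 0, 0, -1, 0, 1], [0, 0, 0, 1, 0, 0, 0, 0, 0, 0], [0, 0, 0, 0, 1, 1, 0, 0, 0, 0], [0, 0, 0, 0, 0, 1, 0, 0, 0, 0], [0, 0, 0, 0, 0, 0, 1, 0, 1, -1], [0, 0, 0,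 0, 0, 0, 1, 0, 0, 1], [0, 0, 0, 0, 0, 0, 0, 1, 0, 0], [0, 0, 0, 0, 0, 0, 0, 0, 1, 0], [0, 0, 0, 0, 0, 0, 0, 0, 1, 0]],
    [[1, -1, 0, 0, 0, 0, -1, 0, 0, 0], [1, 0, 1, 1, 0, 1, 0, 0, 0, 1], [1, 0, 0, 1, 0, 0, 0, 0, 1, 0], [0, 1, 1, 0, 1, 0, 0, 0, 0, 0], [0, 1, 0, 0, 0, 0, 0, 0, 0, 0], [0, 0, 1, 0, 0, 0, 0, 1, 0, 0], [0, 0, 0, 1, -1, 0, 0, -1, 0, 1], [0, 0, 0, 1, 0, 0, 0, 0, 0, 0], [0, 0, 0, 0, 1, 1, 0, 0, 0, 0], [0, 0, 0, 0, 0, 1, 0, 0, 0, 0], [0, 0, 0, 0, 0, 0, 1, 0, 1, 0], [0, 0, 0, 0, 0, 0, 1, 0, 0, 0], [0, 0, 0, 0, 0, 0, 0, 1, 0, 0], [0, 0, 0, 0, 0, 0, 0, 0, 1, -1], [0, 0, 0, 0, 0, 0, 0, 0, 1, 0], [0, 0, 0, 0, 0, 0, 0, 0, 0, 1]]]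
  | 11 => [[[1, -1, 0, 0, 0, 0, -1, 0, 0, 0, -1], [1, 0, 1, 1, 0, 1, 0, 0, 0, 1, 0], [1, 0, 0, 1, 0, 0, 0, 0, 1, 0, 0], [0, 1, 1, 0, 1, 0, 0, 0, 0, 0, 0], [0, 1, 0, 0, 0, 0, 0, 0, 0, 0, 0], [0, 0, 1, 0, 0, 0, 0, 1, 0, 0, 0], [0, 0, 0, 1, -1, 0, 0, -1, 0, 1, 0], [0, 0, 0, 1, 0, 0, 0, 0, 0, 0, 0], [0, 0, 0, 0, 1, 1, 0, 0, 0, 0, 0], [0, 0, 0, 0, 0, 1, 0, 0, 0, 0, 0], [0, 0, 0, 0, 0, 0, 1, 0, 1, -1, 0], [0, 0, 0, 0, 0, 0, 1, 0, 0, 1, 0], [0, 0, 0, 0, 0, 0, 0, 1, 0, 0, 0], [0, 0, 0, 0, 0, 0, 0, 0, 1, 0, -1], [0, 0, 0, 0, 0, 0, 0, 0, 1, 0, 0], [0, 0, 0, 0, 0, 0, 0, 0, 0, 0, 1]],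
    [[1, -1, 0, 0, 0, 0, -1, 0, 0, 0, -1], [1, 0, 1, 1, 0, 1, 0, 0, 0, 1, 0], [1, 0, 0, 1, 0, 0, 0, 0, 1, 0, 0], [0, 1, 1, 0, 1, 0, 0, 0, 0, 0, 0], [0, 1, 0, 0, 0, 0, 0, 0, 0, 0, 0], [0, 0, 1, 0, 0, 0, 0, 1, 0, 0, 0], [0, 0, 0, 1, -1, 0, 0, -1, 0, 1, 0], [0, 0, 0, 1, 0, 0, 0, 0, 0, 0, 0], [0, 0, 0, 0, 1, 1, 0, 0, 0, 0, 0], [0, 0, 0, 0, 0, 1, 0, 0, 0, 0, 0], [0, 0, 0, 0, 0, 0, 1, 0, 1, 0, -1], [0, 0, 0, 0, 0, 0, 1, 0, 0, 0, 1], [0, 0, 0, 0, 0, 0, 0, 1, 0, 0, 0], [0, 0, 0, 0, 0, 0, 0, 0, 1, -1, 0], [0, 0, 0, 0, 0, 0, 0, 0, 1, 0, 0], [0, 0, 0, 0, 0, 0, 0, 0, 0, 1, 0]],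
    [[1, -1, 0, 0, 0, 0, -1, 0, 0, 0, -1], [1, 0, 1, 1, 0, 1, 0, 0, 0, 1, 0], [1, 0, 0, 1, 0, 0, 0, 0, 1, 0, 0], [0, 1, 1, 0, 1, 0, 0, 0, 0, 0, 0], [0, 1, 0, 0, 0, 0, 0, 0, 0, 0, 0], [0, 0, 1, 0, 0, 0, 0, 1, 0, 0, 0], [0, 0, 0, 1, -1, 0, 0, -1, 0, 1, 0], [0, 0, 0, 1, 0, 0, 0, 0, 0, 0, 0], [0, 0, 0, 0, 1, 1, 0, 0, 0, 0, 0], [0, 0, 0, 0, 0, 1, 0, 0, 0, 0, 0], [0, 0, 0, 0, 0, 0, 1, 0, 1, 0, 0], [0, 0, 0, 0, 0, 0, 1, 0, 0, 0, 0], [0, 0, 0, 0, 0, 0, 0, 1, 0, 0, 0], [0, 0, 0, 0, 0, 0, 0, 0, 1, -1, -1], [0, 0, 0, 0, 0, 0, 0, 0, 1, 0, 0], [0, 0, 0, 0, 0, 0, 0, 0, 0, 1, -1]],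
    [[1, -1, 0, 0, 0, 0, -1, 0, 0, 0, -1], [1, 0, 1, 1, 0, 1, 0, 0, 0, 1, 0], [1, 0, 0, 1, 0, 0, 0, 0, 1, 0, 0], [0, 1, 1, 0, 1, 0, 0, 0, 0, 0, 0], [0, 1, 0, 0, 0, 0, 0, 0, 0, 0, 0], [0, 0, 1, 0, 0, 0, 0, 1, 0, 0, 0], [0, 0, 0, 1, -1, 0, 0, -1, 0, 1, 0], [0, 0, 0, 1, 0, 0, 0, 0, 0, 0, 0], [0, 0, 0, 0, 1, 1, 0, 0, 0, 0, 0], [0, 0, 0, 0, 0, 1, 0, 0, 0, 0, 0], [0, 0, 0, 0, 0, 0, 1, 0, 1, 0, 0], [0, 0, 0, 0, 0, 0, 1, 0, 0, 0, 0], [0, 0, 0, 0, 0, 0, 0, 1, 0, 0, 0], [0, 0, 0, 0, 0, 0, 0, 0, 1, -1, 0], [0, 0, 0, 0, 0, 0, 0, 0, 1, 0, -1], [0, 0, 0, 0, 0, 0, 0, 0, 0, 1, 0], [0, 0, 0, 0, 0, 0, 0, 0, 0, 0, 1]]]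
  | _ => []

end CfsgLib.GTwoTwoLocal.Search
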