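import Cfsg.Agent.Lib.GTwoTwoLocal.SearchDefs
import Cfsg.Agent.Lib.GTwoTwoLocal.SearchData

/-!
# The states are closed under extension, and the final ones have one shape
-/

set_option autoImplicit false
set_option maxRecDepth 100000

namespace CfsgLib.GTwoTwoLocal.Search

/-- All successors of the states of depth `k` occur at the next depth. -/
def stepTest (k : ℕ) : Bool :=
  (levelL k).all fun s => (children k s).all fun c => (levelL (k + 1)).contains c

theorem level_zero : (levelL 0).contains [] = true := by decide +kernel

theorem step_all : ∀ k : Fin 11, stepTest k = true := by decide +kernel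

theorem final_ok : (levelL 11).all (fun s => support s == target) = true := by decide +kernel

/-- The values of the three constituents at the special classes. -/
theorem target_values : target.map (fun c => (List.range 11).map (valCol c)) =
    [[-1, -1, 0, 3, 0, 1, 1, -2, 3, -2, -5], [1, 1, 0, 3, 0, 0, 0, 0, 3, 0, -9],
      [1, 1, -1, -1, -1, 0, 0, -3, -1, -3, 3]] := by decide +kernel

end CfsgLib.GTwoTwoLocal.Search
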