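import Mathlib.Data.Nat.Notation
import Mathlib.Data.Int.Notation

/-!
# Enumeration of integral vectors with a prescribed Gram matrix

The eleven functions are the exceptional functions numbered by `ordL`, the number `10` standing for the half of
`θ₂ - θ₄ + θ₈ - θ₁₀`.  A column lists the coefficients of one signed character in the functions already placed;
a state is a sorted list of columns.
-/

set_option autoImplicit false

namespace CfsgLib.GTwoTwoLocal.Search

/-- The order of the functions. -/
def ordL : List ℕ := [10, 4, 2, 8, 3, 0, 6, 1, 9, 7, 5]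

/-- Inner products of the eleven functions. -/
def gramL : List (List ℤ) :=
  [[3, -1, 1, 2, 0, 1, -1, 0, 1, 1, -1],
   [-1, 4, 2, 0, 2, 0, 2, 0, 0, 0, 2],
   [1, 2, 4, 1, 2, 1, 1, 1, 0, 1, 1],
   [2, 0, 1, 4, -1, 1, 0, -1, 1, 2, 0],
   [0, 2, 2, -1, 4, 1, 1, 1, 0, -1, 1],
   [1, 0, 1, 1, 1, 3, 0, 0, 0, 1, 0],
   [-1, 2, 1, 0, 1, 0, 4, 0, 1, 0, 2],
   [0, 0, 1, -1, 1, 0, 0, 3, 0, -1, 0],
   [1, 0, 0, 1, 0, 0, 1, 0, 4, -1, -1],
   [1, 0, 1, 2, -1, 1, 0, -1, -1, 4, 0],
   [-1, 2, 1, 0, 1, 0, 2, 0, -1, 0, 4]]

/-- Inner products with the trivial character. -/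
def trcL : List ℤ := [0, 1, 1, 0, 1, 0, 1, 0, 0, 0, 1]

def gram (a b : ℕ) : ℤ := (gramL.getD a []).getD b 0

def trc (a : ℕ) : ℤ := trcL.getD a 0

/-- Linear combination of columns. -/
def comb (k : ℕ) : List (List ℤ) → List ℤ → List ℤ
  | c :: r, x :: xs => List.zipWith (· + ·) (c.map (x * ·)) (comb k r xs)
  | _, _ => List.replicate k 0

/-- Sums of squares of the coordinates. -/
def sumsq (k : ℕ) : List (List ℤ) → List ℤ
  | c :: r => List.zipWith (· + ·) (c.map fun e => e * e) (sumsq k r)
  | [] => List.replicate k 0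

/-- The Cauchy-Schwarz test. -/
def feasible : List ℤ → List ℤ → ℤ → Bool
  | n :: ns, s :: ss, bud => decide (n * n ≤ s * bud) && feasible ns ss bud
  | _, _, _ => true

/-- Candidate values. -/
def vrange : List ℤ := [-2, -1, 0, 1, 2]

/-- All extensions of the existing columns. -/
def solve (k : ℕ) : List (List ℤ) → ℤ → List ℤ → List (List ℤ × ℤ)
  | [], bud, need => if need.all (fun n => n == 0) then [([], bud)] else []
  | c :: r, bud, need =>
    if bud == 0 then
      if need.all (fun n => n == 0) then [(List.replicate (r.length + 1) 0, 0)] else []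
    else if feasible need (sumsq k (c :: r)) bud then
      vrange.flatMap fun x =>
        if x * x ≤ bud then
          (solve k r (bud - x * x) (List.zipWith (fun n e => n - x * e) need c)).map fun p => (x :: p.1, p.2)
        else []
    else []

/-- Ways to write a number as a sum of squares of positive integers, largest first. -/
def parts : ℕ → ℤ → ℤ → List (List ℤ)
  | 0, _, _ => []
  | f + 1, bud, mx =>
    if bud == 0 then [[]] else
      [2, 1].flatMap fun a : ℤ =>
        if a ≤ mx ∧ a * a ≤ bud then (parts f (bud - a * a) a).map (a :: ·) else []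

/-- Lexicographic comparison. -/
def ltL : List ℤ → List ℤ → Bool
  | a :: as, b :: bs => decide (a < b) || (decide (a = b) && ltL as bs)
  | _, _ => false

/-- The order of the columns: by absolute values, then by values, decreasing. -/
def geC (c d : List ℤ) : Bool :=
  let a := c.map fun e => (e.natAbs : ℤ)
  let b := d.map fun e => (e.natAbs : ℤ)
  ltL b a || (a == b && !ltL c d)

/-- Insertion. -/
def insertC (c : List ℤ) : List (List ℤ) → List (List ℤ)
  | [] => [c]
  | d :: r => if geC c d then c :: d :: r else d :: insertC c r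

/-- Sorting. -/
def sortC : List (List ℤ) → List (List ℤ)
  | [] => []
  | c :: r => insertC c (sortC r)

/-- The successors of a state. -/
def children (k : ℕ) (cols : List (List ℤ)) : List (List (List ℤ)) :=
  let t := trc k
  let need := (List.range k).map fun a => gram k a - t * trc a
  (solve k cols (gram k k - t * t) need).flatMap fun p =>
    (parts 9 p.2 2).map fun ps =>
      sortC (List.zipWith (fun c x => c ++ [x]) cols p.1 ++ ps.map fun v => List.replicate k 0 ++ [v])

/-- Removal of repetitions. -/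
def dedup : List (List (List ℤ)) → List (List (List ℤ))
  | [] => []
  | s :: r => let d := dedup r; if d.contains s then d else s :: d

/-- Rows computing the values on the special classes from a column. -/
def qL : List (List ℤ) :=
  [[0, 1, 0, -1, 0, 0, 0, 0, 0, 1, 0],
   [0, 1, 0, 1, 0, 0, 0, 0, 0, -1, 0],
   [0, -1, 0, 0, 1, 0, 1, 0, -1, -1, 0],
   [0, -1, 6, -3, -2, 0, -2, 0, 2, -1, 0],
   [0, -1, 1, 1, 0, 0, 1, 0, -1, 0, 0],
   [2, 0, 0, -1, 0, -1, -1, -1, 0, 0, 2],
   [2, 0, 0, -1, 0, -1, 2, -1, 0, 0, -1],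
   [-4, -3, 3, -1, 0, 2, -1, -4, 3, 0, 2],
   [0, -1, -2, 1, 6, 0, -2, 0, 2, 3, 0],
   [-4, -3, 0, 2, 3, -4, -1, 2, 3, 3, 2],
   [8, 3, -6, -7, -6, 8, 2, 8, 6, 3, 8]]

/-- Dot product. -/
def dot : List ℤ → List ℤ → ℤ
  | a :: as, b :: bs => a * b + dot as bs
  | _, _ => 0

/-- Value of a signed character at a special class. -/
def valCol (col : List ℤ) (k : ℕ) : ℤ := dot (qL.getD k []) col

/-- The columns of the three constituents of the fifth exceptional function. -/
def target : List (List ℤ) :=
  [[1, -1, 0, 0, 0, 0, -1, 0, 0, 0, -1],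
   [0, 1, 1, 0, 1, 0, 0, 0, 0, 0, 0],
   [0, 1, 0, 0, 0, 0, 0, 0, 0, 0, 0]]

/-- The part of a state meeting the fifth exceptional function. -/
def support (s : List (List ℤ)) : List (List ℤ) := s.filter fun c => c.getD 1 0 != 0

end CfsgLib.GTwoTwoLocal.Search
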