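import Cfsg.Agent.Lib.GTwoTwoLocal.ModelCheck
import Cfsg.Agent.Lib.GTwoTwoLocal.SearchCheck

/-!
# Numerical tables relating the exceptional functions, the classes and the enumeration
-/

set_option autoImplicit false
set_option maxRecDepth 100000

namespace CfsgLib.GTwoTwoLocal.Model

open Search (gram trc qL ordL dot target valCol)

/-- Powers of codes. -/
def powC (x : ℕ) : ℕ → ℕ
  | 0 => 0
  | n + 1 => mulC (powC x n) x

/-- Values of the eleven functions of the enumeration. -/
def newTh (a k : ℕ) : ℤ :=
  if ordL.getD a 0 == 10 then (thF 2 k - thF 4 k + thF 8 k - thF 10 k) / 2 else thF (ordL.getD a 0) k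

/-- A weighted sum over the classes. -/
def csum (f : ℕ → ℤ) : ℕ → ℤ
  | 0 => 0
  | n + 1 => csum f n + (size n : ℤ) * f n

/-- A plain sum. -/
def lsum (f : ℕ → ℤ) : ℕ → ℤ
  | 0 => 0
  | n + 1 => lsum f n + f n

theorem ord_ok : allBelow 11 (fun a => Nat.blt (ordL.getD a 0) 11) = true := by decide +kernel

theorem half_ok : allBelow 20 (fun k => (thF 2 k - thF 4 k + thF 8 k - thF 10 k) % 2 == 0) = true := by
  decide +kernel

theorem gram_ok : allBelow 11 (fun a =>
    (csum (newTh a) 20 == 576 * trc a) &&
      allBelow 11 fun b => csum (fun k => newTh a k * newTh b k) 20 == 576 * gram a b) = true := by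
  decide +kernel

theorem inverse_ok : allBelow 11 (fun i => allBelow 11 fun k =>
    lsum (fun a => (qL.getD i []).getD a 0 * ((size k : ℤ) * newTh a k)) 11 ==
      if i == k then 576 else 0) = true := by decide +kernel

/-- The integrality relation giving the half function. -/
def parityRow : List ℤ := [-2880, -2880, 288, 2304, 288, -2880, -576, -1152, 1440, -2304, 1440]

/-- The folded difference of the first two monomial characters of the Sylow subgroup. -/
def foldDiff (k : ℕ) : ℤ :=
  (size k : ℤ) * (valF 20 k - valF 21 k) +
    if k == 10 then (size 12 : ℤ) * (valF 20 12 - valF 21 12) + (size 13 : ℤ) * (valF 20 13 - valF 21 13) else 0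

theorem parity_ok : allBelow 11 (fun k =>
    576 * foldDiff k == lsum (fun a => parityRow.getD a 0 * ((size k : ℤ) * thF a k)) 11) = true := by
  decide +kernel

theorem mon_support : allBelow 3 (fun n =>
    valF (20 + n) 11 == 9 && valF (20 + n) 16 == 0 && valF (20 + n) 17 == 0 &&
      valF (20 + n) 18 == 0 && valF (20 + n) 19 == 0) = true ∧
    (valF 20 14 == valF 21 14 && valF 20 15 == valF 21 15) = true := by decide +kernel

theorem size_eleven : size 11 = 1 := by decide +kernel

theorem cls_zero : cls 0 = 11 := by decide +kernel

theorem special_pow : allBelow 576 (fun x => !Nat.blt (cls x) 11 ||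
    (List.range 13).any fun k => powC x k == 1) = true := by decide +kernel

theorem special_unique : allBelow 576 (fun x => !Nat.blt (cls x) 11 ||
    (List.range 13).all fun k => !(mulC (powC x k) (powC x k) == 0) || powC x k == 0 || powC x k == 1) = true := by
  decide +kernel

theorem central_ok : allBelow 576 (fun x =>
    !(gensM.all fun g => mulC x g == mulC g x) || x == 0 || x == 1) = true := by decide +kernel

theorem cls_one : cls 1 = 10 := by decide +kernel

theorem involution_cls : allBelow 576 (fun x =>
    (!(cls x == 12 || cls x == 13) || (mulC x x == 0 && x != 0)) &&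
      (!(cls x == 14 || cls x == 15) || (mulC (mulC x x) (mulC x x) == 0 && mulC x x != 0)) &&
      (!(mulC x x == 1) || cls x == 3 || cls x == 8)) = true := by decide +kernel

/-- Number of ordered pairs of involutions of the model with product the representative. -/
def invTbl : List ℕ := [8, 8, 12, 36, 12, 18, 18, 36, 36, 36, 90]

theorem invTbl_ok : allBelow 11 (fun k => countBelow 576 (fun a =>
    mulC a a == 0 && a != 0 && mulC (mulC a (rep k)) (mulC a (rep k)) == 0 && mulC a (rep k) != 0) ==
      invTbl.getD k 0) = true := by decide +kernel

theorem product_sum : csum (fun k => newTh 1 k * (invTbl.getD k 0 : ℤ)) 11 = 576 * 8 := by decide +kernel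

/-- Value of a target column at a class. -/
def tVal (i k : ℕ) : ℤ :=
  if k < 11 then valCol (target.getD i []) k
  else if k == 12 || k == 13 then valCol (target.getD i []) 10
  else if k == 14 || k == 15 then valCol (target.getD i []) 3
  else 0

/-- The sum over the known classes against a monomial character. -/
def tSum (i n : ℕ) : ℤ := csum (fun k => if k == 11 then 0 else valF n k * tVal i k) 20

theorem target_fused : allBelow 3 (fun i =>
    valCol (target.getD i []) 3 == valCol (target.getD i []) 8) = true := by decide +kernel

theorem target_sums : (List.range 3).map (fun i => [tSum i 20, tSum i 21, tSum i 22]) =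
    [[909, -819, -243], [1377, -1503, -927], [-459, 693, 117]] := by decide +kernel

end CfsgLib.GTwoTwoLocal.Model
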