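import Cfsg.Agent.Lib.GTwoTwoLocal.Induced
import Cfsg.Agent.Lib.GTwoTwoLocal.Tables
import Cfsg.Agent.Lib.GL23.Main
import Cfsg.Agent.Lib.Characters.Galois

/-!
# Special classes in a group with the model as centraliser of an involution
-/

set_option autoImplicit false
set_option maxRecDepth 100000
set_option linter.unusedSectionVars false

namespace CfsgLib.GTwoTwoLocal

open Cfsg CfsgLib.Characters Model
open CfsgLib.GL23 (Ct tC mem_Ct sq_t t_ne_one)
open scoped ComplexConjugate

namespace Coded

variable {C : Type*} [Group C] (e : Coded C)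

theorem code_pow (x : C) : ∀ n : ℕ, e.code (x ^ n) = powC (e.code x) n
  | 0 => by rw [pow_zero, e.code_one]; rfl
  | n + 1 => by rw [pow_succ, e.mul, code_pow x n]; rfl

theorem code_sq {x : C} : mulC (e.code x) (e.code x) = 0 ↔ x * x = 1 := by
  rw [← e.mul, e.code_eq_zero]

theorem code_eq_one_of_central {x : C} (hne : x ≠ 1) (hc : ∀ y, x * y = y * x) : e.code x = 1 := by
  have h := allBelow_spec central_ok _ (e.lt x)
  simp only [Bool.or_eq_true, Bool.not_eq_true', beq_iff_eq] at h
  have h0 : e.code x ≠ 0 := fun h' => hne (e.code_eq_zero.1 h')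
  have hgen : (gensM.all fun g => mulC (e.code x) g == mulC g (e.code x)) = true := by
    refine List.all_eq_true.2 fun g hg => ?_
    obtain ⟨y, rfl⟩ := e.surj g ((subTest_parts (n := 0) (by norm_num)).2.1 g hg).1
    rw [beq_iff_eq, ← e.mul, ← e.mul, hc y]
  rw [hgen] at h
  simpa [h0] using h

theorem cl_one : e.cl 1 = 11 := by rw [cl, e.code_one, cls_zero]

theorem csum_eq (f : ℕ → ℤ) : ∀ n, csum f n = ∑ k ∈ Finset.range n, (size k : ℤ) * f k
  | 0 => rfl
  | n + 1 => by rw [csum, csum_eq f n, Finset.sum_range_succ]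

theorem lsum_eq (f : ℕ → ℤ) : ∀ n, lsum f n = ∑ k ∈ Finset.range n, f k
  | 0 => rfl
  | n + 1 => by rw [lsum, lsum_eq f n, Finset.sum_range_succ]

end Coded

variable {G : Type*} [Group G] [Fintype G] {z : G} (e : Coded ↥(Ct z)) (hz : orderOf z = 2)

include e in
theorem card_Ct : Nat.card (Ct z) = 576 := e.card_eq

include e hz in
theorem code_tC : e.code (tC z) = 1 := by
  refine e.code_eq_one_of_central (fun h => t_ne_one hz (congrArg Subtype.val h)) fun y => ?_
  exact Subtype.ext (mem_Ct.1 y.2).symm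

include hz in
theorem exists_pow_eq {x : Ct z} (hx : e.cl x < 11) : ∃ k : ℕ, (x : G) ^ k = z := by
  have h := allBelow_spec special_pow _ (e.lt x)
  have hb : Nat.blt (cls (e.code x)) 11 = true := by rw [Nat.blt_eq]; exact hx
  simp only [hb, Bool.not_true, Bool.false_or, List.any_eq_true, beq_iff_eq] at h
  obtain ⟨k, -, hk⟩ := h
  rw [← e.code_pow, ← code_tC e hz] at hk
  exact ⟨k, congrArg Subtype.val (e.inj hk)⟩

include hz in
/-- The special classes form a trivial intersection set. -/
theorem mem_of_conj {x y : Ct z} (hx : e.cl x < 11) (hy : e.cl y < 11) {g : G}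
    (h : g * x * g⁻¹ = y) : g ∈ Ct z := by
  have hp := allBelow_spec special_pow _ (e.lt x)
  have hbx : Nat.blt (cls (e.code x)) 11 = true := by rw [Nat.blt_eq]; exact hx
  simp only [hbx, Bool.not_true, Bool.false_or, List.any_eq_true, beq_iff_eq, List.mem_range] at hp
  obtain ⟨k, hk13, hk⟩ := hp
  rw [← e.code_pow, ← code_tC e hz] at hk
  have hxk : (x : G) ^ k = z := congrArg Subtype.val (e.inj hk)
  have h1 : g * z * g⁻¹ = ((y ^ k : Ct z) : G) := by
    rw [Subgroup.coe_pow, ← h, conj_pow, hxk]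
  have hu := allBelow_spec special_unique _ (e.lt y)
  have hby : Nat.blt (cls (e.code y)) 11 = true := by rw [Nat.blt_eq]; exact hy
  simp only [hby, Bool.not_true, Bool.false_or, List.all_eq_true, List.mem_range, Bool.or_eq_true,
    Bool.not_eq_true', beq_iff_eq, beq_eq_false_iff_ne] at hu
  have hu := hu k hk13
  rw [← e.code_pow] at hu
  have hsq : (y ^ k) * (y ^ k) = 1 := Subtype.ext (by
    rw [Subgroup.coe_mul, Subgroup.coe_one, ← h1,
      show g * z * g⁻¹ * (g * z * g⁻¹) = g * (z * z) * g⁻¹ by group, sq_t hz]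
    group)
  rcases hu with (hu | hu) | hu
  · exact absurd (e.code_sq.2 hsq) hu
  · exfalso
    have h2 := congrArg Subtype.val (e.code_eq_zero.1 hu)
    rw [← h1, Subgroup.coe_one] at h2
    exact t_ne_one hz (by simpa using h2)
  · rw [← code_tC e hz] at hu
    rw [congrArg Subtype.val (e.inj hu)] at h1
    exact mem_Ct.2 (mul_inv_eq_iff_eq_mul.1 h1)

/-- The induced exceptional function. -/
noncomputable def Theta (j : ℕ) : G → ℂ := indFun (Ct z) (e.theta j)

theorem isGeneralized_Theta {j : ℕ} (hj : j < 11) : IsGeneralizedCharacter G (Theta e j) :=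
  haveI : Fintype (Ct z) := Fintype.ofFinite _
  CfsgLib.CharArtin.isGeneralizedCharacter_indFun _ (e.isGeneralized_theta hj)

theorem isClassFunction_Theta {j : ℕ} (hj : j < 11) : IsClassFunction G (Theta e j) :=
  isClassFunction_of_isGeneralizedCharacter (isGeneralized_Theta e hj)

include hz in
/-- Restriction of an induced function to the special classes. -/
theorem Theta_apply {j : ℕ} (hj : j < 11) {x : Ct z} (hx : e.cl x < 11) :
    Theta e j (x : G) = e.theta j x := by
  classical
  rw [Theta, CfsgLib.Induction.indFun_apply, e.card_eq]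
  have key : ∀ g : G, extendByZero (Ct z) (e.theta j) (g⁻¹ * x * g) =
      if g ∈ Ct z then e.theta j x else 0 := by
    intro g
    by_cases hg : g ∈ Ct z
    · have hm : g⁻¹ * x * g ∈ Ct z := mul_mem (mul_mem (inv_mem hg) x.2) hg
      rw [if_pos hg, CfsgLib.Induction.extendByZero_mem _ _ hm]
      rw [show (⟨g⁻¹ * x * g, hm⟩ : Ct z) = (⟨g, hg⟩ : Ct z)⁻¹ * x * (⟨g, hg⟩ : Ct z)⁻¹⁻¹ from
        Subtype.ext (by simp)]
      exact e.theta_conj j _ _
    · rw [if_neg hg]
      by_cases hm : g⁻¹ * x * g ∈ Ct z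
      · rw [CfsgLib.Induction.extendByZero_mem _ _ hm]
        refine e.theta_eq_zero hj (Nat.le_of_not_lt fun hy => hg ?_)
        exact mem_of_conj e hz hy hx (show g * (g⁻¹ * x * g) * g⁻¹ = x by group)
      · rw [CfsgLib.Induction.extendByZero_notMem _ _ hm]
  rw [Finset.sum_congr rfl fun g _ => key g, ← Finset.sum_filter, Finset.sum_const, nsmul_eq_mul,
    ← Fintype.card_subtype, ← Nat.card_eq_fintype_card, e.card_eq]
  push_cast
  ring

theorem Theta_one {j : ℕ} (hj : j < 11) : Theta e j 1 = 0 := by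
  rw [Theta, CfsgLib.Induction.indFun_one_apply, e.theta_eq_zero hj (by rw [e.cl_one]), mul_zero]

/-- The value of a class function at a class. -/
noncomputable def classVal (f : G → ℂ) (k : ℕ) : ℂ :=
  if h : k < 20 then f ((Classical.choose (e.exists_rep h) : Ct z) : G) else 0

theorem classVal_cl {f : G → ℂ} (hf : IsClassFunction G f) (x : Ct z) :
    f (x : G) = classVal e f (e.cl x) := by
  rw [classVal, dif_pos (e.cl_lt x)]
  obtain ⟨-, hr⟩ := Classical.choose_spec (e.exists_rep (e.cl_lt x))
  obtain ⟨g, hg⟩ := isConj_iff.1 (e.isConj_of_cl hr.symm)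
  rw [← hg, Subgroup.coe_mul, Subgroup.coe_mul, Subgroup.coe_inv, hf]

/-- The inner product of an induced function with a class function. -/
theorem inner_Theta {j : ℕ} {f : G → ℂ} (hf : IsClassFunction G f) :
    (576 : ℂ) * classInner (Theta e j) f =
      ∑ k ∈ Finset.range 20, (size k : ℂ) * ((thF j k : ℂ) * conj (classVal e f k)) := by
  classical
  letI : Fintype (Ct z) := Fintype.ofFinite _
  rw [Theta, CfsgLib.Induction.classInner_indFun _ _ hf, classInner, e.card_eq]
  push_cast
  rw [← mul_assoc, mul_inv_cancel₀ (by norm_num), one_mul]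
  rw [← Finset.sum_congr rfl fun k (_ : k ∈ Finset.range 20) =>
    (nsmul_eq_mul (size k) ((thF j k : ℂ) * conj (classVal e f k))),
    ← e.sum_cl fun k => (thF j k : ℂ) * conj (classVal e f k)]
  exact Finset.sum_congr rfl fun x _ => by rw [classVal_cl e hf x]; rfl

include hz in
/-- The inner product of two induced functions. -/
theorem inner_Theta_Theta {i j : ℕ} (hi : i < 11) (hj : j < 11) :
    (576 : ℂ) * classInner (Theta e i) (Theta e j) =
      ((csum (fun k => thF i k * thF j k) 20 : ℤ) : ℂ) := by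
  rw [inner_Theta e (isClassFunction_Theta e hj), Coded.csum_eq, Int.cast_sum]
  refine Finset.sum_congr rfl fun k hk => ?_
  by_cases h : thF i k = 0
  · simp [h]
  · have hk20 : k < 20 := Finset.mem_range.1 hk
    obtain ⟨x, -, hxk⟩ := e.exists_rep hk20
    have hk11 : k < 11 := Nat.lt_of_not_le fun h11 => h ((Coded.thF_spec hi hk20).2 h11)
    subst hxk
    rw [← classVal_cl e (isClassFunction_Theta e hj) x, Theta_apply e hz hj hk11, Coded.theta]
    push_cast
    simp

/-- Number of pairs from the class of `z` with product a given element. -/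
noncomputable def pairCount (x : G) : ℂ := by
  classical exact ((Finset.univ.filter fun a : G => IsConj z a ∧ IsConj z (a * x)).card : ℂ)

include hz in
theorem isClassFunction_pairCount : IsClassFunction G (pairCount (z := z)) := by
  classical
  have hconj : ∀ (g a : G), IsConj z (g * a * g⁻¹) ↔ IsConj z a := fun g a =>
    ⟨fun h => h.trans (isConj_iff.2 ⟨g⁻¹, by group⟩), fun h => h.trans (isConj_iff.2 ⟨g, rfl⟩)⟩
  intro x g
  simp only [pairCount]
  congr 1
  refine (Finset.card_bij' (fun a _ => g * a * g⁻¹) (fun a _ => g⁻¹ * a * g) ?_ ?_ ?_ ?_).symm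
  · intro a ha
    simp only [Finset.mem_filter, Finset.mem_univ, true_and] at ha ⊢
    refine ⟨(hconj g a).2 ha.1, ?_⟩
    rw [show g * a * g⁻¹ * (g * x * g⁻¹) = g * (a * x) * g⁻¹ by group]
    exact (hconj g _).2 ha.2
  · intro a ha
    simp only [Finset.mem_filter, Finset.mem_univ, true_and] at ha ⊢
    refine ⟨(hconj g _).1 (by simpa [mul_assoc] using ha.1), (hconj g _).1 ?_⟩
    rw [show g * (g⁻¹ * a * g * x) * g⁻¹ = a * (g * x * g⁻¹) by group]
    exact ha.2
  · intro a _; group
  · intro a _; group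

include hz in
theorem pairCount_special (hone : ∀ a : G, a * a = 1 → a ≠ 1 → IsConj z a) {x : Ct z}
    (hx : e.cl x < 11) : pairCount (z := z) (x : G) = (invTbl.getD (e.cl x) 0 : ℂ) := by
  classical
  obtain ⟨r, hr, hrc⟩ := e.exists_rep (e.cl_lt x)
  have hcx : pairCount (z := z) (x : G) = pairCount (z := z) (r : G) := by
    obtain ⟨g, hg⟩ := isConj_iff.1 (e.isConj_of_cl hrc)
    rw [← hg, Subgroup.coe_mul, Subgroup.coe_mul, Subgroup.coe_inv, isClassFunction_pairCount hz]
  rw [hcx, pairCount]
  congr 1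
  obtain ⟨k, hk⟩ := exists_pow_eq e hz (x := r) (by rw [hrc]; exact hx)
  have hmem : ∀ a : G, IsConj z a ∧ IsConj z (a * r) → a ∈ Ct z := fun a ha =>
    CfsgLib.GL23.conj_t_eq hk hz (CfsgLib.GL23.sq_of_isConj hz ha.1).1
      (CfsgLib.GL23.sq_of_isConj hz ha.2).1
  rw [← beq_iff_eq.1 (allBelow_spec invTbl_ok _ hx), ← hr, ← e.card_filter_code]
  refine Finset.card_bij (fun a ha => ⟨a, hmem a (Finset.mem_filter.1 ha).2⟩) ?_ ?_ ?_
  · intro a ha
    obtain ⟨h1, h2⟩ := (Finset.mem_filter.1 ha).2
    obtain ⟨p1, p2⟩ := CfsgLib.GL23.sq_of_isConj hz h1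
    obtain ⟨q1, q2⟩ := CfsgLib.GL23.sq_of_isConj hz h2
    simp only [Finset.mem_filter, Finset.mem_univ, true_and, Bool.and_eq_true, beq_iff_eq, bne_iff_ne,
      ← e.mul, Ne, e.code_eq_zero]
    exact ⟨⟨⟨Subtype.ext p1, fun h => p2 (congrArg Subtype.val h)⟩, Subtype.ext q1⟩,
      fun h => q2 (congrArg Subtype.val h)⟩
  · intro a _ b _ h
    exact congrArg Subtype.val h
  · intro a ha
    simp only [Finset.mem_filter, Finset.mem_univ, true_and, Bool.and_eq_true, beq_iff_eq, bne_iff_ne,
      ← e.mul, Ne, e.code_eq_zero] at ha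
    obtain ⟨⟨⟨p1, p2⟩, q1⟩, q2⟩ := ha
    refine ⟨a, Finset.mem_filter.2 ⟨Finset.mem_univ _, ?_⟩, rfl⟩
    exact ⟨hone a (congrArg Subtype.val p1) (fun h => p2 (Subtype.ext h)),
      hone ((a : G) * r) (congrArg Subtype.val q1) (fun h => q2 (Subtype.ext h))⟩

include hz in
/-- The sum of an induced function over products of pairs from the class of `z`. -/
theorem sum_pairs [DecidableRel (IsConj : G → G → Prop)]
    (hone : ∀ a : G, a * a = 1 → a ≠ 1 → IsConj z a) {j : ℕ} (hj : j < 11) :
    (576 : ℂ) * ∑ a ∈ Finset.univ.filter (IsConj z), ∑ b ∈ Finset.univ.filter (IsConj z),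
        Theta e j (a * b) =
      (Nat.card G : ℂ) * ((csum (fun k => thF j k * (invTbl.getD k 0 : ℤ)) 11 : ℤ) : ℂ) := by
  classical
  letI : Fintype (Ct z) := Fintype.ofFinite _
  have h1 : ∑ a ∈ Finset.univ.filter (IsConj z), ∑ b ∈ Finset.univ.filter (IsConj z),
      Theta e j (a * b) = ∑ x : G, Theta e j x * pairCount (z := z) x := by
    calc ∑ a ∈ Finset.univ.filter (IsConj z), ∑ b ∈ Finset.univ.filter (IsConj z), Theta e j (a * b)
        = ∑ a ∈ Finset.univ.filter (IsConj z), ∑ x : G,
            if IsConj z (a * x) then Theta e j x else 0 := by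
          refine Finset.sum_congr rfl fun a ha => ?_
          rw [Finset.sum_filter]
          refine Fintype.sum_equiv (Equiv.mulLeft a) _ _ fun b => ?_
          rw [Equiv.coe_mulLeft, ← mul_assoc,
            (CfsgLib.GL23.sq_of_isConj hz (Finset.mem_filter.1 ha).2).1, one_mul]
      _ = ∑ x : G, Theta e j x * pairCount (z := z) x := by
          rw [Finset.sum_comm]
          refine Finset.sum_congr rfl fun x _ => ?_
          rw [← Finset.sum_filter, Finset.sum_const, Finset.filter_filter, nsmul_eq_mul, mul_comm]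
          congr 1
          simp only [pairCount]
          norm_cast
          convert rfl using 3
  have h2 := CfsgLib.Induction.sum_indFun_mul (Ct z) (e.theta j) (f := pairCount (z := z))
    (isClassFunction_pairCount hz)
  have hg : (Nat.card G : ℂ) ≠ 0 := Nat.cast_ne_zero.2 Nat.card_pos.ne'
  rw [e.card_eq] at h2
  have h3 : ∑ h : Ct z, e.theta j h * pairCount (z := z) (h : G) =
      ((csum (fun k => thF j k * (invTbl.getD k 0 : ℤ)) 11 : ℤ) : ℂ) := by
    rw [Coded.csum_eq, Int.cast_sum]
    have := e.sum_cl fun k => if k < 11 then ((thF j k : ℂ) * (invTbl.getD k 0 : ℂ)) else 0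
    rw [Finset.sum_congr rfl (g := fun h : Ct z =>
      if e.cl h < 11 then ((thF j (e.cl h) : ℂ) * (invTbl.getD (e.cl h) 0 : ℂ)) else 0) ?_, this]
    · rw [show Finset.range 20 = Finset.range 20 from rfl,
        ← Finset.sum_range_add_sum_Ico _ (show 11 ≤ 20 by norm_num),
        Finset.sum_eq_zero (s := Finset.Ico 11 20) (fun k hk => by
          rw [if_neg (by have := (Finset.mem_Ico.1 hk).1; omega), smul_zero]), add_zero]
      refine Finset.sum_congr rfl fun k hk => ?_
      rw [if_pos (Finset.mem_range.1 hk), nsmul_eq_mul]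
      push_cast
      ring
    · intro h _
      split_ifs with hh
      · rw [pairCount_special e hz hone hh]; rfl
      · rw [e.theta_eq_zero hj (Nat.le_of_not_lt hh), zero_mul]
  rw [h1, ← h3]
  simp only [Theta] at h2 ⊢
  field_simp at h2
  push_cast at h2
  linear_combination h2

end CfsgLib.GTwoTwoLocal
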