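import Cfsg.Agent.Lib.GTwoTwoLocal.CoreSize

/-!
# A maximal `3`-subgroup of the centraliser
-/

set_option autoImplicit false
set_option linter.unusedSectionVars false
set_option maxRecDepth 100000

namespace CfsgLib.GTwoTwoLocal

open CfsgLib.GL23 (Ct mem_Ct)
open Model

universe u

theorem minus_one_facts : ∀ y : Fin 24, (y : ℕ) = 0 ∨ (y : ℕ) = 12 ∨ (y : ℕ) = tab 12 12 ∨
    evalPow y 1 = 1 ∨ evalPow y 2 = 1 ∨ evalPow y 3 = 1 ∨
    evalPow (tab y 12) 1 = 1 ∨ evalPow (tab y 12) 2 = 1 ∨ evalPow (tab y 12) 3 = 1 ∨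
    evalPow (tab y (tab 12 12)) 1 = 1 ∨ evalPow (tab y (tab 12 12)) 2 = 1 ∨
    evalPow (tab y (tab 12 12)) 3 = 1 := by
  decide +kernel

namespace Half

variable {G : Type u} [Group G] [Finite G] (d : Half G)

/-- Elements of the centraliser fixing `x` modulo `⟨a⟩`. -/
def stab {x : G} (hx : x ∈ d.O) : Subgroup G where
  carrier := {g | g ∈ Ct d.a ∧ g * x * g⁻¹ * x⁻¹ ∈ Subgroup.zpowers d.a}
  one_mem' := ⟨one_mem _, by simp⟩
  mul_mem' := by
    rintro g g' ⟨hg, h⟩ ⟨hg', h'⟩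
    refine ⟨mul_mem hg hg', ?_⟩
    have hc : g * (g' * x * g'⁻¹ * x⁻¹) * g⁻¹ = g' * x * g'⁻¹ * x⁻¹ := by
      obtain ⟨k, hk⟩ := Subgroup.mem_zpowers_iff.1 h'
      rw [← hk, (show Commute g d.a from mem_Ct.1 hg).zpow_right k |>.eq, mul_inv_cancel_right]
    rw [show g * g' * x * (g * g')⁻¹ * x⁻¹ =
      (g * (g' * x * g'⁻¹ * x⁻¹) * g⁻¹) * (g * x * g⁻¹ * x⁻¹) by group, hc]
    exact mul_mem h' h
  inv_mem' := by
    rintro g ⟨hg, h⟩
    refine ⟨inv_mem hg, ?_⟩
    obtain ⟨k, hk⟩ := Subgroup.mem_zpowers_iff.1 h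
    have hc : g⁻¹ * (g * x * g⁻¹ * x⁻¹)⁻¹ * g = (g * x * g⁻¹ * x⁻¹)⁻¹ := by
      rw [← hk, ← zpow_neg, mul_assoc, ← ((show Commute g d.a from mem_Ct.1 hg).zpow_right (-k)).eq,
        inv_mul_cancel_left]
    rw [show g⁻¹ * x * g⁻¹⁻¹ * x⁻¹ = g⁻¹ * (g * x * g⁻¹ * x⁻¹)⁻¹ * g by group, hc]
    exact inv_mem h

theorem O_le_stab {x : G} (hx : x ∈ d.O) : d.O ≤ d.stab hx := fun o ho => ⟨d.O_le ho, by
  have := d.inverting.comm (inv_mem ho) (inv_mem hx)
  rwa [inv_inv, inv_inv] at this⟩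

/-- Only the fixed points are stabilised by `z`. -/
theorem z_not_stab {x : G} (hx : x ∈ d.O) (hz : d.z ∈ d.stab hx) : x ∈ Subgroup.zpowers d.a := by
  have h1 := d.inverting.mem hx
  have h2 := hz.2
  rw [d.z_inv] at h2
  have hxx : x * x ∈ Subgroup.zpowers d.a := by
    have := mul_mem (inv_mem h2) h1
    have e : (d.z * x * d.z * x⁻¹)⁻¹ * (d.z * x * d.z * x) = x * x := by group
    rwa [e] at this
  obtain ⟨m, hm⟩ := odd_orderOf d.O_odd hx
  have : x = (x * x) ^ (m + 1) := by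
    rw [← pow_two, ← pow_mul, show 2 * (m + 1) = orderOf x + 1 by omega, pow_succ, pow_orderOf_eq_one, one_mul]
  rw [this]
  exact pow_mem hxx _

theorem K_eq_z_pow {y : ℕ} (hy : y < 24) {n : ℕ} (h : evalPow y n = 1) :
    d.z = d.K (toSL y) ^ n := by
  obtain ⟨-, he⟩ := toSL_evalPow hy n
  rw [← map_pow, ← he, h, d.neg]

/-- The stabiliser in `K` of a non-trivial fixed point of `b`. -/
theorem K_stab {x : G} (hx : x ∈ d.O) (hb : d.b ∈ d.stab hx) (hxa : x ∉ Subgroup.zpowers d.a) {y : SL}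
    (hy : d.K y ∈ d.stab hx) : d.K y ∈ Subgroup.zpowers d.b := by
  obtain ⟨n, hn, rfl⟩ := exists_number y
  have h12 : tab 12 12 < 24 := tab_lt (by norm_num) (by norm_num)
  have hb2 : d.K (toSL (tab 12 12)) = d.b * d.b := by
    rw [toSL_tab (by norm_num) (by norm_num), map_mul]; rfl
  have bad : ∀ {m k : ℕ}, m < 24 → evalPow m k = 1 → d.K (toSL m) ∈ d.stab hx → False := by
    intro m k hm h hmem
    refine hxa (d.z_not_stab hx ?_)
    rw [d.K_eq_z_pow hm h]
    exact pow_mem hmem k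
  have hy1 : d.K (toSL (tab n 12)) ∈ d.stab hx := by
    rw [toSL_tab hn (by norm_num), map_mul]; exact mul_mem hy hb
  have hy2 : d.K (toSL (tab n (tab 12 12))) ∈ d.stab hx := by
    rw [toSL_tab hn h12, map_mul, hb2]; exact mul_mem hy (mul_mem hb hb)
  rcases minus_one_facts ⟨n, hn⟩ with e | e | e | e | e | e | e | e | e | e | e | e
  · rw [show n = 0 from e, toSL_zero, map_one]; exact one_mem _
  · rw [show n = 12 from e]; exact Subgroup.mem_zpowers _
  · rw [show n = tab 12 12 from e, hb2]; exact mul_mem (Subgroup.mem_zpowers _) (Subgroup.mem_zpowers _)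
  · exact (bad hn e hy).elim
  · exact (bad hn e hy).elim
  · exact (bad hn e hy).elim
  · exact (bad (tab_lt hn (by norm_num)) e hy1).elim
  · exact (bad (tab_lt hn (by norm_num)) e hy1).elim
  · exact (bad (tab_lt hn (by norm_num)) e hy1).elim
  · exact (bad (tab_lt hn h12) e hy2).elim
  · exact (bad (tab_lt hn h12) e hy2).elim
  · exact (bad (tab_lt hn h12) e hy2).elim

/-- `b` acts non-trivially modulo `⟨a⟩`. -/
theorem exists_moved (h : 3 < Nat.card d.O) : ∃ x, ∃ hx : x ∈ d.O, d.b ∉ d.stab hx := by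
  by_contra hall
  push Not at hall
  obtain ⟨k, hk⟩ : ∃ k, k = d.K (toSL 2) := ⟨_, rfl⟩
  have hkC : k ∈ Ct d.a := hk ▸ d.K_mem_Ct _
  have hconj : ∀ g : G, (∀ x (hx : x ∈ d.O), g ∈ d.stab hx) → ∀ x (hx : x ∈ d.O), k * g * k⁻¹ ∈ d.stab hx := by
    intro g hg x hx
    have hx' : k⁻¹ * x * k ∈ d.O := by simpa using d.O_normal (inv_mem hkC) hx
    obtain ⟨hgC, hgx⟩ := hg _ hx'
    refine ⟨mul_mem (mul_mem hkC hgC) (inv_mem hkC), ?_⟩
    obtain ⟨i, hi⟩ := Subgroup.mem_zpowers_iff.1 hgx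
    refine Subgroup.mem_zpowers_iff.2 ⟨i, ?_⟩
    calc d.a ^ i = k * d.a ^ i * k⁻¹ := by
          rw [((show Commute k d.a from mem_Ct.1 hkC).zpow_right i).eq, mul_inv_cancel_right]
      _ = _ := by rw [hi]; group
  have h8 : ∀ x (hx : x ∈ d.O), d.K (toSL 8) ∈ d.stab hx := by
    obtain ⟨hc1, -⟩ := (num_facts 2).2.2.2.2.2.2 12
    have h12 : tab 12 12 < 24 := tab_lt (by norm_num) (by norm_num)
    have hval : ∀ g : Fin 24, d.K (toSL (conjM 2 g)) = k * d.K (toSL g) * k⁻¹ := by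
      intro g
      obtain ⟨hlt, he⟩ : conjM 2 g < 24 ∧ tab (conjM 2 g) 2 = tab 2 g := (num_facts 2).2.2.2.2.2.2 g
      rw [hk, ← map_inv, ← map_mul, ← map_mul]
      congr 1
      rw [eq_mul_inv_iff_mul_eq, ← toSL_tab hlt (by norm_num), ← toSL_tab (by norm_num) g.2]
      exact congrArg toSL he
    intro x hx
    rcases swap_facts.2.2.2.2 with e | e
    · have := hval 12
      rw [show conjM 2 ((12 : Fin 24) : ℕ) = 8 from e] at this
      rw [this]
      exact hconj d.b hall x hx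
    · have := hval ⟨tab 12 12, h12⟩
      rw [show conjM 2 ((⟨tab 12 12, h12⟩ : Fin 24) : ℕ) = 8 from e] at this
      rw [this]
      refine hconj _ (fun y hy => ?_) x hx
      show d.K (toSL (tab 12 12)) ∈ d.stab hy
      rw [toSL_tab (by norm_num) (by norm_num), map_mul]
      exact mul_mem (hall y hy) (hall y hy)
  have hz : ∀ x (hx : x ∈ d.O), d.z ∈ d.stab hx := by
    intro x hx
    have e := (toSL_evalW (u := 12) (v := 8) (by norm_num) (by norm_num) [false, true, false, true]).2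
    rw [swap_facts.2.2.2.1] at e
    rw [← d.neg, e]
    simp only [List.foldl_cons, List.foldl_nil, Bool.false_eq_true, if_true, if_false, one_mul, map_mul]
    exact mul_mem (mul_mem (mul_mem (hall x hx) (h8 x hx)) (hall x hx)) (h8 x hx)
  have hle : d.O ≤ Subgroup.zpowers d.a := fun x hx => d.z_not_stab hx (hz x hx)
  have := Subgroup.card_le_of_le hle
  rw [Nat.card_zpowers, d.ha3] at this
  omega

theorem b_inv_eq : d.b⁻¹ = d.b ^ 2 :=
  inv_eq_of_mul_eq_one_right (by rw [← pow_succ', d.b_cube])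

/-- The product of the core with `⟨b⟩`. -/
noncomputable def S : Subgroup G where
  carrier := {g | ∃ o ∈ d.O, ∃ j : ℕ, g = o * d.b ^ j}
  one_mem' := ⟨1, one_mem _, 0, by simp⟩
  mul_mem' := by
    rintro g g' ⟨o, ho, j, rfl⟩ ⟨o', ho', j', rfl⟩
    refine ⟨o * (d.b ^ j * o' * (d.b ^ j)⁻¹), mul_mem ho (d.O_normal (pow_mem d.b_mem_Ct j) ho'), j + j', ?_⟩
    rw [pow_add]; group
  inv_mem' := by
    rintro g ⟨o, ho, j, rfl⟩
    refine ⟨(d.b ^ j)⁻¹ * o⁻¹ * d.b ^ j, ?_, 2 * j, ?_⟩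
    · simpa using d.O_normal (inv_mem (pow_mem d.b_mem_Ct j)) (inv_mem ho)
    · rw [pow_mul, ← b_inv_eq, inv_pow]; group

theorem O_le_S : d.O ≤ d.S := fun o ho => ⟨o, ho, 0, by simp⟩

theorem b_mem_S : d.b ∈ d.S := ⟨1, one_mem _, 1, by simp⟩

theorem S_le : d.S ≤ Ct d.a := by
  rintro g ⟨o, ho, j, rfl⟩
  exact mul_mem (d.O_le ho) (pow_mem d.b_mem_Ct j)

theorem b_pow_O {j : ℕ} (h : d.b ^ j ∈ d.O) : d.b ^ j = 1 := by
  rw [b, ← map_pow] at h ⊢
  rw [d.K_inter_O h, map_one]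

theorem card_S : Nat.card d.S = Nat.card d.O * 3 := by
  let f : d.O × Fin 3 → d.S := fun p => ⟨(p.1 : G) * d.b ^ p.2.val, p.1, p.1.2, p.2.val, rfl⟩
  have hord : orderOf d.b = 3 := by
    have : Fact (Nat.Prime 3) := ⟨Nat.prime_three⟩
    exact orderOf_eq_prime d.b_cube d.b_ne
  have hb : Function.Bijective f := by
    constructor
    · rintro ⟨o, i⟩ ⟨o', j⟩ he
      have he' : (o : G) * d.b ^ i.val = (o' : G) * d.b ^ j.val := congrArg Subtype.val he
      have hij : i = j := by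
        have key : ∀ (p q : Fin 3) (u v : d.O), p.val ≤ q.val → (u : G) * d.b ^ p.val = (v : G) * d.b ^ q.val → p = q := by
          intro p q u v hpq h
          rw [show d.b ^ q.val = d.b ^ (q.val - p.val) * d.b ^ p.val by rw [← pow_add]; congr 1; omega,
            ← mul_assoc, mul_left_inj] at h
          have hm : d.b ^ (q.val - p.val) ∈ d.O := by
            rw [show d.b ^ (q.val - p.val) = (v : G)⁻¹ * u by rw [h, inv_mul_cancel_left]]
            exact mul_mem (inv_mem v.2) u.2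
          have := orderOf_dvd_iff_pow_eq_one.2 (d.b_pow_O hm)
          rw [hord] at this
          have hlt : q.val - p.val < 3 := by omega
          have h0 := Nat.eq_zero_of_dvd_of_lt this hlt
          exact Fin.ext (by omega)
        rcases le_total i.val j.val with h | h
        exacts [key i j o o' h he', (key j i o' o h he'.symm).symm]
      subst hij
      exact Prod.ext (Subtype.ext (mul_right_cancel he')) rfl
    · rintro ⟨g, o, ho, j, rfl⟩
      refine ⟨(⟨o, ho⟩, ⟨j % 3, Nat.mod_lt _ (by norm_num)⟩), Subtype.ext ?_⟩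
      show o * d.b ^ (j % 3) = o * d.b ^ j
      rw [← hord, pow_mod_orderOf]
  rw [← Nat.card_eq_of_bijective f hb, Nat.card_prod, Nat.card_fin]

/-- Elements of `S` commuting with all of `S`. -/
theorem central_mem_O (h : 3 < Nat.card d.O) {s : G} (hs : s ∈ d.S) (hc : ∀ t ∈ d.O, Commute s t) :
    s ∈ d.O := by
  obtain ⟨o, ho, j, rfl⟩ := hs
  obtain ⟨x, hx, hxb⟩ := d.exists_moved h
  have hm : o * d.b ^ j ∈ d.stab hx := ⟨mul_mem (d.O_le ho) (pow_mem d.b_mem_Ct j), by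
    rw [(hc x hx).eq, mul_inv_cancel_right, mul_inv_cancel]; exact one_mem _⟩
  have hj : d.b ^ j ∈ d.stab hx := by
    have := mul_mem (inv_mem (d.O_le_stab hx ho)) hm
    rwa [inv_mul_cancel_left] at this
  have hord : orderOf d.b = 3 := by
    have : Fact (Nat.Prime 3) := ⟨Nat.prime_three⟩
    exact orderOf_eq_prime d.b_cube d.b_ne
  rw [← pow_mod_orderOf, hord] at hj ⊢
  have : j % 3 < 3 := Nat.mod_lt _ (by norm_num)
  interval_cases j % 3
  · simpa using ho
  · rw [pow_one] at hj; exact absurd hj hxb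
  · exfalso
    refine hxb ?_
    have := inv_mem hj
    rwa [← b_inv_eq, inv_inv] at this

end Half

end CfsgLib.GTwoTwoLocal
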