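import Cfsg.Agent.Lib.GTwoTwoLocal.ModelSL

/-!
Small facts on `SL(2,3)` used for the three-local analysis.
-/

set_option autoImplicit false
set_option maxRecDepth 100000

namespace CfsgLib.GTwoTwoLocal

open Model

theorem num_normal : ∀ a : Fin 24, a.1 = 0 ∨ a.1 = 1 ∨ tab a a = 1 ∨ tab (tab a a) a = 1 ∨
    (tab (tab a a) a = 0 ∧ ∃ r r' : Fin 24, tab r r' = 0 ∧
      tab (tab (tab (tab r a) r') (tab a a)) (tab (tab (tab r a) r') (tab a a)) = 1) := by
  decide +kernel

theorem num_real : ∀ a r r' : Fin 24, tab r r' = 0 → tab (tab a a) a = 0 → a.1 ≠ 0 →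
    tab (tab r a) r' ≠ tab a a := by
  decide +kernel

theorem sl_card : Nat.card SL = 24 := by
  have h := Nat.card_congr (Equiv.ofBijective (fun a : Fin 24 => toSL a)
    ⟨fun a b e => Fin.ext (toSL_injective a.2 b.2 e),
      fun g => by obtain ⟨n, hn, e⟩ := exists_number g; exact ⟨⟨n, hn⟩, e⟩⟩)
  rw [← h, Nat.card_eq_fintype_card, Fintype.card_fin]

theorem sl_neg_ne : toSL 1 ≠ 1 := fun e =>
  absurd (toSL_injective (by norm_num) (by norm_num) (e.trans toSL_zero.symm)) (by norm_num)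

theorem sl_neg_sq : toSL 1 * toSL 1 = 1 := by
  rw [← toSL_tab (by norm_num) (by norm_num), ← toSL_zero]
  exact congrArg toSL (by decide +kernel)

theorem sl_quarter : toSL 2 * toSL 2 = toSL 1 := by
  rw [← toSL_tab (by norm_num) (by norm_num)]
  exact congrArg toSL (by decide +kernel)

/-- A normal subgroup with a non-trivial element contains `-1`; with an element of order three it
contains a square root of `-1`. -/
theorem sl_normal (N : Subgroup SL) (hN : ∀ r, ∀ s ∈ N, r * s * r⁻¹ ∈ N) {s : SL} (hs : s ∈ N) (h1 : s ≠ 1) :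
    toSL 1 ∈ N ∧ (s * s * s = 1 → ∃ c ∈ N, c * c = toSL 1) := by
  obtain ⟨n, hn, rfl⟩ := exists_number s
  have e2 : toSL (tab n n) = toSL n * toSL n := toSL_tab hn hn
  have e3 : toSL (tab (tab n n) n) = toSL n * toSL n * toSL n := by rw [toSL_tab (tab_lt hn hn) hn, e2]
  rcases num_normal ⟨n, hn⟩ with h | h | h | h | ⟨h, r, r', hr, hc⟩
  · exact absurd (show toSL n = 1 by simp only at h; rw [h, toSL_zero]) h1
  · simp only at h; subst h
    refine ⟨hs, fun e => absurd ?_ sl_neg_ne⟩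
    rwa [sl_neg_sq, one_mul] at e
  · simp only at h; rw [h] at e2
    exact ⟨e2 ▸ mul_mem hs hs, fun _ => ⟨_, hs, e2.symm⟩⟩
  · simp only at h; rw [h] at e3
    exact ⟨e3 ▸ mul_mem (mul_mem hs hs) hs, fun e => absurd (e3.trans e) sl_neg_ne⟩
  · simp only at h hc; rw [h, toSL_zero] at e3
    have er : toSL r' = (toSL r)⁻¹ := by
      rw [eq_inv_iff_mul_eq_one.trans mul_eq_one_comm, ← toSL_tab r.2 r'.2, hr, toSL_zero]
    have h4 := tab_lt (tab_lt (tab_lt r.2 hn) r'.2) (tab_lt hn hn)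
    have ec := toSL_tab h4 h4
    rw [hc, toSL_tab (tab_lt (tab_lt r.2 hn) r'.2) (tab_lt hn hn), toSL_tab (tab_lt r.2 hn) r'.2,
      toSL_tab r.2 hn, e2, er] at ec
    have hmem : toSL r * toSL n * (toSL r)⁻¹ * (toSL n * toSL n) ∈ N :=
      mul_mem (hN _ _ hs) (mul_mem hs hs)
    exact ⟨ec ▸ mul_mem hmem hmem, fun _ => ⟨_, hmem, ec.symm⟩⟩

/-- An element of order three is not conjugate to its inverse. -/
theorem sl_not_real {s : SL} (h3 : s * s * s = 1) (h1 : s ≠ 1) (r : SL) : r * s * r⁻¹ ≠ s⁻¹ := by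
  obtain ⟨n, hn, rfl⟩ := exists_number s
  obtain ⟨m, hm, rfl⟩ := exists_number r
  obtain ⟨m', hm', e'⟩ := exists_number (toSL m)⁻¹
  intro e
  rw [← e', inv_eq_of_mul_eq_one_left h3] at e
  have a1 : tab m m' = 0 := toSL_injective (tab_lt hm hm') (by norm_num)
    (by rw [toSL_tab hm hm', e', mul_inv_cancel, toSL_zero])
  have a2 : tab (tab n n) n = 0 := toSL_injective (tab_lt (tab_lt hn hn) hn) (by norm_num)
    (by rw [toSL_tab (tab_lt hn hn) hn, toSL_tab hn hn, h3, toSL_zero])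
  refine num_real ⟨n, hn⟩ ⟨m, hm⟩ ⟨m', hm'⟩ a1 a2 (fun h0 => h1 (by simp only at h0; rw [h0, toSL_zero])) ?_
  exact toSL_injective (tab_lt (tab_lt hm hn) hm') (tab_lt hn hn)
    (by rw [toSL_tab (tab_lt hm hn) hm', toSL_tab hm hn, toSL_tab hn hn, e])

end CfsgLib.GTwoTwoLocal

namespace CfsgLib.GTwoTwoLocal

open Model

/-- A commutator of an element of order three with a square equal to `-1`. -/
theorem sl_comm_sq {s : SL} (h3 : s * s * s = 1) (h1 : s ≠ 1) :
    ∃ r, r * s * r⁻¹ * s⁻¹ * (r * s * r⁻¹ * s⁻¹) = toSL 1 := by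
  obtain ⟨n, hn, rfl⟩ := exists_number s
  have e2 : toSL (tab n n) = toSL n * toSL n := toSL_tab hn hn
  have e3 : toSL (tab (tab n n) n) = toSL n * toSL n * toSL n := by rw [toSL_tab (tab_lt hn hn) hn, e2]
  rcases num_normal ⟨n, hn⟩ with h | h | h | h | ⟨h, r, r', hr, hc⟩
  · simp only at h; exact absurd (by rw [h, toSL_zero]) h1
  · simp only at h; subst h
    rw [sl_neg_sq, one_mul] at h3
    exact absurd h3 h1
  · simp only at h
    rw [← e2, h] at h3
    have : toSL n = toSL 1 := mul_left_cancel (h3.trans sl_neg_sq.symm)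
    rw [this, sl_neg_sq] at e2
    exact absurd (h ▸ e2 : toSL 1 = 1) sl_neg_ne
  · simp only at h
    rw [h, h3] at e3
    exact absurd e3 sl_neg_ne
  · simp only at hc
    have er : toSL r' = (toSL r)⁻¹ := by
      rw [eq_inv_iff_mul_eq_one.trans mul_eq_one_comm, ← toSL_tab r.2 r'.2, hr, toSL_zero]
    have h4 := tab_lt (tab_lt (tab_lt r.2 hn) r'.2) (tab_lt hn hn)
    have ec := toSL_tab h4 h4
    rw [hc, toSL_tab (tab_lt (tab_lt r.2 hn) r'.2) (tab_lt hn hn), toSL_tab (tab_lt r.2 hn) r'.2,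
      toSL_tab r.2 hn, e2, er] at ec
    exact ⟨toSL r, by rw [inv_eq_of_mul_eq_one_left h3]; exact ec.symm⟩

end CfsgLib.GTwoTwoLocal
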