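import Cfsg.Agent.Lib.GTwoTwoLocal.ThreeDefs
import Cfsg.Agent.Lib.GTwoTwoLocal.ThreeSL
import Cfsg.Agent.Lib.Recognition.GTwoThreeAmalgam.Pair

/-!
The centraliser of one element of order three: projection to `SL(2,3)` and the parabolic it gives.
-/

set_option autoImplicit false
set_option linter.unusedSectionVars false

namespace CfsgLib.GTwoTwoLocal

open Subgroup
open CfsgLib.GL23 (Ct mem_Ct)
open CfsgLib.GTwoThreeAmalgam (zc dr mem_three comm_of_order_three)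
open scoped commutatorElement

variable {G : Type*} [Group G] [Finite G]

namespace Cube

variable {z a : G} {O : Subgroup G} {K : SL →* G} (C : Cube z a O K)
include C

theorem ne_one : a ≠ 1 := by
  intro e; have := C.ord; rw [e, orderOf_one] at this; omega

theorem a_pow : a ^ 3 = 1 := C.ord ▸ pow_orderOf_eq_one a

theorem card_za : Nat.card (zpowers a) = 3 := by rw [Nat.card_zpowers, C.ord]

theorem za_le : zpowers a ≤ O := zpowers_le.2 C.a_mem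

theorem mem_za {x : G} (hx : x ∈ zpowers a) : x = 1 ∨ x = a ∨ x = a⁻¹ :=
  mem_three C.card_za (mem_zpowers a) C.ne_one hx

theorem za_comm {x g : G} (hx : x ∈ zpowers a) (hg : g ∈ Ct a) : g * x = x * g := by
  obtain ⟨i, rfl⟩ := hx
  exact (Commute.zpow_right (mem_Ct.1 hg) i).eq

theorem za_fix {x g : G} (hx : x ∈ zpowers a) (hg : g ∈ Ct a) : g * x * g⁻¹ = x := by
  rw [C.za_comm hx hg, mul_inv_cancel_right]

theorem K_mem (s : SL) : K s ∈ Ct a := mem_Ct.2 (C.comm s).eq.symm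

theorem z_mem : z ∈ Ct a := mem_Ct.2 C.za.eq

theorem pow243 {u : G} (hu : u ∈ O) : u ^ 243 = 1 := by
  have h := pow_card_eq_one' (x := (⟨u, hu⟩ : O))
  rw [C.card] at h
  simpa using congrArg Subtype.val h

theorem sqrt {Y : Subgroup G} {u : G} (hu : u ∈ O) (h : u * u ∈ Y) : u ∈ Y := by
  have e : (u * u) ^ 122 = u := by rw [← sq, ← pow_mul, show 2 * 122 = 243 + 1 by rfl, pow_succ, C.pow243 hu, one_mul]
  exact e ▸ pow_mem h 122

theorem existsUnique {x : G} (hx : x ∈ Ct a) : ∃! s : SL, ∃ u ∈ O, x = u * K s := by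
  have hinj : ∀ u ∈ O, ∀ v ∈ O, ∀ s t : SL, u * K s = v * K t → s = t := by
    intro u hu v hv s t e
    have h1 : K (s * t⁻¹) = u⁻¹ * v := by
      calc K (s * t⁻¹) = u⁻¹ * (u * K s) * (K t)⁻¹ := by rw [map_mul, map_inv]; group
        _ = _ := by rw [e]; group
    exact mul_inv_eq_one.1 (C.inter _ (h1 ▸ mul_mem (inv_mem hu) hv))
  let f : O × SL → Ct a := fun p => ⟨p.1 * K p.2, mul_mem (C.le p.1.2) (C.K_mem _)⟩
  have hf : Function.Injective f := by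
    intro p q e
    have e' : (p.1 : G) * K p.2 = q.1 * K q.2 := congrArg Subtype.val e
    have h := hinj _ p.1.2 _ q.1.2 _ _ e'
    rw [h] at e'
    exact Prod.ext (Subtype.ext (mul_right_cancel e')) h
  have hb : Function.Bijective f :=
    (Nat.bijective_iff_injective_and_card f).2 ⟨hf, by rw [Nat.card_prod, C.card, sl_card, C.cardC]⟩
  obtain ⟨⟨u, s⟩, e⟩ := hb.2 ⟨x, hx⟩
  have e' : (u : G) * K s = x := congrArg Subtype.val e
  refine ⟨s, ⟨u, u.2, e'.symm⟩, ?_⟩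
  rintro t ⟨v, hv, ev⟩
  exact hinj v hv u u.2 t s (ev.symm.trans e'.symm)

open Classical in
/-- The coordinate in `SL(2,3)`; trivial outside the centraliser. -/
noncomputable def pr (_ : Cube z a O K) (x : G) : SL :=
  if h : ∃ s : SL, ∃ u ∈ O, x = u * K s then h.choose else 1

theorem pr_eq {x u : G} {s : SL} (hu : u ∈ O) (h : x = u * K s) : C.pr x = s := by
  have he : ∃ s : SL, ∃ u ∈ O, x = u * K s := ⟨s, u, hu, h⟩
  rw [pr, dif_pos he]
  have hx : x ∈ Ct a := h ▸ mul_mem (C.le hu) (C.K_mem _)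
  exact (C.existsUnique hx).unique he.choose_spec ⟨u, hu, h⟩

theorem decomp {x : G} (hx : x ∈ Ct a) : ∃ u ∈ O, x = u * K (C.pr x) := by
  obtain ⟨s, ⟨u, hu, h⟩, -⟩ := C.existsUnique hx
  exact ⟨u, hu, by rw [C.pr_eq hu h]; exact h⟩

theorem pr_K (s : SL) : C.pr (K s) = s := C.pr_eq (one_mem O) (one_mul _).symm

theorem pr_z : C.pr z = toSL 1 := C.neg ▸ C.pr_K _

theorem pr_O {u : G} (hu : u ∈ O) : C.pr u = 1 := C.pr_eq hu (by rw [map_one, mul_one])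

theorem pr_eq_one {x : G} (hx : x ∈ Ct a) : C.pr x = 1 ↔ x ∈ O := by
  refine ⟨fun h => ?_, C.pr_O⟩
  obtain ⟨u, hu, e⟩ := C.decomp hx
  rw [h, map_one, mul_one] at e
  exact e ▸ hu

theorem pr_mul {x y : G} (hx : x ∈ Ct a) (hy : y ∈ Ct a) : C.pr (x * y) = C.pr x * C.pr y := by
  obtain ⟨u, hu, ex⟩ := C.decomp hx
  obtain ⟨v, hv, ey⟩ := C.decomp hy
  refine C.pr_eq (mul_mem hu (C.norm _ (C.K_mem (C.pr x)) v hv)) ?_
  conv_lhs => rw [ex, ey]
  rw [map_mul]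
  group

/-- The projection. -/
noncomputable def prHom : Ct a →* SL :=
  MonoidHom.mk' (fun x => C.pr x) fun x y => C.pr_mul x.2 y.2

theorem pr_inv {x : G} (hx : x ∈ Ct a) : C.pr x⁻¹ = (C.pr x)⁻¹ := map_inv C.prHom ⟨x, hx⟩

theorem pr_pow {x : G} (hx : x ∈ Ct a) (n : ℕ) : C.pr (x ^ n) = C.pr x ^ n := map_pow C.prHom ⟨x, hx⟩ n

theorem pr_conj {x g : G} (hx : x ∈ Ct a) (hg : g ∈ Ct a) :
    C.pr (g * x * g⁻¹) = C.pr g * C.pr x * (C.pr g)⁻¹ := by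
  rw [C.pr_mul (mul_mem hg hx) (inv_mem hg), C.pr_mul hg hx, C.pr_inv hg]

theorem z_inv {u : G} (hu : u ∈ O) : ∃ p ∈ zpowers a, z * u * z⁻¹ = p * u⁻¹ :=
  ⟨_, C.inv u hu, by group⟩

theorem comm_O {x y : G} (hx : x ∈ O) (hy : y ∈ O) : ⁅x, y⁆ ∈ zpowers a := by
  suffices h : ∀ {x y : G}, x ∈ O → y ∈ O → y⁻¹ * x⁻¹ * y * x ∈ zpowers a by
    have := h (inv_mem hy) (inv_mem hx)
    simpa [commutatorElement_def] using this
  intro x y hx hy
  obtain ⟨p, hp, ep⟩ := C.z_inv hx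
  obtain ⟨q, hq, eq⟩ := C.z_inv hy
  obtain ⟨r, hr, er⟩ := C.z_inv (mul_mem hx hy)
  have h1 : r * (x * y)⁻¹ = p * q * (x⁻¹ * y⁻¹) := by
    rw [← er, show z * (x * y) * z⁻¹ = (z * x * z⁻¹) * (z * y * z⁻¹) by group, ep, eq,
      show p * x⁻¹ * (q * y⁻¹) = p * (x⁻¹ * q) * y⁻¹ by group, C.za_comm hq (inv_mem (C.le hx))]
    group
  have h2 : y⁻¹ * x⁻¹ * y * x = r⁻¹ * (p * q) := by
    calc y⁻¹ * x⁻¹ * y * x = r⁻¹ * (r * (x * y)⁻¹) * (y * x) := by group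
      _ = _ := by rw [h1]; group
  exact h2 ▸ mul_mem (inv_mem hr) (mul_mem hp hq)

theorem conj_mod {x y : G} (hx : x ∈ O) (hy : y ∈ O) : x * y * x⁻¹ * y⁻¹ ∈ zpowers a := by
  simpa [commutatorElement_def] using C.comm_O hx hy

theorem conj_mem_of_za_le {M : Subgroup G} (hM : zpowers a ≤ M) (hMO : M ≤ O) {x y : G} (hx : x ∈ O)
    (hy : y ∈ M) : x * y * x⁻¹ ∈ M := by
  have h := mul_mem (hM (C.conj_mod hx (hMO hy))) hy
  rwa [inv_mul_cancel_right] at h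

/-- A normal set of elements of the centraliser not in `O` reaches `-1` in the quotient. -/
theorem normal_cases {M : Subgroup G} (hn : ∀ g ∈ Ct a, ∀ x ∈ M, g * x * g⁻¹ ∈ M) {x : G}
    (hx : x ∈ M) (hxc : x ∈ Ct a) (hx1 : x ∉ O) :
    (∃ c ∈ M, c ∈ Ct a ∧ C.pr c = toSL 1) ∧
      (C.pr x * C.pr x * C.pr x = 1 → ∃ c ∈ M, c ∈ Ct a ∧ C.pr c * C.pr c = toSL 1) := by
  let N : Subgroup SL := ((M.subgroupOf (Ct a)).map C.prHom)
  have hN : ∀ r, ∀ s ∈ N, r * s * r⁻¹ ∈ N := by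
    rintro r _ ⟨y, hy, rfl⟩
    refine ⟨⟨_, C.K_mem r⟩ * y * ⟨_, C.K_mem r⟩⁻¹, hn _ (C.K_mem r) _ hy, ?_⟩
    rw [map_mul, map_mul, map_inv]
    simp [prHom, C.pr_K]
  have hs : C.pr x ∈ N := ⟨⟨x, hxc⟩, hx, rfl⟩
  obtain ⟨h1, h2⟩ := sl_normal N hN hs (fun e => hx1 ((C.pr_eq_one hxc).1 e))
  refine ⟨?_, fun h => ?_⟩
  · obtain ⟨c, hc, e⟩ := h1
    exact ⟨c, hc, c.2, e⟩
  · obtain ⟨_, ⟨c, hc, rfl⟩, e⟩ := h2 h
    exact ⟨c, hc, c.2, e⟩

theorem pr_three {x : G} (hx : x ∈ Ct a) {n : ℕ} (h : x ^ 3 ^ n = 1) : C.pr x * C.pr x * C.pr x = 1 := by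
  have h1 : orderOf (C.pr x) ∣ 3 ^ n := orderOf_dvd_of_pow_eq_one (by rw [← C.pr_pow hx, h, C.pr_O (one_mem O)])
  have h2 : orderOf (C.pr x) ∣ 24 := sl_card ▸ orderOf_dvd_natCard _
  obtain ⟨i, -, hi⟩ := (Nat.dvd_prime_pow Nat.prime_three).1 h1
  have h3 : orderOf (C.pr x) ∣ 3 := by
    rw [hi] at h2 ⊢
    match i, h2 with
    | 0, _ => norm_num
    | 1, _ => norm_num
    | i + 2, h2 =>
      have : 9 ∣ 24 := dvd_trans ⟨3 ^ i, by ring⟩ h2
      norm_num at this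
  have := orderOf_dvd_iff_pow_eq_one.1 h3
  rwa [pow_succ, pow_two] at this

theorem le_O_of_threeGroup {M : Subgroup G} (hM : M ≤ Ct a)
    (hn : ∀ g ∈ Ct a, ∀ x ∈ M, g * x * g⁻¹ ∈ M) {n : ℕ} (h3 : ∀ x ∈ M, x ^ 3 ^ n = 1) : M ≤ O := by
  intro x hx
  by_contra hx1
  obtain ⟨⟨c, hc, hcc, e⟩, -⟩ := C.normal_cases hn hx (hM hx) hx1
  have h := C.pr_three hcc (h3 c hc)
  rw [e, sl_neg_sq, one_mul] at h
  exact sl_neg_ne h

/-- Triviality of the action on an invariant section forces membership of `O`. -/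
theorem mem_O_of_act {X Y : Subgroup G} (hY : zpowers a ≤ Y) (hYX : Y ≤ X) (hX : X ≤ O)
    (hXn : ∀ g ∈ Ct a, ∀ x ∈ X, g * x * g⁻¹ ∈ X) (hYn : ∀ g ∈ Ct a, ∀ x ∈ Y, g * x * g⁻¹ ∈ Y)
    (hne : Y ≠ X) {n : G} (hn : n ∈ Ct a) (hact : ∀ x ∈ X, n * x * n⁻¹ * x⁻¹ ∈ Y) : n ∈ O := by
  obtain ⟨x0, hx0, hx0'⟩ : ∃ x ∈ X, x ∉ Y := by
    by_contra! h
    exact hne (le_antisymm hYX h)
  let M : Subgroup G :=
    { carrier := {m | m ∈ Ct a ∧ ∀ x ∈ X, m * x * m⁻¹ * x⁻¹ ∈ Y}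
      one_mem' := ⟨one_mem _, fun x _ => by simp⟩
      mul_mem' := fun {m k} hm hk => ⟨mul_mem hm.1 hk.1, fun x hx => by
        have h := mul_mem (hYn m hm.1 _ (hk.2 x hx)) (hm.2 x hx)
        convert h using 1
        group⟩
      inv_mem' := fun {m} hm => ⟨inv_mem hm.1, fun x hx => by
        have h := inv_mem (hm.2 _ (hXn m⁻¹ (inv_mem hm.1) x hx))
        convert h using 1
        group⟩ }
  by_contra hnO
  obtain ⟨⟨c, hc, hcc, e⟩, -⟩ := C.normal_cases (M := M) (fun g hg m hm => ⟨mul_mem (mul_mem hg hm.1) (inv_mem hg),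
    fun x hx => by
      have h := hYn g hg _ (hm.2 _ (hXn g⁻¹ (inv_mem hg) x hx))
      convert h using 1
      group⟩) (x := n) ⟨hn, hact⟩ hn hnO
  obtain ⟨u, hu, ec⟩ := C.decomp hcc
  rw [e, C.neg] at ec
  obtain ⟨p, hp, ep⟩ := C.z_inv (hX hx0)
  have h := hc.2 x0 hx0
  have h1 : c * x0 * c⁻¹ * x0⁻¹ = p * (u * x0⁻¹ * u⁻¹ * x0) * (x0 * x0)⁻¹ := by
    rw [ec, show u * z * x0 * (u * z)⁻¹ * x0⁻¹ = u * (z * x0 * z⁻¹) * u⁻¹ * x0⁻¹ by group, ep,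
      show u * (p * x0⁻¹) * u⁻¹ * x0⁻¹ = (u * p) * x0⁻¹ * u⁻¹ * x0⁻¹ by group, C.za_comm hp (C.le hu)]
    group
  rw [h1] at h
  have h2 : u * x0⁻¹ * u⁻¹ * x0 ∈ zpowers a := by simpa using C.conj_mod hu (inv_mem (hX hx0))
  have h3 : x0 * x0 ∈ Y := by
    have := inv_mem ((mul_mem_cancel_left (mul_mem (hY hp) (hY h2))).1 h)
    simpa using this
  exact hx0' (C.sqrt (hX hx0) h3)

theorem za_ne_O : zpowers a ≠ O := fun e => by
  have := C.card_za; rw [e, C.card] at this; omega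

theorem mem_O_of_comm {n : G} (hn : n ∈ Ct a) (h : ∀ x ∈ O, n * x = x * n) : n ∈ O :=
  C.mem_O_of_act le_rfl C.za_le le_rfl C.norm (fun g hg x hx => by rwa [C.za_fix hx hg]) C.za_ne_O hn
    fun x hx => by simp [h x hx]

/-- No invariant section has order three. -/
theorem not_three {Y M : Subgroup G} (hY : zpowers a ≤ Y) (hYM : Y ≤ M) (hM : M ≤ O)
    (hYn : ∀ g ∈ Ct a, ∀ x ∈ Y, g * x * g⁻¹ ∈ Y) (hMn : ∀ g ∈ Ct a, ∀ x ∈ M, g * x * g⁻¹ ∈ M) :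
    Nat.card M ≠ 3 * Nat.card Y := by
  intro hc
  have hnorm : (Y.subgroupOf M).Normal :=
    ⟨fun y hy x => C.conj_mem_of_za_le hY (hYM.trans hM) (hM x.2) hy⟩
  have hi : Nat.card (M ⧸ Y.subgroupOf M) = 3 := by
    have h := card_mul_index (Y.subgroupOf M)
    rw [Nat.card_congr (subgroupOfEquivOfLe hYM).toEquiv, hc, mul_comm 3] at h
    rw [← index_eq_card]
    exact Nat.eq_of_mul_eq_mul_left Nat.card_pos h
  have hcard : Nat.card (⊤ : Subgroup (M ⧸ Y.subgroupOf M)) = 3 := by rw [card_top, hi]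
  obtain ⟨x, hx, hxY⟩ : ∃ x ∈ M, x ∉ Y := by
    by_contra! h
    rw [le_antisymm hYM h] at hc
    have := Nat.card_pos (α := M)
    omega
  have hq : ∀ {y : G} (hy : y ∈ M), y ∈ Y ∨ x⁻¹ * y ∈ Y ∨ x * y ∈ Y := by
    intro y hy
    have h1 : (QuotientGroup.mk' (Y.subgroupOf M) ⟨x, hx⟩) ≠ 1 := fun e =>
      hxY (mem_subgroupOf.1 ((QuotientGroup.eq_one_iff _).1 e))
    rcases mem_three hcard (mem_top _) h1 (mem_top (QuotientGroup.mk' (Y.subgroupOf M) ⟨y, hy⟩)) with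
      e | e | e
    · exact Or.inl (mem_subgroupOf.1 ((QuotientGroup.eq_one_iff _).1 e))
    · exact Or.inr (Or.inl (mem_subgroupOf.1 (QuotientGroup.eq.1 e.symm)))
    · rw [← map_inv] at e
      exact Or.inr (Or.inr (by simpa using mem_subgroupOf.1 (QuotientGroup.eq.1 e.symm)))
  have er : K (toSL 2) * K (toSL 2) = z := by rw [← map_mul, sl_quarter, C.neg]
  have hr : K (toSL 2) ∈ Ct a := C.K_mem _
  generalize K (toSL 2) = r at er hr
  have hz : x⁻¹ * (z * x * z⁻¹) ∈ Y := by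
    have hYr := hYn r hr
    rcases hq (hMn r hr x hx) with h | h | h
    · refine absurd ?_ hxY
      have := hYn r⁻¹ (inv_mem hr) _ h
      simpa [mul_assoc] using this
    · -- the image is congruent to `x`
      have h2 := mul_mem h (hYr _ h)
      rw [← er]
      convert h2 using 1
      group
    · -- the image is congruent to `x⁻¹`
      have h2 : x⁻¹ * ((x * (r * x * r⁻¹))⁻¹) * x * (r * (x * (r * x * r⁻¹)) * r⁻¹) ∈ Y := by
        refine mul_mem ?_ (hYr _ h)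
        simpa using C.conj_mem_of_za_le hY (hYM.trans hM) (inv_mem (hM hx)) (inv_mem h)
      rw [← er]
      convert h2 using 1
      group
  obtain ⟨p, hp, ep⟩ := C.z_inv (hM hx)
  rw [ep, ← mul_assoc, C.za_comm hp (inv_mem (C.le (hM hx))), mul_assoc] at hz
  have h2 : (x⁻¹ * x⁻¹) ∈ Y := (mul_mem_cancel_left (hY hp)).1 hz
  exact hxY (inv_inv x ▸ inv_mem (C.sqrt (inv_mem (hM hx)) h2))

end Cube

end CfsgLib.GTwoTwoLocal
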