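import Cfsg.Agent.Lib.GTwoTwoLocal.ThreePair
import Cfsg.Agent.Lib.Recognition.GTwoThreeAmalgam.Chev

/-!
The two parabolics from the three-local data.
-/

set_option autoImplicit false
set_option linter.unusedSectionVars false

namespace CfsgLib.GTwoTwoLocal

open Subgroup
open CfsgLib.GL23 (Ct mem_Ct)
open CfsgLib.GTwoThreeAmalgam (zc dr Pair)

variable {G : Type*} [Group G] [Finite G]

theorem Inverter.conj {a h : G} {K : SL →* G} {s : SL} (I : Inverter a K h s) (g : G) :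
    Inverter (g * a * g⁻¹) ((MulAut.conj g).toMonoidHom.comp K) (g * h * g⁻¹) s where
  ha := by
    have e : g * h * g⁻¹ * (g * a * g⁻¹) * (g * h * g⁻¹)⁻¹ = g * (h * a * h⁻¹) * g⁻¹ := by group
    rw [e, I.ha]
    group
  hs := by
    have e : g * h * g⁻¹ * (g * K s * g⁻¹) * (g * h * g⁻¹)⁻¹ = g * (h * K s * h⁻¹) * g⁻¹ := by group
    simp only [MonoidHom.comp_apply, MulEquiv.coe_toMonoidHom, MulAut.conj_apply]
    rw [e, I.hs]
    group
  s_ne := I.s_ne
  s_cube := I.s_cube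

theorem conj_mem_Ct {a x : G} (g : G) : g * x * g⁻¹ ∈ Ct (g * a * g⁻¹) ↔ x ∈ Ct a := by
  simp only [mem_Ct, ← MulAut.conj_apply, ← map_mul, EmbeddingLike.apply_eq_iff_eq]

theorem Ct_conj (g a : G) : Ct (g * a * g⁻¹) = (Ct a).map (MulAut.conj g).toMonoidHom := by
  ext x
  constructor
  · intro hx
    refine ⟨g⁻¹ * x * g, (conj_mem_Ct g).1 ?_, by simp [mul_assoc]⟩
    simpa [mul_assoc] using hx
  · rintro ⟨y, hy, rfl⟩
    exact (conj_mem_Ct g).2 hy

theorem Cube.conj {z a : G} {O : Subgroup G} {K : SL →* G} (C : Cube z a O K) (g : G) :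
    Cube (g * z * g⁻¹) (g * a * g⁻¹) (O.map (MulAut.conj g).toMonoidHom)
      ((MulAut.conj g).toMonoidHom.comp K) where
  ord := (MulEquiv.orderOf_eq (MulAut.conj g) a).trans C.ord
  za := by
    have := C.za.map (MulAut.conj g).toMonoidHom
    exact this
  card := by rw [card_map_of_injective (MulAut.conj g).injective, C.card]
  cardC := by rw [Ct_conj, card_map_of_injective (MulAut.conj g).injective, C.cardC]
  le := Ct_conj g a ▸ map_mono C.le
  norm x hx u hu := by
    rw [Ct_conj] at hx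
    obtain ⟨y, hy, rfl⟩ := hx
    obtain ⟨v, hv, rfl⟩ := hu
    exact ⟨y * v * y⁻¹, C.norm y hy v hv, by rw [map_mul, map_mul, map_inv]⟩
  inv u hu := by
    obtain ⟨v, hv, rfl⟩ := hu
    obtain ⟨i, hi⟩ := C.inv v hv
    refine ⟨i, ?_⟩
    simp only [MulEquiv.coe_toMonoidHom, MulAut.conj_apply] at hi ⊢
    rw [conj_zpow, hi]
    group
  a_mem := ⟨a, C.a_mem, rfl⟩
  inj := (MulAut.conj g).injective.comp C.inj
  neg := congrArg (MulAut.conj g) C.neg
  comm x := (C.comm x).map (MulAut.conj g).toMonoidHom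
  inter x hx := by
    obtain ⟨v, hv, e⟩ := hx
    exact C.inter x ((MulAut.conj g).injective e ▸ hv)

theorem Cube.inverter {z a : G} {O : Subgroup G} {K : SL →* G} (C : Cube z a O K) {b h : G} {s : SL}
    (hs : K s = b) (hb : orderOf b = 3) (ha : h * a * h⁻¹ = a⁻¹) (hh : h * b * h⁻¹ = b⁻¹) :
    Inverter a K h s where
  ha := ha
  hs := by rw [hs, hh]
  s_ne e := by rw [e, map_one] at hs; rw [← hs, orderOf_one] at hb; omega
  s_cube := C.inj (by rw [map_mul, map_mul, hs, map_one, ← pow_three', ← hb, pow_orderOf_eq_one])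

namespace Three

variable (T : Three G)
include T

theorem exists_common : ∃ g : G, ∃ S : Subgroup G, Nat.card S = 729 ∧ S ≤ Ct T.a ∧ S ≤ Ct (g * T.b * g⁻¹) := by
  have mk : ∀ {z a : G} {O : Subgroup G} {K : SL →* G}, Cube z a O K → ∀ {b : G}, (∃ x, K x = b) →
      orderOf b = 3 → ∃ P : Sylow 3 G, (P : Subgroup G) ≤ Ct a := by
    intro z a O K C b hb hb3
    have : Fact (Nat.Prime 3) := ⟨Nat.prime_three⟩
    obtain ⟨x, rfl⟩ := hb
    let S : Subgroup G := ((zpowers x).comap C.prHom).map (Ct a).subtype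
    have hsur : Function.Surjective C.prHom := fun s => ⟨⟨K s, C.K_mem s⟩, C.pr_K s⟩
    have hx : Nat.card (zpowers x) = 3 := by
      rw [Nat.card_zpowers, ← orderOf_injective K C.inj x]
      exact hb3
    have hcard : Nat.card S = 729 := by
      rw [card_map_of_injective (Ct a).subtype_injective]
      have h1 := card_mul_index ((zpowers x).comap C.prHom)
      rw [index_comap_of_surjective _ hsur, C.cardC] at h1
      have h2 := card_mul_index (zpowers x)
      rw [hx, sl_card] at h2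
      nlinarith
    have hfac : (Nat.card G).factorization 3 = 6 := by
      rw [T.card, show 4245696 = 3 ^ 6 * 5824 by norm_num, Nat.factorization_mul (by norm_num) (by norm_num),
        Finsupp.add_apply, Nat.Prime.factorization_pow Nat.prime_three, Finsupp.single_eq_same,
        Nat.factorization_eq_zero_of_not_dvd (by norm_num : ¬ 3 ∣ 5824)]
    exact ⟨Sylow.ofCard S (by rw [hfac, hcard]; norm_num), map_subtype_le _⟩
  obtain ⟨P, hP⟩ := mk T.cube₁ T.b_mem T.cube₂.ord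
  obtain ⟨Q, hQ⟩ := mk T.cube₂ T.a_mem T.cube₁.ord
  have : Fact (Nat.Prime 3) := ⟨Nat.prime_three⟩
  obtain ⟨g, rfl⟩ := MulAction.exists_smul_eq G Q P
  have hcard : Nat.card ((g • Q : Sylow 3 G) : Subgroup G) = 729 := by
    rw [Sylow.card_eq_multiplicity, T.card, show 4245696 = 3 ^ 6 * 5824 by norm_num,
      Nat.factorization_mul (by norm_num) (by norm_num), Finsupp.add_apply,
      Nat.Prime.factorization_pow Nat.prime_three, Finsupp.single_eq_same,
      Nat.factorization_eq_zero_of_not_dvd (by norm_num : ¬ 3 ∣ 5824)]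
    norm_num
  refine ⟨g, _, hcard, hP, ?_⟩
  rw [Ct_conj]
  exact map_mono hQ

theorem card_ct_all {t : G} (h : t * t = 1) (h1 : t ≠ 1) : Nat.card (Ct t) = 576 := by
  have ho : orderOf t = 2 := orderOf_eq_prime (by rw [pow_two, h]) h1
  obtain ⟨c, hc⟩ := isConj_iff.1 (T.one_class t ho)
  rw [← T.card_ct, ← hc, Ct_conj, card_map_of_injective (MulAut.conj c).injective]

/-- The hypotheses of the amalgam recognition. -/
theorem exists_pair : ∃ A₁ A₂ Q₁ Q₂ : Subgroup G, Pair A₁ A₂ Q₁ Q₂ := by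
  obtain ⟨g, S, hS, hSa, hSb⟩ := T.exists_common
  obtain ⟨x, hx⟩ := T.b_mem
  obtain ⟨y, hy⟩ := T.a_mem
  have hab : IsConj T.b (g * T.b * g⁻¹) := isConj_iff.2 ⟨g, rfl⟩
  have D : Duo T.z T.a T.O T.K T.h x (g * T.z * g⁻¹) (g * T.b * g⁻¹) (T.P.map (MulAut.conj g).toMonoidHom)
      ((MulAut.conj g).toMonoidHom.comp T.L) (g * T.h * g⁻¹) y S :=
    ⟨T.cube₁, T.cube₁.inverter hx T.cube₂.ord T.ha T.hb, T.cube₂.conj g,
      (T.cube₂.inverter hy T.cube₁.ord T.hb T.ha).conj g, hS, hSa, hSb,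
      fun e => T.not_conj.1 (e.trans hab.symm),
      fun e => T.not_conj.2 (e.trans (isConj_iff.2 ⟨g⁻¹, by group⟩)), fun t => T.card_ct_all⟩
  generalize g * T.z * g⁻¹ = z₂, g * T.b * g⁻¹ = a₂, T.P.map (MulAut.conj g).toMonoidHom = O₂,
    (MulAut.conj g).toMonoidHom.comp T.L = K₂, g * T.h * g⁻¹ = h₂ at D
  have hs₁ := D.c₁.side D.i₁ D.nonabelian D.a₂_zc
  have hs₂ := D.c₂.side D.i₂ D.symm.nonabelian D.symm.a₂_zc
  have hle : S ≤ normalizer (zpowers T.a : Set G) ⊓ normalizer (zpowers a₂ : Set G) :=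
    le_inf (D.le₁.trans D.c₁.ct_le_normalizer) (D.le₂.trans D.c₂.ct_le_normalizer)
  have hsyl : ∀ {M A : Subgroup G}, S ≤ M → M ≤ A → Nat.card A = 243 * 48 → ¬ 3 ∣ (M.subgroupOf A).index := by
    intro M A hSM hMA hA h3
    have h := card_mul_index (M.subgroupOf A)
    rw [Nat.card_congr (subgroupOfEquivOfLe hMA).toEquiv, hA] at h
    have hd : 729 ∣ Nat.card M := D.card ▸ card_dvd_of_le hSM
    have := Nat.mul_dvd_mul hd h3
    rw [h] at this
    norm_num at this
  refine ⟨_, _, _, _, hs₁, hs₂, ?_, hsyl hle inf_le_left hs₁.cardA, hsyl hle inf_le_right hs₂.cardA,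
    fun N hN h₁ h₂' => D.core_eq_bot hN (fun k hk u hu => (mem_normalizer_iff.1 (h₁ hk) u).1 hu)
      (fun k hk u hu => (mem_normalizer_iff.1 (h₂' hk) u).1 hu)⟩
  intro k hk
  have hO : T.O.map (MulAut.conj k).toMonoidHom = O₂ := by
    refine eq_of_le_of_card_ge (D.c₂.le_O_of_normal ?_ ?_ ?_)
      (by rw [card_map_of_injective (MulAut.conj k).injective, D.c₁.card, D.c₂.card])
    · rw [← hk]
      exact map_mono (D.c₁.le.trans D.c₁.ct_le_normalizer)
    · intro c hc _ hu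
      obtain ⟨u, hu, rfl⟩ := hu
      have hc' := hk.symm ▸ D.c₂.ct_le_normalizer hc
      obtain ⟨d, hd, rfl⟩ := hc'
      exact ⟨d * u * d⁻¹, D.c₁.conj_O hd hu, by rw [map_mul, map_mul, map_inv]⟩
    · intro _ hu
      obtain ⟨u, hu, rfl⟩ := hu
      rw [← map_pow, D.c₁.pow243 hu, map_one]
  have hd := D.c₂.dr_eq D.symm.nonabelian
  have hd₁ : (⁅T.O, T.O⁆ : Subgroup G) = zpowers T.a := D.c₁.dr_eq D.nonabelian
  rw [← hO, dr, ← map_commutator, hd₁, MonoidHom.map_zpowers] at hd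
  have h1 : (MulAut.conj k) T.a ∈ zpowers a₂ := hd ▸ mem_zpowers _
  refine D.symm.no_conj (g := k⁻¹) h1 ?_
  simp [mul_assoc]

/-- The recognition from the three-local data. -/
theorem exists_chev : ∃ (F : Type) (_ : Field F) (_ : Fintype F), Fintype.card F = 3 ∧
    Nonempty (G ≃* ↥(Cfsg.Lie.chevG2.group F)) := by
  obtain ⟨A₁, A₂, Q₁, Q₂, P⟩ := T.exists_pair
  exact P.exists_chev

end Three

end CfsgLib.GTwoTwoLocal
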