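import Cfsg.Agent.Lib.GTwoTwoLocal.ThreeSide
import Mathlib.GroupTheory.NoncommCoprod

/-!
Two centralisers of elements of order three with a common Sylow subgroup give a pair of parabolics.
-/

set_option autoImplicit false
set_option linter.unusedSectionVars false

namespace CfsgLib.GTwoTwoLocal

open Subgroup
open CfsgLib.GL23 (Ct mem_Ct)
open CfsgLib.GTwoThreeAmalgam (zc dr Pair)
open scoped commutatorElement

variable {G : Type*} [Group G] [Finite G]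

namespace Cube

variable {z a : G} {O : Subgroup G} {K : SL →* G} (C : Cube z a O K) {S : Subgroup G}
  (hS : Nat.card S = 729) (hSa : S ≤ Ct a)
include C hS hSa

theorem O_le_S : O ≤ S := by
  let f : S →* SL := C.prHom.comp (Subgroup.inclusion hSa)
  have hm : f.ker.map S.subtype ≤ O := by
    rintro _ ⟨x, hx, rfl⟩
    exact (C.pr_eq_one (hSa x.2)).1 hx
  have h1 : Nat.card f.range ∣ 729 := hS ▸ card_range_dvd f
  have h2 : Nat.card f.range ∣ 24 := sl_card ▸ card_subgroup_dvd_card _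
  have h3 : Nat.card f.range ∣ 3 := Nat.dvd_gcd h1 h2
  have h4 := card_mul_index f.ker
  rw [index_ker, hS] at h4
  have h5 : Nat.card (f.ker.map S.subtype) = Nat.card f.ker := card_map_of_injective S.subtype_injective
  have h6 : Nat.card f.range ≤ 3 := Nat.le_of_dvd (by norm_num) h3
  have h7 : 243 ≤ Nat.card f.ker := by nlinarith
  rw [← eq_of_le_of_card_ge hm (by rw [h5, C.card]; exact h7)]
  exact map_subtype_le _

theorem relIndex_S : O.relIndex S = 3 := by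
  have h := card_mul_index (O.subgroupOf S)
  rw [Nat.card_congr (subgroupOfEquivOfLe (C.O_le_S hS hSa)).toEquiv, C.card, hS] at h
  rw [relIndex]
  omega

theorem not_mem_cube {y : G} (hy : y ∈ S) : C.pr y * C.pr y * C.pr y = 1 := by
  refine C.pr_three (hSa hy) (n := 6) ?_
  have h := pow_card_eq_one' (x := (⟨y, hy⟩ : S))
  rw [hS] at h
  simpa using congrArg Subtype.val h

omit hS hSa in
theorem eq_za_of_fix {x : G} (hx : x ∈ O) (h : z * x * z⁻¹ = x) : x ∈ zpowers a := by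
  obtain ⟨p, hp, e⟩ := C.z_inv hx
  refine C.sqrt hx ?_
  have : x * x = p := by
    calc x * x = (z * x * z⁻¹) * x := by rw [h]
      _ = p := by rw [e]; group
  exact this ▸ hp

/-- In an abelian `O` no element outside centralises a subgroup of order at least `81`. -/
theorem no_large_fix (hab : ∀ x ∈ O, ∀ y ∈ O, x * y = y * x) {D : Subgroup G} (hDO : D ≤ O)
    (hD : 81 ≤ Nat.card D) {y : G} (hy : y ∈ S) (hy1 : y ∉ O) (hc : ∀ d ∈ D, y * d = d * y) : False := by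
  obtain ⟨r, hr⟩ := sl_comm_sq (C.not_mem_cube hS hSa hy) (fun e => hy1 ((C.pr_eq_one (hSa hy)).1 e))
  have hKr := C.K_mem r
  let D₂ : Subgroup G := D.comap (MulAut.conj (K r)⁻¹).toMonoidHom
  have hD₂ : ∀ {x}, x ∈ D₂ ↔ (K r)⁻¹ * x * K r ∈ D := by intro x; simp [D₂, mul_assoc]
  have hD₂O : D₂ ≤ O := fun x hx => by
    have h := C.norm _ hKr _ (hDO (hD₂.1 hx))
    convert h using 1
    group
  have hcard : Nat.card D₂ = Nat.card D := by
    refine Nat.card_congr ⟨fun x => ⟨_, hD₂.1 x.2⟩, fun d => ⟨K r * d * (K r)⁻¹, hD₂.2 (by simp [mul_assoc])⟩,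
      fun x => Subtype.ext (by simp [mul_assoc]), fun d => Subtype.ext (by simp [mul_assoc])⟩
  have hi : ∀ {H : Subgroup G}, H ≤ O → 81 ≤ Nat.card H → H.relIndex O ≤ 3 := by
    intro H hH h81
    have h := card_mul_index (H.subgroupOf O)
    rw [Nat.card_congr (subgroupOfEquivOfLe hH).toEquiv, C.card] at h
    rw [relIndex]
    nlinarith
  have hI : (D ⊓ D₂).relIndex O ≤ 9 :=
    (relIndex_inf_le).trans (Nat.mul_le_mul (hi hDO hD) (hi hD₂O (hcard ▸ hD)))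
  have hle : D ⊓ D₂ ≤ zpowers a := by
    rintro x ⟨hx, hx₂⟩
    have hxO := hDO hx
    refine C.eq_za_of_fix hxO ?_
    have k1 : K r * y * (K r)⁻¹ * x = x * (K r * y * (K r)⁻¹) := by
      have h := hc _ (hD₂.1 hx₂)
      calc K r * y * (K r)⁻¹ * x = K r * (y * ((K r)⁻¹ * x * K r)) * (K r)⁻¹ := by group
        _ = K r * (((K r)⁻¹ * x * K r) * y) * (K r)⁻¹ := by rw [h]
        _ = _ := by group
    have k2 : Commute (K r * y * (K r)⁻¹ * y⁻¹) x := Commute.mul_left k1 (Commute.inv_left (hc x hx))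
    have k3 := Commute.mul_left k2 k2
    have hm : K r * y * (K r)⁻¹ * y⁻¹ ∈ Ct a :=
      mul_mem (mul_mem (mul_mem hKr (hSa hy)) (inv_mem hKr)) (inv_mem (hSa hy))
    obtain ⟨u, hu, e⟩ := C.decomp (mul_mem hm hm)
    rw [C.pr_mul hm hm, C.pr_mul (mul_mem (mul_mem hKr (hSa hy)) (inv_mem hKr)) (inv_mem (hSa hy)),
      C.pr_conj (hSa hy) hKr, C.pr_inv (hSa hy), C.pr_K, hr, C.neg] at e
    rw [e] at k3
    have k4 : Commute z x := by
      have := Commute.mul_left (Commute.inv_left (hab u hu x hxO : Commute u x)) k3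
      rwa [inv_mul_cancel_left] at this
    rw [k4.eq, mul_inv_cancel_right]
  have h1 : Nat.card (D ⊓ D₂ : Subgroup G) ≤ 3 := C.card_za ▸ card_le_of_le hle
  have h2 := card_mul_index ((D ⊓ D₂).subgroupOf O)
  rw [Nat.card_congr (subgroupOfEquivOfLe (inf_le_left.trans hDO)).toEquiv, C.card] at h2
  rw [relIndex] at hI
  nlinarith [Nat.mul_le_mul h1 hI]

omit hS in
/-- An element of `S` outside `O` does not centralise the centre of `O`. -/
theorem no_fix_centre (hw : ∃ w ∈ zc O, w ∉ zpowers a) {y : G} (hy : y ∈ S) (hy1 : y ∉ O)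
    (hc : ∀ x ∈ zc O, y * x = x * y) : False := by
  obtain ⟨hz, hzn⟩ := C.zc_facts
  obtain ⟨w, hw, hw1⟩ := hw
  refine hy1 (C.mem_O_of_act le_rfl hz inf_le_left (fun g hg => hzn g (C.ct_le_normalizer hg))
    (fun g hg x hx => by rwa [C.za_fix hx hg]) (fun e => hw1 (e ▸ hw)) (hSa hy) fun x hx => ?_)
  simp [hc x hx]

end Cube

/-- The data of two centralisers with a common Sylow subgroup. -/
structure Duo (z₁ a₁ : G) (O₁ : Subgroup G) (K₁ : SL →* G) (h₁ : G) (s₁ : SL) (z₂ a₂ : G) (O₂ : Subgroup G)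
    (K₂ : SL →* G) (h₂ : G) (s₂ : SL) (S : Subgroup G) : Prop where
  c₁ : Cube z₁ a₁ O₁ K₁
  i₁ : Inverter a₁ K₁ h₁ s₁
  c₂ : Cube z₂ a₂ O₂ K₂
  i₂ : Inverter a₂ K₂ h₂ s₂
  card : Nat.card S = 729
  le₁ : S ≤ Ct a₁
  le₂ : S ≤ Ct a₂
  ne : ¬ IsConj a₁ a₂
  ne' : ¬ IsConj a₁ a₂⁻¹
  ct : ∀ t : G, t * t = 1 → t ≠ 1 → Nat.card (Ct t) = 576

namespace Duo

variable {z₁ a₁ : G} {O₁ : Subgroup G} {K₁ : SL →* G} {h₁ : G} {s₁ : SL} {z₂ a₂ : G} {O₂ : Subgroup G}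
  {K₂ : SL →* G} {h₂ : G} {s₂ : SL} {S : Subgroup G}
  (D : Duo z₁ a₁ O₁ K₁ h₁ s₁ z₂ a₂ O₂ K₂ h₂ s₂ S)
include D

theorem symm : Duo z₂ a₂ O₂ K₂ h₂ s₂ z₁ a₁ O₁ K₁ h₁ s₁ S where
  c₁ := D.c₂
  i₁ := D.i₂
  c₂ := D.c₁
  i₂ := D.i₁
  card := D.card
  le₁ := D.le₂
  le₂ := D.le₁
  ne h := D.ne h.symm
  ne' h := by
    obtain ⟨c, hc⟩ := isConj_iff.1 h
    refine D.ne' (isConj_iff.2 ⟨c⁻¹, ?_⟩)
    rw [show a₁ = (c * a₂ * c⁻¹)⁻¹ by rw [hc, inv_inv]]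
    group
  ct := D.ct

theorem O₁_le : O₁ ≤ S := D.c₁.O_le_S D.card D.le₁

theorem a₂_mem : a₂ ∈ O₁ := by
  have h : a₂ ∈ Ct a₁ := mem_Ct.2 (mem_Ct.1 (D.le₂ (D.O₁_le D.c₁.a_mem))).symm
  exact D.c₁.mem_O_of_comm h fun x hx => (mem_Ct.1 (D.le₂ (D.O₁_le hx))).symm

theorem no_conj {g : G} {x : G} (hx : x ∈ zpowers a₁) : g * x * g⁻¹ ≠ a₂ := by
  intro e
  rcases D.c₁.mem_za hx with rfl | rfl | rfl
  · exact D.c₂.ne_one (by rw [← e]; group)
  · exact D.ne (isConj_iff.2 ⟨g, e⟩)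
  · exact D.ne' (isConj_iff.2 ⟨g, by rw [← e]; group⟩)

theorem a₂_not_mem : a₂ ∉ zpowers a₁ := fun h => D.no_conj (g := 1) h (by group)

theorem a₂_zc : ∃ w ∈ zc O₁, w ∉ zpowers a₁ :=
  ⟨a₂, ⟨D.a₂_mem, mem_centralizer_iff.2 fun x hx => mem_Ct.1 (D.le₂ (D.O₁_le hx))⟩, D.a₂_not_mem⟩

theorem nonabelian : ∃ x ∈ O₁, ∃ y ∈ O₁, x * y ≠ y * x := by
  by_contra! hab
  by_cases heq : O₁ = O₂
  · -- the two inverting involutions
    have ha : a₁ ∈ O₁ := D.c₁.a_mem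
    let f : zpowers a₁ × zpowers a₂ →* G := MonoidHom.noncommCoprod (zpowers a₁).subtype (zpowers a₂).subtype
      fun m n => hab _ (D.c₁.za_le m.2) _ (heq.symm ▸ D.c₂.za_le n.2)
    let Y : Subgroup G := f.range
    have hY₁ : zpowers a₁ ≤ Y := fun x hx => ⟨(⟨x, hx⟩, 1), mul_one x⟩
    have hY₂ : zpowers a₂ ≤ Y := fun x hx => ⟨(1, ⟨x, hx⟩), one_mul x⟩
    have hYO : Y ≤ O₁ := by
      rintro _ ⟨p, rfl⟩
      exact mul_mem (D.c₁.za_le p.1.2) (heq.symm ▸ D.c₂.za_le p.2.2)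
    have hYcard : Nat.card Y ≤ 9 := by
      have h := Nat.card_le_card_of_surjective f.rangeRestrict f.rangeRestrict_surjective
      rwa [Nat.card_prod, D.c₁.card_za, D.c₂.card_za] at h
    have sq : ∀ {z a : G} {K : SL →* G} {O : Subgroup G}, Cube z a O K → z * z = 1 := fun C => by
      rw [← C.neg, ← map_mul, sl_neg_sq, map_one]
    have zi : ∀ {z a : G} {K : SL →* G}, Cube z a O₁ K → zpowers a ≤ Y → ∀ u ∈ O₁,
        ∃ p ∈ Y, z * u * z⁻¹ = p * u⁻¹ :=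
      fun C hY u hu => by obtain ⟨p, hp, e⟩ := C.z_inv hu; exact ⟨p, hY hp, e⟩
    have c₂ : Cube z₂ a₂ O₁ K₂ := heq ▸ D.c₂
    have zY : ∀ {z a : G} {K : SL →* G}, Cube z a O₁ K → zpowers a ≤ Y → ∀ u ∈ Y, z * u * z⁻¹ ∈ Y :=
      fun C hY u hu => by
        obtain ⟨p, hp, e⟩ := zi C hY u (hYO hu)
        exact e ▸ mul_mem hp (inv_mem hu)
    have hd : ∀ n : ℕ, (∀ u ∈ O₁, (z₁ * z₂) ^ n * u * ((z₁ * z₂) ^ n)⁻¹ * u⁻¹ ∈ Y) ∧
        (∀ u ∈ O₁, (z₁ * z₂) ^ n * u * ((z₁ * z₂) ^ n)⁻¹ ∈ O₁) := by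
      have hO : ∀ u ∈ O₁, z₁ * z₂ * u * (z₁ * z₂)⁻¹ ∈ O₁ := fun u hu => by
        have h := D.c₁.norm _ D.c₁.z_mem _ (c₂.norm _ c₂.z_mem u hu)
        convert h using 1
        group
      have h1 : ∀ u ∈ O₁, z₁ * z₂ * u * (z₁ * z₂)⁻¹ * u⁻¹ ∈ Y := fun u hu => by
        obtain ⟨q, hq, eq⟩ := zi c₂ hY₂ u hu
        obtain ⟨p, hp, ep⟩ := zi D.c₁ hY₁ u⁻¹ (inv_mem hu)
        have h := mul_mem (zY D.c₁ hY₁ q hq) hp
        convert h using 1
        rw [show z₁ * z₂ * u * (z₁ * z₂)⁻¹ * u⁻¹ = z₁ * (z₂ * u * z₂⁻¹) * z₁⁻¹ * u⁻¹ by group, eq,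
          show z₁ * (q * u⁻¹) * z₁⁻¹ * u⁻¹ = z₁ * q * z₁⁻¹ * (z₁ * u⁻¹ * z₁⁻¹) * u⁻¹ by group, ep]
        group
      intro n
      induction n with
      | zero => exact ⟨fun u _ => by simp, fun u hu => by simpa using hu⟩
      | succ n ih =>
        refine ⟨fun u hu => ?_, fun u hu => ?_⟩
        · have h := mul_mem (h1 _ (ih.2 u hu)) (ih.1 u hu)
          convert h using 1
          rw [pow_succ']
          generalize (z₁ * z₂) ^ n = g
          group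
        · have h := hO _ (ih.2 u hu)
          convert h using 1
          rw [pow_succ']
          generalize (z₁ * z₂) ^ n = g
          group
    have hz₁ := sq D.c₁
    have hz₂ := sq c₂
    have rev : ∀ n : ℕ, z₁ * (z₁ * z₂) ^ n * z₁⁻¹ = ((z₁ * z₂) ^ n)⁻¹ := fun n => by
      rw [← inv_pow]
      refine (map_pow (MulAut.conj z₁) (z₁ * z₂) n).trans (congrArg (· ^ n) ?_)
      rw [MulAut.conj_apply, mul_inv_rev, inv_eq_of_mul_eq_one_right hz₁, inv_eq_of_mul_eq_one_right hz₂,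
        ← mul_assoc, hz₁, one_mul]
    rcases Nat.even_or_odd (orderOf (z₁ * z₂)) with ⟨k, hk⟩ | ⟨k, hk⟩
    · set t := (z₁ * z₂) ^ k with ht
      have hk0 : 0 < k := by have := orderOf_pos (z₁ * z₂); omega
      have htt : t * t = 1 := by rw [ht, ← pow_add, ← hk, pow_orderOf_eq_one]
      have ht1 : t ≠ 1 := fun e => by
        have := Nat.le_of_dvd hk0 (orderOf_dvd_of_pow_eq_one e)
        omega
      let F : Subgroup G := O₁ ⊓ Ct t
      have hF1 : Nat.card F ∣ 243 := D.c₁.card ▸ card_dvd_of_le inf_le_left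
      have hF2 : Nat.card F ∣ 576 := D.ct t htt ht1 ▸ card_dvd_of_le inf_le_right
      have hF : Nat.card F ≤ 9 := Nat.le_of_dvd (by norm_num) (Nat.dvd_gcd hF1 hF2)
      have hsur : Function.Surjective (fun p : Y × F => (⟨(p.1 : G) * p.2, mul_mem (hYO p.1.2) p.2.2.1⟩ : O₁)) := by
        rintro ⟨u, hu⟩
        have htu := (hd k).2 u hu
        have hy := (hd k).1 u hu
        have hv : t * u * t⁻¹ * u ∈ F := by
          refine ⟨mul_mem htu hu, mem_Ct.2 (mul_inv_eq_iff_eq_mul.1 ?_).symm⟩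
          calc t * (t * u * t⁻¹ * u) * t⁻¹ = (t * t) * u * (t * t)⁻¹ * (t * u * t⁻¹) := by group
            _ = _ := by rw [htt, inv_one, mul_one, one_mul, hab _ hu _ htu]
        have e : ((t * u * t⁻¹ * u⁻¹)⁻¹ * (t * u * t⁻¹ * u)) ^ 122 = u := by
          rw [show (t * u * t⁻¹ * u⁻¹)⁻¹ * (t * u * t⁻¹ * u) = u * u by group, ← pow_two, ← pow_mul,
            show 2 * 122 = 243 + 1 by rfl, pow_succ, D.c₁.pow243 hu, one_mul]
        have hcm : Commute (t * u * t⁻¹ * u⁻¹)⁻¹ (t * u * t⁻¹ * u) := hab _ (inv_mem (hYO hy)) _ hv.1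
        rw [hcm.mul_pow] at e
        exact ⟨(⟨_, pow_mem (inv_mem hy) 122⟩, ⟨_, pow_mem hv 122⟩), Subtype.ext e⟩
      have h := Nat.card_le_card_of_surjective _ hsur
      rw [Nat.card_prod, D.c₁.card] at h
      nlinarith [Nat.mul_le_mul hYcard hF]
    · set g := (z₁ * z₂) ^ k with hg
      have hgz : g * z₁ * g⁻¹ = z₂ := by
        have h := rev k
        rw [← hg] at h
        calc g * z₁ * g⁻¹ = g * (z₁ * g⁻¹ * z₁⁻¹) * z₁ := by group
          _ = g * g * z₁ := by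
            rw [show z₁ * g⁻¹ * z₁⁻¹ = (z₁ * g * z₁⁻¹)⁻¹ by group, h, inv_inv]
          _ = (g * g * (z₁ * z₂)) * z₂⁻¹ * z₁⁻¹ * z₁ := by group
          _ = _ := by
            rw [hg, ← pow_add, ← pow_succ, show k + k + 1 = orderOf (z₁ * z₂) by omega, pow_orderOf_eq_one,
              inv_eq_of_mul_eq_one_right hz₂]
            group
      have hx : g⁻¹ * a₂ * g ∈ O₁ := by
        have h := (hd ((orderOf (z₁ * z₂)) * k - k)).2 a₂ D.a₂_mem
        have e : (z₁ * z₂) ^ (orderOf (z₁ * z₂) * k - k) = g⁻¹ := by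
          rw [eq_inv_iff_mul_eq_one, hg, ← pow_add, Nat.sub_add_cancel (Nat.le_mul_of_pos_left k (orderOf_pos _)),
            pow_mul, pow_orderOf_eq_one, one_pow]
        rw [e, inv_inv] at h
        exact h
      refine D.no_conj (g := g) (D.c₁.eq_za_of_fix hx ?_) (by group)
      calc z₁ * (g⁻¹ * a₂ * g) * z₁⁻¹ = g⁻¹ * ((g * z₁ * g⁻¹) * a₂ * (g * z₁ * g⁻¹)⁻¹) * g := by group
        _ = _ := by rw [hgz, c₂.za.eq, mul_inv_cancel_right]
  · obtain ⟨y, hy, hy1⟩ : ∃ y ∈ O₂, y ∉ O₁ := by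
      by_contra! h
      exact heq (eq_of_le_of_card_ge h (by rw [D.c₁.card, D.c₂.card])).symm
    have hI : (O₁ ⊓ O₂).relIndex S ≤ 9 := (relIndex_inf_le).trans
      (by rw [D.c₁.relIndex_S D.card D.le₁, D.c₂.relIndex_S D.card D.le₂])
    have hc := card_mul_index ((O₁ ⊓ O₂).subgroupOf S)
    rw [Nat.card_congr (subgroupOfEquivOfLe (inf_le_left.trans D.O₁_le)).toEquiv, D.card] at hc
    rw [relIndex] at hI
    have h81 : 81 ≤ Nat.card (O₁ ⊓ O₂ : Subgroup G) := by nlinarith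
    by_cases hz : zc O₂ ≤ O₁
    · obtain ⟨x, hx, hx2⟩ : ∃ x ∈ O₁, x ∉ O₂ := by
        by_contra! h
        exact heq (eq_of_le_of_card_ge h (by rw [D.c₁.card, D.c₂.card]))
      exact D.c₂.no_fix_centre D.le₂ D.symm.a₂_zc (D.O₁_le hx) hx2 fun w hw => hab x hx w (hz hw)
    · obtain ⟨w, hw, hw1⟩ := SetLike.not_le_iff_exists.1 hz
      exact D.c₁.no_large_fix D.card D.le₁ hab inf_le_left h81 (D.symm.O₁_le hw.1) hw1
        fun d hd => (mem_centralizer_iff.1 hw.2 d hd.2).symm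

theorem O_ne : O₁ ≠ O₂ := by
  intro e
  have h := D.c₁.dr_eq D.nonabelian
  rw [e, D.c₂.dr_eq D.symm.nonabelian] at h
  exact D.a₂_not_mem (h ▸ mem_zpowers a₂)

theorem N_ne : (normalizer (zpowers a₁ : Set G) : Subgroup G) ≠ normalizer (zpowers a₂ : Set G) := by
  intro e
  refine D.O_ne (eq_of_le_of_card_ge (D.c₂.le_O_of_normal ?_ ?_ fun x hx => D.c₁.pow243 hx)
    (by rw [D.c₁.card, D.c₂.card]))
  · rw [← e]; exact D.c₁.le.trans D.c₁.ct_le_normalizer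
  · exact fun g hg x hx => D.c₁.conj_O (e ▸ D.c₂.ct_le_normalizer hg) hx

/-- A subgroup normalised by both parabolics meets the first centraliser inside `O₁`. -/
theorem core_le {N : Subgroup G} (hN : N ≤ normalizer (zpowers a₁ : Set G) ⊓ normalizer (zpowers a₂ : Set G))
    (hn₁ : ∀ g ∈ normalizer (zpowers a₁ : Set G), ∀ x ∈ N, g * x * g⁻¹ ∈ N)
    (hn₂ : ∀ g ∈ normalizer (zpowers a₂ : Set G), ∀ x ∈ N, g * x * g⁻¹ ∈ N) {m : G} (hm : m ∈ N)
    (hmc : m ∈ Ct a₁) : m ∈ O₁ := by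
  by_contra hm1
  obtain ⟨⟨c, hc, hcc, ec⟩, -⟩ := D.c₁.normal_cases (M := N)
    (fun g hg => hn₁ g (D.c₁.ct_le_normalizer hg)) hm hmc hm1
  obtain ⟨u, hu, e⟩ := D.c₁.decomp hcc
  rw [ec, D.c₁.neg] at e
  have hmod : ∀ x ∈ O₁, ∃ p ∈ zpowers a₁, p * x ∈ N := by
    intro x hx
    obtain ⟨p, hp, ep⟩ := D.c₁.z_inv hx
    have h1 : x⁻¹ * c * x * c⁻¹ ∈ N := by
      have h := mul_mem (hn₁ x⁻¹ (D.c₁.ct_le_normalizer (D.c₁.le (inv_mem hx))) c hc) (inv_mem hc)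
      simpa using h
    have hq := D.c₁.conj_mod hu (inv_mem hx)
    rw [inv_inv] at hq
    have h2 : x⁻¹ * c * x * c⁻¹ = p * (u * x⁻¹ * u⁻¹ * x) * (x * x)⁻¹ := by
      have hq' : Commute (u * x⁻¹ * u⁻¹ * x) x⁻¹ := (D.c₁.za_comm hq (D.c₁.le (inv_mem hx))).symm
      calc x⁻¹ * c * x * c⁻¹ = x⁻¹ * (u * (z₁ * x * z₁⁻¹)) * u⁻¹ := by rw [e]; group
        _ = x⁻¹ * (p * u) * x⁻¹ * u⁻¹ := by rw [ep, ← D.c₁.za_comm hp (D.c₁.le hu)]; group
        _ = p * (x⁻¹ * ((u * x⁻¹ * u⁻¹ * x) * x⁻¹)) := by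
          rw [← mul_assoc, D.c₁.za_comm hp (D.c₁.le (inv_mem hx))]; group
        _ = p * ((u * x⁻¹ * u⁻¹ * x) * (x⁻¹ * x⁻¹)) := by rw [← mul_assoc x⁻¹, ← hq'.eq]; group
        _ = _ := by group
    rw [h2] at h1
    have hp' := mul_mem hp hq
    have h3 := pow_mem (inv_mem h1) 122
    have e3 : ((p * (u * x⁻¹ * u⁻¹ * x) * (x * x)⁻¹)⁻¹) ^ 122 =
        ((p * (u * x⁻¹ * u⁻¹ * x))⁻¹) ^ 122 * x := by
      have hcm : Commute (x * x) (p * (u * x⁻¹ * u⁻¹ * x))⁻¹ :=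
        D.c₁.za_comm (inv_mem hp') (D.c₁.le (mul_mem hx hx))
      rw [mul_inv_rev, inv_inv, hcm.eq, hcm.symm.mul_pow, ← sq x, ← pow_mul, show 2 * 122 = 243 + 1 by rfl,
        pow_succ x 243, D.c₁.pow243 hx, one_mul]
    exact ⟨_, pow_mem (inv_mem hp') 122, e3 ▸ h3⟩
  have haN : zpowers a₁ ≤ N := by
    rw [← D.c₁.dr_eq D.nonabelian]
    refine commutator_le.2 fun x hx y hy => ?_
    obtain ⟨p, hp, hpx⟩ := hmod x hx
    obtain ⟨q, hq, hqy⟩ := hmod y hy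
    have h : ⁅p * x, q * y⁆ ∈ N :=
      mul_mem (mul_mem (mul_mem hpx hqy) (inv_mem hpx)) (inv_mem hqy)
    have e : ⁅p * x, q * y⁆ = ⁅x, y⁆ := by
      simp only [commutatorElement_def]
      calc p * x * (q * y) * (p * x)⁻¹ * (q * y)⁻¹ = p * (x * q) * y * x⁻¹ * (p⁻¹ * y⁻¹) * q⁻¹ := by group
        _ = p * (q * x) * y * x⁻¹ * (y⁻¹ * p⁻¹) * q⁻¹ := by
          rw [D.c₁.za_comm hq (D.c₁.le hx), D.c₁.za_comm (inv_mem hp) (D.c₁.le (inv_mem hy))]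
        _ = p * q * (x * y * x⁻¹ * y⁻¹) * (p⁻¹ * q⁻¹) := by group
        _ = (x * y * x⁻¹ * y⁻¹) * (p * q) * (p⁻¹ * q⁻¹) := by
          rw [D.c₁.za_comm (mul_mem hp hq) (mul_mem (mul_mem (mul_mem (D.c₁.le hx) (D.c₁.le hy))
            (inv_mem (D.c₁.le hx))) (inv_mem (D.c₁.le hy)))]
        _ = _ := by
          rw [show (x * y * x⁻¹ * y⁻¹) * (p * q) * (p⁻¹ * q⁻¹) = (x * y * x⁻¹ * y⁻¹) * (p * (q * p⁻¹) * q⁻¹) by group,
            ← D.c₁.za_comm (inv_mem hp) (D.c₁.le (D.c₁.za_le hq)) |>.symm]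
          group
    exact e ▸ h
  have hON : O₁ ≤ N := fun x hx => by
    obtain ⟨p, hp, hpx⟩ := hmod x hx
    simpa using mul_mem (inv_mem (haN hp)) hpx
  obtain ⟨x, hx, hx2⟩ : ∃ x ∈ O₁, x ∉ O₂ := by
    by_contra! h
    exact D.O_ne (eq_of_le_of_card_ge h (by rw [D.c₁.card, D.c₂.card]))
  obtain ⟨-, hh⟩ := D.c₂.normal_cases (M := N) (fun g hg => hn₂ g (D.c₂.ct_le_normalizer hg)) (hON hx)
    (D.le₂ (D.O₁_le hx)) hx2
  obtain ⟨d, hd, hdc, ed⟩ := hh (D.c₂.not_mem_cube D.card D.le₂ (D.O₁_le hx))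
  obtain ⟨v, hv, ev⟩ := D.c₂.decomp (mul_mem hdc hdc)
  rw [D.c₂.pr_mul hdc hdc, ed, D.c₂.neg] at ev
  have hda := D.c₁.normalizer_cases (hN hd).1
  have hfix : d * d * a₁ * (d * d)⁻¹ = a₁ := by
    rcases hda with h | h
    · rw [mem_Ct.1 (mul_mem h h), mul_inv_cancel_right]
    · calc d * d * a₁ * (d * d)⁻¹ = d * (d * a₁ * d⁻¹) * d⁻¹ := by group
        _ = (d * a₁ * d⁻¹)⁻¹ := by
          conv_lhs => rw [h]
          group
        _ = a₁ := by rw [h, inv_inv]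
  have hva : Commute v a₁ := mem_Ct.1 (D.le₁ (D.symm.O₁_le hv))
  refine D.symm.a₂_not_mem (D.c₂.eq_za_of_fix D.symm.a₂_mem ?_)
  rw [ev] at hfix
  calc z₂ * a₁ * z₂⁻¹ = v⁻¹ * (v * z₂ * a₁ * (v * z₂)⁻¹) * v := by group
    _ = a₁ := by rw [hfix, mul_assoc, ← hva.eq, inv_mul_cancel_left]

theorem core_le_zc {N : Subgroup G} (hN : N ≤ normalizer (zpowers a₁ : Set G) ⊓ normalizer (zpowers a₂ : Set G))
    (hn₁ : ∀ g ∈ normalizer (zpowers a₁ : Set G), ∀ x ∈ N, g * x * g⁻¹ ∈ N)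
    (hn₂ : ∀ g ∈ normalizer (zpowers a₂ : Set G), ∀ x ∈ N, g * x * g⁻¹ ∈ N) : N ≤ zc O₁ := by
  have hin : ∀ n ∈ N, n ∈ O₁ := fun n hn => by
    refine D.core_le hN hn₁ hn₂ hn ((D.c₁.normalizer_cases (hN hn).1).resolve_right fun e => ?_)
    have hk : K₁ s₁ ∈ normalizer (zpowers a₁ : Set G) := D.c₁.ct_le_normalizer (D.c₁.K_mem _)
    have hm : n * K₁ s₁ * n⁻¹ * (K₁ s₁)⁻¹ ∈ N := by
      have h := mul_mem hn (hn₁ _ hk _ (inv_mem hn))
      convert h using 1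
      group
    have he : n⁻¹ * a₁ * n = a₁⁻¹ := by
      calc n⁻¹ * a₁ * n = n⁻¹ * (n * a₁ * n⁻¹)⁻¹ * n := by rw [e, inv_inv]
        _ = _ := by group
    refine D.c₁.not_fix D.i₁ e (D.core_le hN hn₁ hn₂ hm (mul_mem (mem_Ct.2 ?_) (inv_mem (D.c₁.K_mem _))))
    calc n * K₁ s₁ * n⁻¹ * a₁ = n * (K₁ s₁ * (n⁻¹ * a₁ * n)) * n⁻¹ := by group
      _ = n * (a₁⁻¹ * K₁ s₁) * n⁻¹ := by rw [he, (Commute.inv_right (D.c₁.comm s₁).symm).eq]
      _ = _ := by rw [← he]; group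
  have hN' : N ≤ normalizer (zpowers a₂ : Set G) ⊓ normalizer (zpowers a₁ : Set G) := inf_comm (normalizer (zpowers a₁ : Set G)) _ ▸ hN
  have hin₂ : ∀ n ∈ N, n ∈ O₂ := fun n hn =>
    D.symm.core_le hN' hn₂ hn₁ hn (D.le₂ (D.O₁_le (hin n hn)))
  have habN : ∀ x ∈ N, ∀ y ∈ N, x * y = y * x := by
    intro x hx y hy
    refine commutatorElement_eq_one_iff_mul_comm.1 ?_
    have e₁ := D.c₁.comm_O (hin x hx) (hin y hy)
    have e₂ := D.c₂.comm_O (hin₂ x hx) (hin₂ y hy)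
    rcases D.c₂.mem_za e₂ with h | h | h
    · exact h
    · exact absurd (h ▸ e₁) D.a₂_not_mem
    · exact absurd (inv_inv a₂ ▸ inv_mem (h ▸ e₁)) D.a₂_not_mem
  obtain ⟨hz, hzn⟩ := D.c₁.zc_facts
  have hzn' : ∀ g ∈ Ct a₁, ∀ x ∈ zc O₁, g * x * g⁻¹ ∈ zc O₁ := fun g hg => hzn g (D.c₁.ct_le_normalizer hg)
  have hsup : ∀ (Y : Subgroup G), (∀ g ∈ Ct a₁, ∀ x ∈ Y, g * x * g⁻¹ ∈ Y) →
      ∀ g ∈ Ct a₁, ∀ x ∈ N ⊔ Y, g * x * g⁻¹ ∈ N ⊔ Y := by
    intro Y hY g hg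
    have h : N ⊔ Y ≤ (N ⊔ Y).comap (MulAut.conj g).toMonoidHom := sup_le
      (fun x hx => mem_sup_left (hn₁ g (D.c₁.ct_le_normalizer hg) x hx))
      (fun x hx => mem_sup_right (hY g hg x hx))
    exact fun x hx => h hx
  have hc := D.c₁.card_zc D.nonabelian D.a₂_zc
  have hNz : N ≤ zc O₁ := by
    by_contra hno
    have hle : N ⊔ zc O₁ ≤ O₁ := sup_le hin inf_le_left
    have hd : Nat.card (N ⊔ zc O₁ : Subgroup G) ∣ 3 ^ 5 := (card_dvd_of_le hle).trans (by rw [D.c₁.card]; rfl)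
    have h27 : Nat.card (zc O₁) ∣ Nat.card (N ⊔ zc O₁ : Subgroup G) := card_dvd_of_le le_sup_right
    obtain ⟨k, hk, e⟩ := (Nat.dvd_prime_pow Nat.prime_three).1 hd
    rw [hc, e] at h27
    interval_cases k <;> simp only [Nat.reducePow] at e h27
    · norm_num at h27
    · norm_num at h27
    · norm_num at h27
    · exact hno (le_sup_left.trans_eq (eq_of_le_of_card_ge le_sup_right (by rw [hc, e])).symm)
    · exact D.c₁.not_three hz le_sup_right hle hzn' (hsup _ hzn') (by rw [hc, e])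
    · have hO : N ⊔ zc O₁ = O₁ := eq_of_le_of_card_ge hle (by rw [D.c₁.card, e])
      refine hno fun x hx => ⟨hin x hx, mem_centralizer_iff.2 ?_⟩
      have hcl : N ⊔ zc O₁ ≤ centralizer ({x} : Set G) := sup_le
        (fun y hy => mem_centralizer_singleton_iff.2 (habN y hy x hx))
        (fun y hy => mem_centralizer_singleton_iff.2 (mem_centralizer_iff.1 hy.2 x (hin x hx)).symm)
      exact fun q hq => mem_centralizer_singleton_iff.1 (hcl (hO.symm ▸ hq : q ∈ N ⊔ zc O₁))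
  exact hNz

theorem core_eq_bot {N : Subgroup G} (hN : N ≤ normalizer (zpowers a₁ : Set G) ⊓ normalizer (zpowers a₂ : Set G))
    (hn₁ : ∀ g ∈ normalizer (zpowers a₁ : Set G), ∀ x ∈ N, g * x * g⁻¹ ∈ N)
    (hn₂ : ∀ g ∈ normalizer (zpowers a₂ : Set G), ∀ x ∈ N, g * x * g⁻¹ ∈ N) : N = ⊥ := by
  have hN' : N ≤ normalizer (zpowers a₂ : Set G) ⊓ normalizer (zpowers a₁ : Set G) :=
    inf_comm (normalizer (zpowers a₁ : Set G)) _ ▸ hN
  have hNz := D.core_le_zc hN hn₁ hn₂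
  have hNz₂ := D.symm.core_le_zc hN' hn₂ hn₁
  obtain ⟨hz, hzn⟩ := D.c₁.zc_facts
  have hc := D.c₁.card_zc D.nonabelian D.a₂_zc
  have hsup : ∀ (Y : Subgroup G), (∀ g ∈ Ct a₁, ∀ x ∈ Y, g * x * g⁻¹ ∈ Y) →
      ∀ g ∈ Ct a₁, ∀ x ∈ N ⊔ Y, g * x * g⁻¹ ∈ N ⊔ Y := by
    intro Y hY g hg
    have h : N ⊔ Y ≤ (N ⊔ Y).comap (MulAut.conj g).toMonoidHom := sup_le
      (fun x hx => mem_sup_left (hn₁ g (D.c₁.ct_le_normalizer hg) x hx))
      (fun x hx => mem_sup_right (hY g hg x hx))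
    exact fun x hx => h hx
  by_contra hne
  have hfull : N ⊔ zpowers a₁ = zc O₁ := by
    have hle : N ⊔ zpowers a₁ ≤ zc O₁ := sup_le hNz hz
    have hd : Nat.card (N ⊔ zpowers a₁ : Subgroup G) ∣ 3 ^ 3 := (card_dvd_of_le hle).trans (by rw [hc]; rfl)
    have h3 : Nat.card (zpowers a₁) ∣ Nat.card (N ⊔ zpowers a₁ : Subgroup G) := card_dvd_of_le le_sup_right
    obtain ⟨k, hk, e⟩ := (Nat.dvd_prime_pow Nat.prime_three).1 hd
    rw [D.c₁.card_za, e] at h3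
    interval_cases k <;> simp only [Nat.reducePow] at e h3
    · norm_num at h3
    · have h1 : N ≤ zpowers a₁ :=
        le_sup_left.trans_eq (eq_of_le_of_card_ge le_sup_right (by rw [D.c₁.card_za, e])).symm
      have h2 : N = zpowers a₁ := by
        refine eq_of_le_of_card_ge h1 ?_
        have hN3 : Nat.card N ∣ 3 := D.c₁.card_za ▸ card_dvd_of_le h1
        rcases (Nat.dvd_prime Nat.prime_three).1 hN3 with h | h
        · exact absurd (card_eq_one.1 h) hne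
        · rw [h, D.c₁.card_za]
      refine absurd (eq_of_le_of_card_ge ?_ ?_) D.symm.N_ne
      · intro g hg
        refine mem_normalizer_iff.2 fun x => ⟨fun hx => h2 ▸ hn₂ g hg x (h2 ▸ hx), fun hx => ?_⟩
        have := hn₂ g⁻¹ (inv_mem hg) _ (h2 ▸ hx)
        rw [h2] at this
        simpa [mul_assoc] using this
      · rw [D.c₁.card_normalizer D.i₁, D.c₂.card_normalizer D.i₂]
    · exact absurd (by rw [e, D.c₁.card_za]) (D.c₁.not_three le_rfl le_sup_right (hle.trans inf_le_left)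
        (fun g hg x hx => by rwa [D.c₁.za_fix hx hg]) (hsup _ fun g hg x hx => by rwa [D.c₁.za_fix hx hg]))
    · exact eq_of_le_of_card_ge hle (by rw [hc, e])
  obtain ⟨y, hy, hy1⟩ : ∃ y ∈ O₂, y ∉ O₁ := by
    by_contra! h
    exact D.O_ne (eq_of_le_of_card_ge h (by rw [D.c₁.card, D.c₂.card])).symm
  refine D.c₁.no_fix_centre D.le₁ D.a₂_zc (D.symm.O₁_le hy) hy1 fun w hw => ?_
  have hle : zc O₁ ≤ centralizer ({y} : Set G) := by
    rw [← hfull]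
    have hy' : y ∈ Ct a₁ := D.le₁ (D.symm.O₁_le hy)
    refine sup_le (fun x hx => mem_centralizer_singleton_iff.2 ?_)
      (fun x hx => mem_centralizer_singleton_iff.2 (D.c₁.za_comm hx hy').symm)
    have hx2 : x ∈ zc O₂ := hNz₂ hx
    exact (mem_centralizer_iff.1 hx2.2 y hy).symm
  exact (mem_centralizer_singleton_iff.1 (hle hw)).symm

end Duo

end CfsgLib.GTwoTwoLocal
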