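import Cfsg.Agent.Lib.GTwoTwoLocal.ThreeFrame

/-!
The normaliser of an element of order three as a parabolic.
-/

set_option autoImplicit false
set_option linter.unusedSectionVars false

namespace CfsgLib.GTwoTwoLocal

open Subgroup
open CfsgLib.GL23 (Ct mem_Ct)
open CfsgLib.GTwoThreeAmalgam (zc dr mem_three comm_of_order_three Side)
open scoped commutatorElement

variable {G : Type*} [Group G] [Finite G]

/-- An element inverting `a` and an element of order three of the complement. -/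
structure Inverter (a : G) (K : SL →* G) (h : G) (s : SL) : Prop where
  ha : h * a * h⁻¹ = a⁻¹
  hs : h * K s * h⁻¹ = (K s)⁻¹
  s_ne : s ≠ 1
  s_cube : s * s * s = 1

namespace Cube

variable {z a : G} {O : Subgroup G} {K : SL →* G} (C : Cube z a O K)
include C

theorem normalizer_cases {n : G} (hn : n ∈ normalizer (zpowers a : Set G)) :
    n ∈ Ct a ∨ n * a * n⁻¹ = a⁻¹ := by
  have h := C.mem_za ((mem_normalizer_iff.1 hn a).1 (mem_zpowers a))
  rcases h with h | h | h
  · exact absurd (conj_eq_one_iff.1 h) C.ne_one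
  · exact Or.inl (mem_Ct.2 (mul_inv_eq_iff_eq_mul.1 h))
  · exact Or.inr h

theorem ct_le_normalizer : Ct a ≤ normalizer (zpowers a : Set G) := fun n hn =>
  mem_normalizer_iff_map_conj_eq.2 (by
    rw [MonoidHom.map_zpowers]
    congr 1
    exact mul_inv_eq_iff_eq_mul.2 (mem_Ct.1 hn))

theorem three_mem_ct {x : G} (hx : x ∈ normalizer (zpowers a : Set G)) (h : x ^ 729 = 1) : x ∈ Ct a :=
  mem_Ct.2 (comm_of_order_three h C.a_pow (C.mem_za ((mem_normalizer_iff.1 hx a).1 (mem_zpowers a))))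

theorem le_O_of_normal {M : Subgroup G} (hM : M ≤ normalizer (zpowers a : Set G))
    (hn : ∀ g ∈ Ct a, ∀ x ∈ M, g * x * g⁻¹ ∈ M) (h3 : ∀ x ∈ M, x ^ 243 = 1) : M ≤ O :=
  C.le_O_of_threeGroup (n := 5) (fun x hx => C.three_mem_ct (hM hx)
      (by rw [show 729 = 243 * 3 by rfl, pow_mul, h3 x hx, one_pow])) hn
    fun x hx => by simpa using h3 x hx

theorem conj_O {n u : G} (hn : n ∈ normalizer (zpowers a : Set G)) (hu : u ∈ O) : n * u * n⁻¹ ∈ O := by
  let M : Subgroup G := O.comap (MulAut.conj n⁻¹).toMonoidHom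
  have hM : ∀ {x}, x ∈ M ↔ n⁻¹ * x * n ∈ O := by intro x; simp [M, mul_assoc]
  have hle : M ≤ normalizer (zpowers a : Set G) := fun x hx => by
    have h := mul_mem (mul_mem hn (C.ct_le_normalizer (C.le (hM.1 hx)))) (inv_mem hn)
    convert h using 1
    group
  refine C.le_O_of_normal hle (fun g hg x hx => hM.2 ?_) (fun x hx => ?_) (hM.2 ?_)
  · have hg' : n⁻¹ * g * n ∈ Ct a := by
      rcases C.normalizer_cases hn with h | h
      · exact mul_mem (mul_mem (inv_mem h) hg) h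
      · refine mem_Ct.2 ?_
        have e : n * a = a⁻¹ * n := by rw [← h]; group
        have e' : g * a⁻¹ = a⁻¹ * g := (Commute.inv_right (mem_Ct.1 hg : Commute g a)).eq
        calc n⁻¹ * g * n * a = n⁻¹ * g * (n * a) := by group
          _ = n⁻¹ * (g * a⁻¹) * n := by rw [e]; group
          _ = n⁻¹ * (a⁻¹ * n) * (n⁻¹ * g * n) := by rw [e']; group
          _ = _ := by rw [← e]; group
    have h := C.norm _ hg' _ (hM.1 hx)
    convert h using 1
    group
  · have h : (n⁻¹ * x * n) ^ 243 = 1 := C.pow243 (hM.1 hx)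
    have e : x = MulAut.conj n (n⁻¹ * x * n) := by simp [mul_assoc]
    rw [e, ← map_pow, h, map_one]
  · simpa [mul_assoc] using hu

variable {h : G} {s : SL} (I : Inverter a K h s)
include I

theorem h_mem : h ∈ normalizer (zpowers a : Set G) :=
  mem_normalizer_iff_map_conj_eq.2 (by
    rw [MonoidHom.map_zpowers]
    exact (congrArg zpowers (I.ha : MulAut.conj h a = a⁻¹)).trans zpowers_inv)

theorem mul_h_mem {n : G} (hn : n * a * n⁻¹ = a⁻¹) : n * h ∈ Ct a := by
  refine mem_Ct.2 (mul_inv_eq_iff_eq_mul.1 ?_)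
  calc n * h * a * (n * h)⁻¹ = n * (h * a * h⁻¹) * n⁻¹ := by group
    _ = (n * a * n⁻¹)⁻¹ := by rw [I.ha]; group
    _ = a := by rw [hn, inv_inv]

/-- An element inverting `a` acts non-trivially on the quotient by `O`. -/
theorem not_fix {n : G} (hn : n * a * n⁻¹ = a⁻¹) : n * K s * n⁻¹ * (K s)⁻¹ ∉ O := by
  intro hO
  have hc := C.mul_h_mem I hn
  have hK := C.K_mem s
  have hm : n * K s * n⁻¹ ∈ Ct a := by
    have := mul_mem (C.le hO) hK
    rwa [inv_mul_cancel_right] at this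
  have h1 : C.pr (n * K s * n⁻¹) = s := by
    have := C.pr_mul (C.le hO) hK
    rwa [inv_mul_cancel_right, C.pr_O hO, one_mul, C.pr_K] at this
  have h2 : n * h * K s * (n * h)⁻¹ = (n * K s * n⁻¹)⁻¹ := by
    rw [show n * h * K s * (n * h)⁻¹ = n * (h * K s * h⁻¹) * n⁻¹ by group, I.hs]
    group
  have h3 := C.pr_conj hK hc
  rw [h2, C.pr_inv hm, h1, C.pr_K] at h3
  exact sl_not_real I.s_cube I.s_ne _ h3.symm

theorem mem_ct_of_comm {M : Subgroup G} {n : G} (hn : n ∈ normalizer (zpowers a : Set G))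
    (hM : M ≤ O) (hnM : n * K s * n⁻¹ * (K s)⁻¹ ∈ M) : n ∈ Ct a :=
  (C.normalizer_cases hn).resolve_right fun e => C.not_fix I e (hM hnM)

theorem card_normalizer : Nat.card (normalizer (zpowers a : Set G) : Subgroup G) = 243 * 48 := by
  have hle := C.ct_le_normalizer
  have hi : ((Ct a).subgroupOf (normalizer (zpowers a : Set G))).index = 2 := by
    rw [index_eq_two_iff]
    refine ⟨⟨h, C.h_mem I⟩, fun n => ?_⟩
    simp only [mem_subgroupOf, Subgroup.coe_mul]
    rcases C.normalizer_cases n.2 with hn | hn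
    · refine Or.inr ⟨hn, fun e => ?_⟩
      have hh : h ∈ Ct a := by simpa using mul_mem (inv_mem hn) e
      have e1 : a = a⁻¹ := by rw [← I.ha]; exact (mul_inv_eq_iff_eq_mul.2 (mem_Ct.1 hh)).symm
      exact C.ne_one (GTwoThreeAmalgam.eq_one_of_sq_and_odd (mul_eq_one_iff_eq_inv.2 e1) (n := 3)
        (by decide) C.a_pow)
    · refine Or.inl ⟨C.mul_h_mem I hn, fun e => ?_⟩
      have e1 : a = a⁻¹ := by rw [← hn]; exact (mul_inv_eq_iff_eq_mul.2 (mem_Ct.1 e)).symm
      exact C.ne_one (GTwoThreeAmalgam.eq_one_of_sq_and_odd (mul_eq_one_iff_eq_inv.2 e1) (n := 3)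
        (by decide) C.a_pow)
  have h := card_mul_index ((Ct a).subgroupOf (normalizer (zpowers a : Set G)))
  rw [Nat.card_congr (subgroupOfEquivOfLe hle).toEquiv, hi, C.cardC] at h
  omega

variable (hna : ∃ x ∈ O, ∃ y ∈ O, x * y ≠ y * x) (hw : ∃ w ∈ zc O, w ∉ zpowers a)

omit I in
include hna in
theorem dr_eq : dr O = zpowers a := by
  have hle : dr O ≤ zpowers a := commutator_le.2 fun x hx y hy => C.comm_O hx hy
  obtain ⟨x, hx, y, hy, hxy⟩ := hna
  have hc : ⁅x, y⁆ ∈ dr O := commutator_mem_commutator hx hy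
  have hc1 : ⁅x, y⁆ ≠ 1 := fun e => hxy (commutatorElement_eq_one_iff_mul_comm.1 e)
  refine le_antisymm hle (zpowers_le.2 ?_)
  rcases C.mem_za (hle hc) with e | e | e
  · exact absurd e hc1
  · exact e ▸ hc
  · rw [e] at hc; simpa using inv_mem hc

omit I in
theorem zc_facts : zpowers a ≤ zc O ∧ (∀ g ∈ normalizer (zpowers a : Set G), ∀ x ∈ zc O, g * x * g⁻¹ ∈ zc O) := by
  refine ⟨zpowers_le.2 ⟨C.a_mem, mem_centralizer_iff.2 fun u hu => mem_Ct.1 (C.le hu)⟩, fun g hg x hx => ?_⟩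
  refine ⟨C.conj_O hg hx.1, mem_centralizer_iff.2 fun q hq => ?_⟩
  have h1 := mem_centralizer_iff.1 hx.2 (g⁻¹ * q * g)
    (by simpa using C.conj_O (inv_mem hg) hq)
  calc q * (g * x * g⁻¹) = g * (g⁻¹ * q * g * x) * g⁻¹ := by group
    _ = g * (x * (g⁻¹ * q * g)) * g⁻¹ := by rw [h1]
    _ = _ := by group

omit I in
include hna hw in
theorem card_zc : Nat.card (zc O) = 27 := by
  obtain ⟨hz, hzn⟩ := C.zc_facts
  have hzn' : ∀ g ∈ Ct a, ∀ x ∈ zc O, g * x * g⁻¹ ∈ zc O := fun g hg => hzn g (C.ct_le_normalizer hg)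
  have hOn : ∀ g ∈ Ct a, ∀ x ∈ zpowers a, g * x * g⁻¹ ∈ zpowers a := fun g hg x hx => by rwa [C.za_fix hx hg]
  have hne : zc O ≠ O := by
    intro e
    obtain ⟨x, hx, y, hy, hxy⟩ := hna
    exact hxy ((mem_centralizer_iff.1 (e.symm ▸ hy : y ∈ zc O).2) x hx)
  have hd : Nat.card (zc O) ∣ 3 ^ 5 := (card_dvd_of_le (inf_le_left : zc O ≤ O)).trans (by rw [C.card]; rfl)
  obtain ⟨k, hk, e⟩ := (Nat.dvd_prime_pow Nat.prime_three).1 hd
  have h3 : Nat.card (zpowers a) ∣ Nat.card (zc O) := card_dvd_of_le hz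
  interval_cases k <;> simp only [Nat.reducePow] at e
  · rw [C.card_za, e] at h3; norm_num at h3
  · obtain ⟨w, hw, hw1⟩ := hw
    exact absurd (eq_of_le_of_card_ge hz (by rw [C.card_za, e]) ▸ hw) hw1
  · exact absurd (by rw [C.card_za, e]) (C.not_three le_rfl hz inf_le_left hOn hzn')
  · exact e
  · exact absurd (by rw [C.card, e]) (C.not_three hz inf_le_left le_rfl hzn' C.norm)
  · exact absurd (eq_of_le_of_card_ge inf_le_left (by rw [C.card, e])) hne

include hna hw in
theorem side : Side (normalizer (zpowers a : Set G)) O := by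
  obtain ⟨hz, hzn⟩ := C.zc_facts
  have hd := C.dr_eq hna
  have hc := C.card_zc hna hw
  have hzn' : ∀ g ∈ Ct a, ∀ x ∈ zc O, g * x * g⁻¹ ∈ zc O := fun g hg => hzn g (C.ct_le_normalizer hg)
  have hOn : ∀ g ∈ Ct a, ∀ x ∈ zpowers a, g * x * g⁻¹ ∈ zpowers a := fun g hg x hx => by rwa [C.za_fix hx hg]
  have hle : O ≤ normalizer (zpowers a : Set G) := C.le.trans C.ct_le_normalizer
  -- triviality on a section
  have key : ∀ (X Y : Subgroup G), zpowers a ≤ Y → Y ≤ X → X ≤ O → Y ≠ X →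
      (∀ g ∈ normalizer (zpowers a : Set G), ∀ x ∈ X, g * x * g⁻¹ ∈ X) →
      (∀ g ∈ normalizer (zpowers a : Set G), ∀ x ∈ Y, g * x * g⁻¹ ∈ Y) →
      ∀ n ∈ normalizer (zpowers a : Set G), (∀ x ∈ X, n * x * n⁻¹ * x⁻¹ ∈ Y) → n ∈ O := by
    intro X Y hY hYX hX hne hXn hYn n hn hact
    have hk : K s ∈ normalizer (zpowers a : Set G) := C.ct_le_normalizer (C.K_mem s)
    have act_ct := fun {m : G} (hm : m ∈ Ct a) => C.mem_O_of_act hY hYX hX
      (fun g hg => hXn g (C.ct_le_normalizer hg)) (fun g hg => hYn g (C.ct_le_normalizer hg)) hne hm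
    rcases C.normalizer_cases hn with h1 | h1
    · exact act_ct h1 hact
    · -- the commutator with `K s` acts trivially as well
      refine absurd (act_ct (m := n * K s * n⁻¹ * (K s)⁻¹) ?_ ?_) (C.not_fix I h1)
      · refine mul_mem (mem_Ct.2 ?_) (inv_mem (C.K_mem s))
        have e : n⁻¹ * a * n = a⁻¹ := by
          have e' : n * a⁻¹ * n⁻¹ = a := by
            rw [show n * a⁻¹ * n⁻¹ = (n * a * n⁻¹)⁻¹ by group, h1, inv_inv]
          calc n⁻¹ * a * n = n⁻¹ * (n * a⁻¹ * n⁻¹) * n := by rw [e']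
            _ = _ := by group
        calc n * K s * n⁻¹ * a = n * (K s * (n⁻¹ * a * n)) * n⁻¹ := by group
          _ = n * (a⁻¹ * K s) * n⁻¹ := by
            rw [e, (Commute.inv_right (C.comm s).symm).eq]
          _ = _ := by rw [← e]; group
      · intro x hx
        have hm : ∀ m ∈ normalizer (zpowers a : Set G), m * x * m⁻¹ ∈ X := fun m hm => hXn m hm x hx
        have h3 : n⁻¹ * ((K s)⁻¹ * x * K s) * n * ((K s)⁻¹ * x * K s)⁻¹ ∈ Y := by
          have hx' : (K s)⁻¹ * x * K s ∈ X := by simpa using hm _ (inv_mem hk)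
          have h := inv_mem (hact _ (hXn n⁻¹ (inv_mem hn) _ hx'))
          convert h using 1
          group
        have hx'' : n⁻¹ * ((K s)⁻¹ * x * K s) * n ∈ X := by
          have := hXn _ (inv_mem hn) _ (hm _ (inv_mem hk))
          simpa using this
        have hy' : K s * (n⁻¹ * ((K s)⁻¹ * x * K s) * n) * (K s)⁻¹ ∈ X := hXn _ hk _ hx''
        have h4 := mul_mem (hact _ hy') (hYn _ hk _ h3)
        convert h4 using 1
        group
  refine ⟨hle, fun g hg x hx => C.conj_O hg hx, C.card, C.card_normalizer I, ?_, hd ▸ hz, ?_, ?_, ?_, by rw [hd]⟩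
  · have h := card_mul_index ((zc O).subgroupOf O)
    rw [Nat.card_congr (subgroupOfEquivOfLe (inf_le_left : zc O ≤ O)).toEquiv, hc, C.card] at h
    omega
  · have h := card_mul_index ((dr O).subgroupOf (zc O))
    rw [Nat.card_congr (subgroupOfEquivOfLe (hd ▸ hz : dr O ≤ zc O)).toEquiv, hd, C.card_za, hc] at h
    rw [hd]
    omega
  · intro n hn
    refine ⟨fun hnO x hx => hz (C.conj_mod hnO hx), key O (zc O) hz inf_le_left le_rfl ?_ (fun g hg x hx => C.conj_O hg hx) hzn n hn⟩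
    intro e
    rw [e, C.card] at hc; omega
  · intro n hn
    rw [hd]
    refine ⟨fun hnO x hx => C.conj_mod hnO hx.1, key (zc O) (zpowers a) le_rfl hz inf_le_left ?_ hzn ?_ n hn⟩
    · intro e
      rw [← e, C.card_za] at hc; omega
    · exact fun g hg x hx => (mem_normalizer_iff.1 hg x).1 hx

end Cube

end CfsgLib.GTwoTwoLocal
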