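import Cfsg.Agent.Lib.GTwoTwoLocal.Factors
import Mathlib.GroupTheory.Perm.Basic
import Mathlib.GroupTheory.Sylow
import Mathlib.GroupTheory.SpecificGroups.Cyclic
import Mathlib.Tactic.NormNum.Prime

/-!
# The two-local subgroup: fusion, and an outer involution
-/

set_option autoImplicit false
set_option linter.unusedSectionVars false

namespace CfsgLib.GTwoTwoLocal

open CfsgLib.GL23 (Ct mem_Ct sq_t t_ne_one)

namespace Cfg

variable {G : Type*} [Group G] [Finite G] (c : Cfg G)

theorem inv_E {e : G} (he : e ∈ c.E) : e⁻¹ = e := inv_eq_of_mul_eq_one_right (c.sq_E e he)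

theorem comm_E {e f : G} (he : e ∈ c.E) (hf : f ∈ c.E) : e * f = f * e := by
  have := c.inv_E (mul_mem he hf)
  rw [mul_inv_rev, c.inv_E he, c.inv_E hf] at this
  exact this.symm

theorem exists_seven : ∃ g ∈ c.M, orderOf g = 7 := by
  haveI : Fact (Nat.Prime 7) := ⟨by norm_num⟩
  obtain ⟨g, hg⟩ := exists_prime_orderOf_dvd_card' (G := c.M) 7 (by rw [c.card_M]; norm_num)
  exact ⟨g, g.2, by rw [← hg, Subgroup.orderOf_coe]⟩

include c in
theorem seven_dvd : 7 ∣ Nat.card G := by
  obtain ⟨g, -, hg⟩ := c.exists_seven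
  rw [← hg]
  exact orderOf_dvd_natCard g

theorem seven_not_cent {g : G} (hg : orderOf g = 7) : g ∉ Ct c.z := by
  intro h
  have := Subgroup.orderOf_dvd_natCard _ h
  rw [hg, c.card_ct] at this
  norm_num at this

/-- An element of order seven moves `z` through all seven involutions. -/
theorem transitive {g : G} (hgM : g ∈ c.M) (hg : orderOf g = 7) {e : G} (he : e ∈ c.E) (he1 : e ≠ 1) :
    ∃ n : ℕ, g ^ n * e * (g ^ n)⁻¹ = c.z := by
  classical
  let f : Fin 7 → {x : c.E // x ≠ 1} := fun n =>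
    ⟨⟨g ^ n.val * c.z * (g ^ n.val)⁻¹, c.conj_E _ (pow_mem hgM _) _ c.z_mem⟩, fun h => by
      have h' := congrArg Subtype.val h
      simp only [OneMemClass.coe_one, conj_eq_one_iff] at h'
      exact c.z_ne h'⟩
  have hinj : Function.Injective f := by
    intro a b hab
    have h' : g ^ a.val * c.z * (g ^ a.val)⁻¹ = g ^ b.val * c.z * (g ^ b.val)⁻¹ :=
      congrArg (fun x => ((x.1 : c.E) : G)) hab
    have key : ∀ i j : Fin 7, i.val ≤ j.val →
        g ^ i.val * c.z * (g ^ i.val)⁻¹ = g ^ j.val * c.z * (g ^ j.val)⁻¹ → i = j := by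
      intro i j hij h
      have hmem : g ^ (j.val - i.val) ∈ Ct c.z := by
        refine mem_Ct.2 ?_
        rw [show g ^ j.val = g ^ i.val * g ^ (j.val - i.val) by rw [← pow_add]; congr 1; omega] at h
        simp only [mul_inv_rev, mul_assoc, mul_right_inj] at h
        simp only [← mul_assoc, mul_left_inj] at h
        exact (mul_inv_eq_iff_eq_mul.1 h.symm)
      by_contra hne
      have hlt : i.val < j.val := lt_of_le_of_ne hij fun e => hne (Fin.ext e)
      refine c.seven_not_cent (g := g ^ (j.val - i.val)) ?_ hmem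
      rw [Nat.Coprime.orderOf_pow]
      · exact hg
      · rw [hg]
        exact ((by norm_num : Nat.Prime 7).coprime_iff_not_dvd).2 fun h => by
          have := Nat.le_of_dvd (by omega) h; omega
    rcases le_total a.val b.val with h | h
    exacts [key a b h h', (key b a h h'.symm).symm]
  have hcard : Nat.card {x : c.E // x ≠ 1} = 7 := by
    haveI := Fintype.ofFinite c.E
    rw [Nat.card_eq_fintype_card, Fintype.card_subtype_compl, Fintype.card_subtype_eq,
      ← Nat.card_eq_fintype_card, c.card_E]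
  obtain ⟨n, hn⟩ := (Function.Injective.bijective_of_nat_card_le hinj
    (by rw [hcard, Nat.card_fin])).2 ⟨⟨e, he⟩, fun h => he1 (congrArg Subtype.val h)⟩
  have hn' : g ^ n.val * c.z * (g ^ n.val)⁻¹ = e := congrArg (fun x => ((x.1 : c.E) : G)) hn
  refine ⟨7 - n.val, ?_⟩
  have h7 : g ^ (7 - n.val) * g ^ n.val = 1 := by
    rw [← pow_add, show 7 - n.val + n.val = orderOf g by omega, pow_orderOf_eq_one]
  rw [← hn', eq_inv_of_mul_eq_one_left h7]
  group

/-- The stabiliser of `z` in the two-local subgroup. -/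
def N : Subgroup G := c.M ⊓ Ct c.z

theorem card_N : Nat.card c.N = 192 := by
  obtain ⟨g, hgM, hg⟩ := c.exists_seven
  let f : Fin 7 × c.N → c.M := fun p => ⟨g ^ p.1.val * p.2, mul_mem (pow_mem hgM _) p.2.2.1⟩
  have hb : Function.Bijective f := by
    constructor
    · rintro ⟨a, x⟩ ⟨b, y⟩ h
      have h' : g ^ a.val * (x : G) = g ^ b.val * y := congrArg Subtype.val h
      have hab : a = b := by
        have key : ∀ (i j : Fin 7) (u v : c.N), i.val ≤ j.val → g ^ i.val * (u : G) = g ^ j.val * v → i = j := by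
          intro i j u v hij h
          rw [show g ^ j.val = g ^ i.val * g ^ (j.val - i.val) by rw [← pow_add]; congr 1; omega,
            mul_assoc, mul_right_inj] at h
          by_contra hne
          have hlt : i.val < j.val := lt_of_le_of_ne hij fun e => hne (Fin.ext e)
          refine c.seven_not_cent (g := g ^ (j.val - i.val)) ?_ ?_
          · rw [Nat.Coprime.orderOf_pow]
            · exact hg
            · rw [hg]
              exact ((by norm_num : Nat.Prime 7).coprime_iff_not_dvd).2 fun h => by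
                have := Nat.le_of_dvd (by omega) h; omega
          · rw [eq_mul_inv_of_mul_eq h.symm]
            exact mul_mem u.2.2 (inv_mem v.2.2)
        rcases le_total a.val b.val with h | h
        exacts [key a b x y h h', (key b a y x h h'.symm).symm]
      subst hab
      exact Prod.ext rfl (Subtype.ext (mul_left_cancel h'))
    · intro m
      obtain ⟨n, hn⟩ := c.transitive hgM hg (c.conj_E m m.2 c.z c.z_mem)
        (by rw [Ne, conj_eq_one_iff]; exact c.z_ne)
      have hx : g ^ n * (m : G) ∈ c.N := by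
        refine ⟨mul_mem (pow_mem hgM n) m.2, mem_Ct.2 ?_⟩
        refine mul_inv_eq_iff_eq_mul.1 ?_
        conv_rhs => rw [← hn]
        group
      refine ⟨(⟨(7 - n % 7) % 7, Nat.mod_lt _ (by norm_num)⟩, ⟨_, hx⟩), Subtype.ext ?_⟩
      show g ^ ((7 - n % 7) % 7) * (g ^ n * (m : G)) = m
      have h1 : g ^ ((7 - n % 7) % 7 + n) = 1 :=
        orderOf_dvd_iff_pow_eq_one.1 (by rw [hg]; omega)
      rw [← mul_assoc, ← pow_add, h1, one_mul]
  have h := Nat.card_eq_of_bijective f hb
  rw [Nat.card_prod, Nat.card_fin, c.card_M] at h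
  omega

theorem E_le_N : c.E ≤ c.N := fun e he => ⟨c.E_le he, mem_Ct.2 (c.comm_E he c.z_mem)⟩

theorem conj_z {x : G} (hx : x ∈ c.N) : x * c.z * x⁻¹ = c.z :=
  mul_inv_eq_iff_eq_mul.2 (mem_Ct.1 hx.2)

/-- Two independent elements modulo `z`. -/
def Indep (e e' : G) : Prop :=
  e ∈ c.E ∧ e' ∈ c.E ∧ e ≠ 1 ∧ e ≠ c.z ∧ e' ≠ 1 ∧ e' ≠ c.z ∧ e' ≠ e ∧ e' ≠ e * c.z

theorem exists_indep : ∃ e e', c.Indep e e' := by
  classical
  have pick : ∀ S : Finset G, S.card ≤ 7 → ∃ e ∈ c.E, e ∉ S := by
    intro S hS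
    by_contra h
    push Not at h
    haveI := Fintype.ofFinite c.E
    have := Finset.card_le_card_of_injOn (s := (Finset.univ : Finset c.E)) (fun x : c.E => (x : G))
      (fun x _ => h x x.2) (fun a _ b _ h => Subtype.ext h)
    rw [Finset.card_univ, ← Nat.card_eq_fintype_card, c.card_E] at this
    omega
  obtain ⟨e, he, h⟩ := pick {1, c.z} (Finset.card_le_two.trans (by norm_num))
  obtain ⟨e', he', h'⟩ := pick {1, c.z, e, e * c.z} (Finset.card_le_four.trans (by norm_num))
  simp only [Finset.mem_insert, Finset.mem_singleton, not_or] at h h'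
  exact ⟨e, e', he, he', h.1, h.2, h'.1, h'.2.1, h'.2.2.1, h'.2.2.2⟩

variable {c}

theorem Indep.symm {e e' : G} (h : c.Indep e e') : c.Indep e' e := by
  obtain ⟨he, he', h1, h2, h1', h2', h3, h4⟩ := h
  refine ⟨he', he, h1', h2', h1, h2, Ne.symm h3, fun h => h4 ?_⟩
  rw [h, mul_assoc, c.z_sq, mul_one]

/-- The eight products. -/
theorem Indep.gen {e e' : G} (h : c.Indep e e') {x : G} (hx : x ∈ c.E) :
    x = 1 ∨ x = c.z ∨ x = e ∨ x = e * c.z ∨ x = e' ∨ x = e' * c.z ∨ x = e * e' ∨ x = e * e' * c.z := by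
  classical
  obtain ⟨he, he', h1, h2, h1', h2', h3, h4⟩ := h
  set S : Finset G := {1, c.z, e, e * c.z, e', e' * c.z, e * e', e * e' * c.z} with hS
  have key : ∀ {p q : G}, p * c.z = q → p = q * c.z := fun {p q} h => by
    rw [← h, mul_assoc, c.z_sq, mul_one]
  have hee : ∀ {q : G}, e * e' = q → e' = e * q := fun {q} h => by
    rw [← h, ← mul_assoc, c.sq_E e he, one_mul]
  have zne := c.z_ne
  have g1 : e * c.z ≠ 1 := fun h => h2 (by rw [key h, one_mul])
  have g2 : e * c.z ≠ c.z := fun h => h1 (mul_eq_right.1 h)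
  have g3 : e * c.z ≠ e := fun h => zne (mul_eq_left.1 h)
  have g4 : e' * c.z ≠ 1 := fun h => h2' (by rw [key h, one_mul])
  have g5 : e' * c.z ≠ c.z := fun h => h1' (mul_eq_right.1 h)
  have g6 : e' * c.z ≠ e := fun h => h4 (key h)
  have g7 : e' * c.z ≠ e * c.z := fun h => h3 (mul_right_cancel h)
  have g8 : e' * c.z ≠ e' := fun h => zne (mul_eq_left.1 h)
  have g9 : e * e' ≠ 1 := fun h => h3 (by rw [hee h, mul_one])
  have g10 : e * e' ≠ c.z := fun h => h4 (hee h)
  have g11 : e * e' ≠ e := fun h => h1' (mul_eq_left.1 h)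
  have g12 : e * e' ≠ e * c.z := fun h => h2' (mul_left_cancel h)
  have g13 : e * e' ≠ e' := fun h => h1 (mul_eq_right.1 h)
  have g14 : e * e' ≠ e' * c.z := fun h => h2 (mul_left_cancel (a := e') (by rw [← c.comm_E he he', h]))
  have g15 : e * e' * c.z ≠ 1 := fun h => g10 (by rw [key h, one_mul])
  have g16 : e * e' * c.z ≠ c.z := fun h => g9 (mul_eq_right.1 h)
  have g17 : e * e' * c.z ≠ e := fun h => g12 (key h)
  have g18 : e * e' * c.z ≠ e * c.z := fun h => g11 (mul_right_cancel h)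
  have g19 : e * e' * c.z ≠ e' := fun h => g14 (key h)
  have g20 : e * e' * c.z ≠ e' * c.z := fun h => g13 (mul_right_cancel h)
  have g21 : e * e' * c.z ≠ e * e' := fun h => zne (mul_eq_left.1 h)
  have hc : S.card = 8 := by
    rw [hS, Finset.card_eq_succ.2 ⟨1, _, ?_, rfl, ?_⟩]
    all_goals simp [zne.symm, h1.symm, h2.symm, h1'.symm, h2'.symm, h3.symm, h4.symm, g1.symm,
      g2.symm, g3.symm, g4.symm, g5.symm, g6.symm, g7.symm, g8.symm, g9.symm, g10.symm, g11.symm,
      g12.symm, g13.symm, g14.symm, g15.symm, g16.symm, g17.symm, g18.symm, g19.symm, g20.symm, g21.symm]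
  have hsub : S ⊆ (c.E : Set G).toFinite.toFinset := by
    intro y hy
    simp only [hS, Finset.mem_insert, Finset.mem_singleton] at hy
    rw [Set.Finite.mem_toFinset]
    rcases hy with rfl | rfl | rfl | rfl | rfl | rfl | rfl | rfl
    exacts [one_mem _, c.z_mem, he, mul_mem he c.z_mem, he', mul_mem he' c.z_mem, mul_mem he he',
      mul_mem (mul_mem he he') c.z_mem]
  have heq : S = (c.E : Set G).toFinite.toFinset := by
    refine Finset.eq_of_subset_of_card_le hsub ?_
    rw [hc, ← Nat.card_eq_card_finite_toFinset]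
    exact c.card_E.le
  have : x ∈ S := by rw [heq, Set.Finite.mem_toFinset]; exact hx
  simpa [hS] using this

theorem Indep.centralizes {e e' : G} (h : c.Indep e e') {x : G} (hx : x ∈ c.N)
    (h1 : x * e * x⁻¹ = e) (h2 : x * e' * x⁻¹ = e') : x ∈ c.E := by
  refine c.self_cent x hx.1 fun y hy => mul_inv_eq_iff_eq_mul.1 ?_
  have hz := c.conj_z hx
  rcases h.gen hy with rfl | rfl | rfl | rfl | rfl | rfl | rfl | rfl
  exacts [by group, hz, h1, by rw [← conj_mul, h1, hz], h2, by rw [← conj_mul, h2, hz],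
    by rw [← conj_mul, h1, h2], by rw [← conj_mul, ← conj_mul, h1, h2, hz]]

variable (c)

/-- The elements fixing each element modulo `z`. -/
def P₀ : Subgroup G where
  carrier := {x | x ∈ c.N ∧ ∀ e ∈ c.E, x * e * x⁻¹ = e ∨ x * e * x⁻¹ = e * c.z}
  one_mem' := ⟨one_mem _, fun e _ => Or.inl (by group)⟩
  mul_mem' := fun {a b} ha hb => ⟨mul_mem ha.1 hb.1, fun e he => by
    rw [show a * b * e * (a * b)⁻¹ = a * (b * e * b⁻¹) * a⁻¹ by group]
    rcases hb.2 e he with h | h <;> rw [h]
    · exact ha.2 e he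
    · rw [conj_mul.symm, c.conj_z ha.1]
      rcases ha.2 e he with h' | h' <;> rw [h']
      · exact Or.inr rfl
      · exact Or.inl (by rw [mul_assoc, c.z_sq, mul_one])⟩
  inv_mem' := fun {a} ha => ⟨inv_mem ha.1, fun e he => by
    rcases ha.2 (a⁻¹ * e * a⁻¹⁻¹) (c.conj_E _ (inv_mem ha.1.1) e he) with h | h
    · left
      rw [show a * (a⁻¹ * e * a⁻¹⁻¹) * a⁻¹ = e by group] at h
      exact h.symm
    · right
      rw [show a * (a⁻¹ * e * a⁻¹⁻¹) * a⁻¹ = e by group] at h
      calc a⁻¹ * e * a⁻¹⁻¹ = a⁻¹ * e * a⁻¹⁻¹ * (c.z * c.z) := by rw [c.z_sq, mul_one]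
        _ = e * c.z := by rw [← mul_assoc, ← h]⟩

theorem E_le_P₀ : c.E ≤ c.P₀ := fun x hx => ⟨c.E_le_N hx, fun e he => Or.inl (by
  rw [c.comm_E hx he, mul_inv_cancel_right])⟩

/-- The classes of the coset action. -/
theorem card_P₀_le : Nat.card c.P₀ ≤ 32 := by
  classical
  obtain ⟨e, e', h⟩ := c.exists_indep
  let ψ : c.P₀ → Bool × Bool := fun x =>
    (decide ((x : G) * e * (x : G)⁻¹ = e), decide ((x : G) * e' * (x : G)⁻¹ = e'))
  haveI := Fintype.ofFinite c.P₀
  haveI := Fintype.ofFinite c.E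
  have hfib : ∀ b ∈ (Finset.univ : Finset (Bool × Bool)),
      (Finset.univ.filter fun x : c.P₀ => ψ x = b).card ≤ 8 := by
    intro b _
    rcases (Finset.univ.filter fun x : c.P₀ => ψ x = b).eq_empty_or_nonempty with h0 | ⟨x₀, hx₀⟩
    · simp [h0]
    rw [← c.card_E, Nat.card_eq_fintype_card, ← Finset.card_univ]
    have hmem : ∀ x ∈ Finset.univ.filter (fun x : c.P₀ => ψ x = b), (x₀ : G)⁻¹ * (x : G) ∈ c.E := by
      intro x hx
      have heq := (Finset.mem_filter.1 hx).2.trans (Finset.mem_filter.1 hx₀).2.symm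
      simp only [ψ, Prod.mk.injEq, decide_eq_decide] at heq
      have same : ∀ y ∈ c.E, ((x : G) * y * (x : G)⁻¹ = y ↔ (x₀ : G) * y * (x₀ : G)⁻¹ = y) →
          (x₀ : G)⁻¹ * x * y * ((x₀ : G)⁻¹ * x)⁻¹ = y := by
        intro y hy hiff
        have hxx : (x : G) * y * (x : G)⁻¹ = (x₀ : G) * y * (x₀ : G)⁻¹ := by
          rcases x.2.2 y hy with a | a <;> rcases x₀.2.2 y hy with b | b
          · rw [a, b]
          · exact absurd ((hiff.1 a).symm.trans b) fun h => c.z_ne (mul_eq_left.1 h.symm)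
          · exact absurd ((hiff.2 b).symm.trans a) fun h => c.z_ne (mul_eq_left.1 h.symm)
          · rw [a, b]
        calc (x₀ : G)⁻¹ * x * y * ((x₀ : G)⁻¹ * x)⁻¹ = (x₀ : G)⁻¹ * ((x : G) * y * (x : G)⁻¹) * x₀ := by group
          _ = y := by rw [hxx]; group
      exact h.centralizes (mul_mem (inv_mem x₀.2.1) x.2.1) (same e h.1 heq.1) (same e' h.2.1 heq.2)
    refine Finset.card_le_card_of_injOn (fun x => if hx : (x₀ : G)⁻¹ * (x : G) ∈ c.E then ⟨_, hx⟩ else 1)
      (fun x _ => Finset.mem_univ _) ?_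
    intro x hx y hy hxy
    simp only [dif_pos (hmem x hx), dif_pos (hmem y hy), Subtype.mk.injEq, mul_right_inj] at hxy
    exact Subtype.ext hxy
  have := Finset.card_le_mul_card_image_of_maps_to (s := (Finset.univ : Finset c.P₀)) (t := Finset.univ)
    (f := ψ) (fun a _ => Finset.mem_univ _) 8 hfib
  rw [Finset.card_univ, ← Nat.card_eq_fintype_card] at this
  simpa using this

end Cfg

end CfsgLib.GTwoTwoLocal
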